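import Mathlib

set_option autoImplicit false

namespace Cfsg.Agent.Helper29

/-- A set containing `1` and stable under left multiplication by the generators (of finite order)
contains the subgroup they generate. -/
theorem closure_subset_of_left_mul {Γ : Type*} [Group Γ] (k S : Set Γ) (h1 : (1 : Γ) ∈ S)
    (hk : ∀ x ∈ k, (∃ n : ℕ, 0 < n ∧ x ^ n = 1) ∧ ∀ s ∈ S, x * s ∈ S) :
    ∀ x ∈ Subgroup.closure k, x ∈ S := by
  have hk' : ∀ x ∈ k, (∀ s ∈ S, x * s ∈ S) ∧ (∀ s ∈ S, x⁻¹ * s ∈ S) := by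
    intro x hx
    obtain ⟨⟨n, hn, hxn⟩, hmul⟩ := hk x hx
    refine ⟨hmul, ?_⟩
    have hpow : ∀ m : ℕ, ∀ s ∈ S, x ^ m * s ∈ S := by
      intro m
      induction m with
      | zero => intro s hs; simpa using hs
      | succ m ih =>
        intro s hs
        rw [pow_succ', mul_assoc]
        exact hmul _ (ih s hs)
    have hinv : x⁻¹ = x ^ (n - 1) := by
      rw [inv_eq_iff_mul_eq_one, ← pow_succ']
      have : n - 1 + 1 = n := by omega
      rw [this, hxn]
    intro s hs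
    rw [hinv]
    exact hpow _ s hs
  have key : ∀ x ∈ Subgroup.closure k, (∀ s ∈ S, x * s ∈ S) ∧ (∀ s ∈ S, x⁻¹ * s ∈ S) := by
    intro x hx
    induction hx using Subgroup.closure_induction with
    | mem x hx => exact hk' x hx
    | one => simp
    | mul x y _ _ ihx ihy =>
      refine ⟨fun s hs => ?_, fun s hs => ?_⟩
      · rw [mul_assoc]; exact ihx.1 _ (ihy.1 s hs)
      · rw [mul_inv_rev, mul_assoc]; exact ihy.2 _ (ihx.2 s hs)
    | inv x _ ih => exact ⟨ih.2, by simpa using ih.1⟩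
  intro x hx
  have := (key x hx).1 1 h1
  simpa using this

/-- Normal form in a quaternion group of order (at most) eight. -/
theorem quat_normal_form {Γ : Type*} [Group Γ] (α β : Γ) (h4 : α ^ 4 = 1)
    (hinv : β * α * β⁻¹ = α⁻¹) (hsq : β ^ 2 = α ^ 2) :
    ∀ x ∈ Subgroup.closure ({α, β} : Set Γ), ∃ i < 4, ∃ j < 2, x = α ^ i * β ^ j := by
  have hβ4 : β ^ 4 = 1 := by
    have : β ^ 4 = (β ^ 2) ^ 2 := by rw [← pow_mul]
    rw [this, hsq, ← pow_mul]; exact h4
  have hα3 : α⁻¹ = α ^ 3 := by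
    rw [inv_eq_iff_mul_eq_one, ← pow_succ']; exact h4
  apply closure_subset_of_left_mul _ {x | ∃ i < 4, ∃ j < 2, x = α ^ i * β ^ j}
  · exact ⟨0, by norm_num, 0, by norm_num, by simp⟩
  · intro x hx
    rcases hx with rfl | rfl
    · refine ⟨⟨4, by norm_num, h4⟩, ?_⟩
      rintro _ ⟨i, hi, j, hj, rfl⟩
      refine ⟨(i + 1) % 4, Nat.mod_lt _ (by norm_num), j, hj, ?_⟩
      rw [← mul_assoc, ← pow_succ', ← pow_eq_pow_mod _ h4]
    · refine ⟨⟨4, by norm_num, hβ4⟩, ?_⟩
      rintro _ ⟨i, hi, j, hj, rfl⟩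
      have h1 : x * α ^ i = α ^ (3 * i) * x := by
        have h2 : x * α ^ i * x⁻¹ = α ^ (3 * i) := by
          rw [← conj_pow, hinv, hα3, ← pow_mul]
        calc x * α ^ i = x * α ^ i * x⁻¹ * x := by group
          _ = α ^ (3 * i) * x := by rw [h2]
      interval_cases j
      · refine ⟨(3 * i) % 4, Nat.mod_lt _ (by norm_num), 1, by norm_num, ?_⟩
        rw [pow_zero, mul_one, pow_one, h1, ← pow_eq_pow_mod _ h4]
      · refine ⟨(3 * i + 2) % 4, Nat.mod_lt _ (by norm_num), 0, by norm_num, ?_⟩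
        rw [pow_zero, mul_one, pow_one, ← mul_assoc, h1, mul_assoc, ← sq, hsq, ← pow_add,
          ← pow_eq_pow_mod _ h4]

/-- The relations of `SL(2,3) = Q₈ ⋊ C₃` on two generators. -/
structure SL23Rel {Γ : Type*} [Group Γ] (α γ : Γ) : Prop where
  a4 : α ^ 4 = 1
  a2 : α ^ 2 ≠ 1
  c3 : γ ^ 3 = 1
  inv : (γ * α * γ⁻¹) * α * (γ * α * γ⁻¹)⁻¹ = α⁻¹
  sq : (γ * α * γ⁻¹) ^ 2 = α ^ 2
  conj : γ * (γ * α * γ⁻¹) * γ⁻¹ = α * (γ * α * γ⁻¹)

namespace SL23Rel

variable {Γ : Type*} [Group Γ] {α γ : Γ}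

theorem normal_form (h : SL23Rel α γ) :
    ∀ x ∈ Subgroup.closure ({α, γ} : Set Γ), ∃ i < 4, ∃ j < 2, ∃ k < 3,
      x = α ^ i * (γ * α * γ⁻¹) ^ j * γ ^ k := by
  apply closure_subset_of_left_mul _
    {x | ∃ i < 4, ∃ j < 2, ∃ k < 3, x = α ^ i * (γ * α * γ⁻¹) ^ j * γ ^ k}
  · exact ⟨0, by norm_num, 0, by norm_num, 0, by norm_num, by simp⟩
  · intro x hx
    rcases hx with rfl | rfl
    · refine ⟨⟨4, by norm_num, h.a4⟩, ?_⟩
      rintro _ ⟨i, hi, j, hj, k, hk, rfl⟩
      refine ⟨(i + 1) % 4, Nat.mod_lt _ (by norm_num), j, hj, k, hk, ?_⟩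
      rw [← mul_assoc, ← mul_assoc, ← pow_succ', ← pow_eq_pow_mod _ h.a4]
    · refine ⟨⟨3, by norm_num, h.c3⟩, ?_⟩
      rintro _ ⟨i, hi, j, hj, k, hk, rfl⟩
      have h1 : x * (α ^ i * (x * α * x⁻¹) ^ j * x ^ k) =
          ((x * α * x⁻¹) ^ i * (α * (x * α * x⁻¹)) ^ j) * x ^ (k + 1) := by
        calc x * (α ^ i * (x * α * x⁻¹) ^ j * x ^ k)
            = (x * α ^ i * x⁻¹) * (x * (x * α * x⁻¹) ^ j * x⁻¹) * (x * x ^ k) := by group
          _ = ((x * α * x⁻¹) ^ i * (α * (x * α * x⁻¹)) ^ j) * x ^ (k + 1) := by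
            rw [← conj_pow, ← conj_pow, h.conj, ← pow_succ']
      have h2 : (x * α * x⁻¹) ^ i * (α * (x * α * x⁻¹)) ^ j ∈
          Subgroup.closure ({α, x * α * x⁻¹} : Set Γ) := by
        have ha : α ∈ Subgroup.closure ({α, x * α * x⁻¹} : Set Γ) :=
          Subgroup.subset_closure (by simp)
        have hb : x * α * x⁻¹ ∈ Subgroup.closure ({α, x * α * x⁻¹} : Set Γ) :=
          Subgroup.subset_closure (by simp)
        exact Subgroup.mul_mem _ (Subgroup.pow_mem _ hb _)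
          (Subgroup.pow_mem _ (Subgroup.mul_mem _ ha hb) _)
      obtain ⟨i', hi', j', hj', h3⟩ := quat_normal_form α (x * α * x⁻¹) h.a4 h.inv h.sq _ h2
      refine ⟨i', hi', j', hj', (k + 1) % 3, Nat.mod_lt _ (by norm_num), ?_⟩
      rw [h1, h3, ← pow_eq_pow_mod _ h.c3]

theorem card_le (h : SL23Rel α γ) : Nat.card (Subgroup.closure ({α, γ} : Set Γ)) ≤ 24 := by
  classical
  have hnf := h.normal_form
  choose fi hfi fj hfj fk hfk hf using hnf
  have hinj : Function.Injective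
      (fun x : Subgroup.closure ({α, γ} : Set Γ) =>
        ((⟨fi x x.2, hfi x x.2⟩ : Fin 4), (⟨fj x x.2, hfj x x.2⟩ : Fin 2),
          (⟨fk x x.2, hfk x x.2⟩ : Fin 3))) := by
    intro x y hxy
    simp only [Prod.mk.injEq, Fin.mk.injEq] at hxy
    obtain ⟨e1, e2, e3⟩ := hxy
    apply Subtype.ext
    rw [hf x x.2, hf y y.2, e1, e2, e3]
  have := Nat.card_le_card_of_injective _ hinj
  simpa using this

theorem card_quat_le {β : Γ} (h4 : α ^ 4 = 1) (hinv : β * α * β⁻¹ = α⁻¹) (hsq : β ^ 2 = α ^ 2) :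
    Nat.card (Subgroup.closure ({α, β} : Set Γ)) ≤ 8 := by
  classical
  have hnf := quat_normal_form α β h4 hinv hsq
  choose fi hfi fj hfj hf using hnf
  have hinj : Function.Injective
      (fun x : Subgroup.closure ({α, β} : Set Γ) =>
        ((⟨fi x x.2, hfi x x.2⟩ : Fin 4), (⟨fj x x.2, hfj x x.2⟩ : Fin 2))) := by
    intro x y hxy
    simp only [Prod.mk.injEq, Fin.mk.injEq] at hxy
    obtain ⟨e1, e2⟩ := hxy
    apply Subtype.ext
    rw [hf x x.2, hf y y.2, e1, e2]
  have := Nat.card_le_card_of_injective _ hinj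
  simpa using this

theorem orderOf_a (h : SL23Rel α γ) : orderOf α = 4 := by
  have := orderOf_eq_prime_pow (p := 2) (n := 1) (x := α) (by simpa using h.a2) (by simpa using h.a4)
  simpa using this

theorem card_eq [Finite Γ] (h : SL23Rel α γ) :
    Nat.card (Subgroup.closure ({α, γ} : Set Γ)) = 24 := by
  haveI : Fact (Nat.Prime 3) := ⟨by norm_num⟩
  have hα : α ∈ Subgroup.closure ({α, γ} : Set Γ) := Subgroup.subset_closure (by simp)
  have hγ : γ ∈ Subgroup.closure ({α, γ} : Set Γ) := Subgroup.subset_closure (by simp)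
  have hβ : γ * α * γ⁻¹ ∈ Subgroup.closure ({α, γ} : Set Γ) :=
    Subgroup.mul_mem _ (Subgroup.mul_mem _ hγ hα) (Subgroup.inv_mem _ hγ)
  -- the quaternion subgroup has order 8
  have hQle : Subgroup.closure ({α, γ * α * γ⁻¹} : Set Γ) ≤ Subgroup.closure ({α, γ} : Set Γ) := by
    rw [Subgroup.closure_le]
    rintro x (rfl | rfl)
    · exact hα
    · exact hβ
  have hαQ : α ∈ Subgroup.closure ({α, γ * α * γ⁻¹} : Set Γ) := Subgroup.subset_closure (by simp)
  have hβQ : γ * α * γ⁻¹ ∈ Subgroup.closure ({α, γ * α * γ⁻¹} : Set Γ) :=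
    Subgroup.subset_closure (by simp)
  have hQ8 := card_quat_le h.a4 h.inv h.sq
  have hzle : Subgroup.zpowers α ≤ Subgroup.closure ({α, γ * α * γ⁻¹} : Set Γ) :=
    Subgroup.zpowers_le.mpr hαQ
  have hβnot : γ * α * γ⁻¹ ∉ Subgroup.zpowers α := by
    intro hc
    obtain ⟨k, hk⟩ := Subgroup.mem_zpowers_iff.mp hc
    have h1 : (γ * α * γ⁻¹) * α * (γ * α * γ⁻¹)⁻¹ = α := by
      rw [← hk]
      have : Commute (α ^ k) α := (Commute.refl α).zpow_left k
      rw [this.eq]; group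
    rw [h.inv] at h1
    apply h.a2
    rw [pow_two]
    calc α * α = α * α⁻¹ := by rw [h1]
      _ = 1 := mul_inv_cancel α
  have h4dvd : 4 ∣ Nat.card (Subgroup.closure ({α, γ * α * γ⁻¹} : Set Γ)) := by
    have := Subgroup.card_dvd_of_le hzle
    rwa [Nat.card_zpowers, h.orderOf_a] at this
  have h4ne : Nat.card (Subgroup.closure ({α, γ * α * γ⁻¹} : Set Γ)) ≠ 4 := by
    intro hc
    have heq := Subgroup.eq_of_le_of_card_ge hzle (by rw [Nat.card_zpowers, h.orderOf_a, hc])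
    exact hβnot (heq ▸ hβQ)
  have hQpos : 0 < Nat.card (Subgroup.closure ({α, γ * α * γ⁻¹} : Set Γ)) := Nat.card_pos
  have hQcard : Nat.card (Subgroup.closure ({α, γ * α * γ⁻¹} : Set Γ)) = 8 := by
    obtain ⟨m, hm⟩ := h4dvd
    omega
  have h8dvd : 8 ∣ Nat.card (Subgroup.closure ({α, γ} : Set Γ)) := by
    have := Subgroup.card_dvd_of_le hQle
    rwa [hQcard] at this
  -- the element of order 3
  have hγ1 : γ ≠ 1 := by
    intro hc
    apply hβnot
    rw [hc]; simp
  have hγo : orderOf γ = 3 := orderOf_eq_prime h.c3 hγ1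
  have h3dvd : 3 ∣ Nat.card (Subgroup.closure ({α, γ} : Set Γ)) := by
    have := Subgroup.card_dvd_of_le (Subgroup.zpowers_le.mpr hγ)
    rwa [Nat.card_zpowers, hγo] at this
  have h24 : 24 ∣ Nat.card (Subgroup.closure ({α, γ} : Set Γ)) := by
    have : Nat.Coprime 8 3 := by norm_num
    exact this.mul_dvd_of_dvd_of_dvd h8dvd h3dvd
  have hle := h.card_le
  have hpos : 0 < Nat.card (Subgroup.closure ({α, γ} : Set Γ)) := Nat.card_pos
  obtain ⟨m, hm⟩ := h24
  omega

theorem closure_eq_top [Finite Γ] (h : SL23Rel α γ) (hΓ : Nat.card Γ = 24) :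
    Subgroup.closure ({α, γ} : Set Γ) = ⊤ :=
  (Subgroup.card_eq_iff_eq_top _).mp (h.card_eq.trans hΓ.symm)

theorem prod {M : Type*} [Group M] {α' γ' : M} (h : SL23Rel α γ) (h' : SL23Rel α' γ') :
    SL23Rel ((α, α') : Γ × M) (γ, γ') := by
  refine ⟨?_, ?_, ?_, ?_, ?_, ?_⟩
  · exact Prod.ext h.a4 h'.a4
  · intro hc
    exact h.a2 (congrArg Prod.fst hc)
  · exact Prod.ext h.c3 h'.c3
  · exact Prod.ext h.inv h'.inv
  · exact Prod.ext h.sq h'.sq
  · exact Prod.ext h.conj h'.conj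

end SL23Rel

/-- Two groups of order 24 generated by pairs satisfying the `SL(2,3)` relations are
isomorphic. -/
theorem mulEquiv_of_sl23Rel {L M : Type*} [Group L] [Group M] [Finite L] [Finite M]
    (hL : Nat.card L = 24) (hM : Nat.card M = 24) (a c : L) (a' c' : M)
    (h : SL23Rel a c) (h' : SL23Rel a' c') : Nonempty (L ≃* M) := by
  have hrel := h.prod h'
  have hcard := hrel.card_eq
  have h1 : Function.Surjective
      ((MonoidHom.fst L M).comp (Subgroup.closure ({(a, a'), (c, c')} : Set (L × M))).subtype) := by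
    rw [← MonoidHom.range_eq_top, MonoidHom.range_comp, Subgroup.range_subtype,
      MonoidHom.map_closure, ← h.closure_eq_top hL]
    congr 1
    ext x
    simp [Set.image_insert_eq]
  have h2 : Function.Surjective
      ((MonoidHom.snd L M).comp (Subgroup.closure ({(a, a'), (c, c')} : Set (L × M))).subtype) := by
    rw [← MonoidHom.range_eq_top, MonoidHom.range_comp, Subgroup.range_subtype,
      MonoidHom.map_closure, ← h'.closure_eq_top hM]
    congr 1
    ext x
    simp [Set.image_insert_eq]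
  have b1 := h1.bijective_of_nat_card_le (by rw [hcard, hL])
  have b2 := h2.bijective_of_nat_card_le (by rw [hcard, hM])
  exact ⟨(MulEquiv.ofBijective _ b1).symm.trans (MulEquiv.ofBijective _ b2)⟩

/-- The generator of order four of `SL(2,3)`. -/
def sl23A : Matrix.SpecialLinearGroup (Fin 2) (ZMod 3) := ⟨!![0, 2; 1, 0], by decide⟩

/-- The generator of order three of `SL(2,3)`. -/
def sl23C : Matrix.SpecialLinearGroup (Fin 2) (ZMod 3) := ⟨!![1, 1; 0, 1], by decide⟩

theorem sl23Rel_sl23 : SL23Rel sl23A sl23C :=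
  ⟨by decide, by decide, by decide, by decide, by decide, by decide⟩

set_option maxRecDepth 100000 in
theorem card_sl23 : Nat.card (Matrix.SpecialLinearGroup (Fin 2) (ZMod 3)) = 24 := by
  rw [Nat.card_eq_fintype_card]
  decide +kernel

/-- Recognition of `SL(2,3)`: a group of order 24 generated by `a` of order four and `c` of order
three with `b = c a c⁻¹` inverting `a`, `b² = a²` and `c b c⁻¹ = a b`. -/
theorem nonempty_mulEquiv_sl23 {L : Type*} [Group L] [Finite L] (hL : Nat.card L = 24) (a c : L)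
    (h : SL23Rel a c) : Nonempty (L ≃* Matrix.SpecialLinearGroup (Fin 2) (ZMod 3)) :=
  mulEquiv_of_sl23Rel hL card_sl23 a c sl23A sl23C h sl23Rel_sl23

end Cfsg.Agent.Helper29
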