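import Mathlib
import Cfsg.Agent.Helper77.D1Defs2
import Cfsg.Agent.Helper65.D1IF
import Cfsg.Agent.Helper79.S4441Setup

/-!
# CALL S4442FB, piece FP (helper29): the sum of the `θ`-coefficients over an inertial class does
not depend on the generator `x ^ j` of `⟨x⟩`.
-/

universe u
set_option autoImplicit false
open Cfsg Cfsg.Agent.Helper77
open scoped ComplexConjugate

namespace Cfsg.Agent.Helper29

variable {G : Type u} [Group G] [Finite G]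

/-- FP -/
theorem d1fb_sum_pow (p : ℕ) [Fact p.Prime] (x : G) (K : Subgroup G) (h : D1Hyp p x K)
    (M₀ : ℕ) (hM₀ : ¬ p ∣ M₀) (hGM : Nat.card G ∣ p * M₀)
    (θ : Cfsg.IrrCharacter K) (χ : Cfsg.IrrCharacter G) (Ω : Finset (Cfsg.IrrCharacter G))
    (hΩ : ∀ χ' : Cfsg.IrrCharacter G, χ' ∈ Ω ↔ galRel M₀ (χ : G → ℂ) (χ' : G → ℂ))
    (j : ℕ) (hj : ¬ p ∣ j) :
    ∑ χ' ∈ Ω, dco K (θ : K → ℂ) (χ' : G → ℂ) (x ^ j)
      = ∑ χ' ∈ Ω, dco K (θ : K → ℂ) (χ' : G → ℂ) x := by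
  classical
  have hp : p.Prime := Fact.out
  have hxp : x ^ p = 1 := by rw [← h.hx]; exact pow_orderOf_eq_one x
  have hcop : Nat.Coprime j p := (Nat.Coprime.symm ((Nat.Prime.coprime_iff_not_dvd hp).2 hj))
  obtain ⟨u, hu⟩ : ∃ u : (ZMod p)ˣ, (u : ZMod p) = (j : ZMod p) :=
    ⟨ZMod.unitOfCoprime j hcop, ZMod.coe_unitOfCoprime j hcop⟩
  obtain ⟨τ, hτ₀, -, hτχ⟩ := (Helper65.d1_inertial p x K h M₀ hM₀ hGM).2.1 u
  have hxu : x ^ (u : ZMod p).val = x ^ j := by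
    rw [hu, ZMod.val_natCast, ← pow_eq_pow_mod j hxp]
  have key : ∀ χ' : Cfsg.IrrCharacter G,
      dco K (θ : K → ℂ) (Helper79.galIrr τ χ' : G → ℂ) x
        = dco K (θ : K → ℂ) (χ' : G → ℂ) (x ^ j) := by
    intro χ'
    unfold dco
    congr 1
    apply finsum_congr
    intro k
    have h1 := hτχ χ' 1 k
    rw [pow_one, one_mul, hxu] at h1
    rw [Helper79.galIrr_apply, h1]
  have hτs : ∀ w : ℂ, w ^ M₀ = 1 → τ.symm w = w := by
    intro w hw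
    rw [RingEquiv.symm_apply_eq, hτ₀ w hw]
  have hmem : ∀ (ρ : ℂ ≃+* ℂ), (∀ w : ℂ, w ^ M₀ = 1 → ρ w = w) →
      ∀ χ' ∈ Ω, Helper79.galIrr ρ χ' ∈ Ω := by
    intro ρ hρ χ' hχ'
    obtain ⟨τ', hτ', hχτ'⟩ := (hΩ χ').1 hχ'
    refine (hΩ _).2 ⟨τ'.trans ρ, fun w hw => ?_, fun g => ?_⟩
    · rw [RingEquiv.trans_apply, hτ' w hw, hρ w hw]
    · rw [Helper79.galIrr_apply, hχτ' g, RingEquiv.trans_apply]
  rw [← Finset.sum_congr rfl (fun χ' _ => key χ')]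
  exact Finset.sum_bij' (fun χ' _ => Helper79.galIrr τ χ')
    (fun χ' _ => Helper79.galIrr τ.symm χ') (fun χ' hχ' => hmem τ hτ₀ χ' hχ')
    (fun χ' hχ' => hmem τ.symm hτs χ' hχ') (fun χ' _ => Helper79.galIrr_symm_galIrr τ χ')
    (fun χ' _ => Helper79.galIrr_galIrr_symm τ χ') (fun χ' _ => rfl)

end Cfsg.Agent.Helper29
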