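import Mathlib
import Cfsg.Prelude.Def_Characters
import Cfsg.Prelude.Def_Blocks
import Cfsg.Agent.Helper77.D1Defs2
import Cfsg.Agent.Helper3.Induced
import Cfsg.Agent.Helper79.Basic

/-!
# CALL S4442B, piece IG (helper29): the `θ`-coefficients at powers of `x` are characters of `⟨x⟩`:
`dco K θ χ (x^i) = ∑_l a(χ, l) ζ^(i l)` with natural numbers `a(χ, l)` (the multiplicities of
`λ_l × θ` in the restriction of `χ` to `⟨x⟩ × K`).
-/

universe u
set_option autoImplicit false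
open Cfsg Cfsg.Agent.Helper77
open scoped ComplexConjugate

namespace Cfsg.Agent.Helper29

theorem d1_zmod_sum_val (n : ℕ) [NeZero n] (f : ℕ → ℂ) :
    ∑ l : ZMod n, f l.val = ∑ m ∈ Finset.range n, f m := by
  cases n with
  | zero => exact absurd rfl (NeZero.ne 0)
  | succ n => exact Fin.sum_univ_eq_sum_range f (n + 1)

/-- Orthogonality of the characters of `ZMod p`. -/
theorem d1_zeta_orth (p : ℕ) [Fact p.Prime] (i : ℕ) (j : ZMod p) :
    ∑ l : ZMod p, conj (d1zeta p ^ (j.val * l.val)) * d1zeta p ^ (i * l.val)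
      = if j = (i : ZMod p) then (p : ℂ) else 0 := by
  have hp : p.Prime := Fact.out
  have hζ : IsPrimitiveRoot (d1zeta p) p := Complex.isPrimitiveRoot_exp p hp.ne_zero
  have hζp : d1zeta p ^ p = 1 := hζ.pow_eq_one
  obtain ⟨ω, hω⟩ : ∃ ω : ℂ, ω = conj (d1zeta p ^ j.val) * d1zeta p ^ i := ⟨_, rfl⟩
  have hterm : ∀ l : ZMod p, conj (d1zeta p ^ (j.val * l.val)) * d1zeta p ^ (i * l.val)
      = ω ^ l.val := by
    intro l
    rw [hω, mul_pow, ← map_pow, ← pow_mul, ← pow_mul]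
  rw [Finset.sum_congr rfl (fun l _ => hterm l), d1_zmod_sum_val p (fun m => ω ^ m)]
  have hnorm : ‖d1zeta p ^ j.val‖ = 1 :=
    Complex.norm_eq_one_of_pow_eq_one (by rw [← pow_mul, mul_comm, pow_mul, hζp, one_pow])
      hp.ne_zero
  have hconj : conj (d1zeta p ^ j.val) = (d1zeta p ^ j.val)⁻¹ := (Complex.inv_eq_conj hnorm).symm
  have hne : d1zeta p ^ j.val ≠ 0 := pow_ne_zero _ (hζ.ne_zero hp.ne_zero)
  by_cases hj : j = (i : ZMod p)
  · rw [if_pos hj]
    have h1 : ω = 1 := by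
      rw [hω, hconj, hj, ZMod.val_natCast, ← pow_eq_pow_mod i hζp, inv_mul_cancel₀]
      rw [pow_eq_pow_mod i hζp, ← ZMod.val_natCast, ← hj]
      exact hne
    rw [h1]
    simp
  · rw [if_neg hj]
    have h1 : ω ≠ 1 := by
      intro h1
      rw [hω, hconj, inv_mul_eq_one₀ hne] at h1
      rw [pow_eq_pow_mod i hζp] at h1
      have h2 := hζ.pow_inj (ZMod.val_lt j) (Nat.mod_lt i hp.pos) h1
      apply hj
      rw [← ZMod.natCast_zmod_val j, h2, ZMod.natCast_mod]
    have h2 : ω ^ p = 1 := by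
      rw [hω, mul_pow, ← map_pow, ← pow_mul, ← pow_mul, mul_comm j.val, mul_comm i, pow_mul,
        pow_mul, hζp, one_pow, one_pow, map_one, one_mul]
    rw [geom_sum_eq h1, h2, sub_self, zero_div]

variable {G : Type u} [Group G] [Finite G]

theorem d1_dco_mult (p : ℕ) [Fact p.Prime] (x : G) (K : Subgroup G) (h : D1Hyp p x K)
    (θ : Cfsg.IrrCharacter K) :
    ∃ a : Cfsg.IrrCharacter G → ZMod p → ℕ, ∀ (χ : Cfsg.IrrCharacter G) (i : ℕ),
      dco K (θ : K → ℂ) (χ : G → ℂ) (x ^ i)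
        = ∑ l : ZMod p, (a χ l : ℂ) * d1zeta p ^ (i * l.val) := by
  classical
  have hp : p.Prime := Fact.out
  haveI : Fintype K := Fintype.ofFinite K
  have hxp : x ^ p = 1 := by rw [← h.hx]; exact pow_orderOf_eq_one x
  have hζ : IsPrimitiveRoot (d1zeta p) p := Complex.isPrimitiveRoot_exp p hp.ne_zero
  have hζp : d1zeta p ^ p = 1 := hζ.pow_eq_one
  have hζ0 : d1zeta p ≠ 0 := hζ.ne_zero hp.ne_zero
  have hKx : ∀ k : K, Commute (k : G) x := fun k => (h.hC k).2 ⟨0, k, k.2, by simp⟩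
  -- the homomorphism `(j, k) ↦ x^j k`
  obtain ⟨φ, hφ⟩ : ∃ φ : Multiplicative (ZMod p) × K →* G,
      ∀ (j : Multiplicative (ZMod p)) (k : K),
        φ (j, k) = x ^ (Multiplicative.toAdd j).val * (k : G) := by
    refine ⟨MonoidHom.mk' (fun jk => x ^ (Multiplicative.toAdd jk.1).val * (jk.2 : G)) ?_,
      fun _ _ => rfl⟩
    rintro ⟨j, k⟩ ⟨j', k'⟩
    show x ^ (Multiplicative.toAdd (j * j')).val * ((k * k' : K) : G)
      = x ^ (Multiplicative.toAdd j).val * (k : G) *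
        (x ^ (Multiplicative.toAdd j').val * (k' : G))
    have h1 := ((hKx k).pow_right (Multiplicative.toAdd j').val).eq
    rw [toAdd_mul, ZMod.val_add, ← pow_eq_pow_mod _ hxp, pow_add]
    push_cast
    simp only [mul_assoc]
    congr 1
    rw [← mul_assoc, ← mul_assoc, h1]
  -- the linear characters `(j, k) ↦ ζ^(j l)`
  obtain ⟨f, hf⟩ : ∃ f : ZMod p → (Multiplicative (ZMod p) × K →* ℂˣ),
      ∀ (l : ZMod p) (j : Multiplicative (ZMod p)) (k : K),
        ((f l (j, k) : ℂˣ) : ℂ) = d1zeta p ^ ((Multiplicative.toAdd j).val * l.val) := by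
    have hup : (Units.mk0 (d1zeta p) hζ0) ^ p = 1 := by
      apply Units.ext
      rw [Units.val_pow_eq_pow_val, Units.val_mk0, hζp, Units.val_one]
    refine ⟨fun l => MonoidHom.mk'
      (fun jk => (Units.mk0 (d1zeta p) hζ0) ^ ((Multiplicative.toAdd jk.1).val * l.val)) ?_,
      fun l j k => ?_⟩
    · rintro ⟨j, k⟩ ⟨j', k'⟩
      show (Units.mk0 (d1zeta p) hζ0) ^ ((Multiplicative.toAdd (j * j')).val * l.val)
        = (Units.mk0 (d1zeta p) hζ0) ^ ((Multiplicative.toAdd j).val * l.val) *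
          (Units.mk0 (d1zeta p) hζ0) ^ ((Multiplicative.toAdd j').val * l.val)
      rw [toAdd_mul, ZMod.val_add, ← pow_add, ← add_mul, pow_mul, pow_mul,
        ← pow_eq_pow_mod _ hup]
    · show ((Units.mk0 (d1zeta p) hζ0 ^ ((Multiplicative.toAdd j).val * l.val) : ℂˣ) : ℂ) = _
      rw [Units.val_pow_eq_pow_val, Units.val_mk0]
  -- the two families of characters of `Multiplicative (ZMod p) × K`
  have hΨ : ∀ χ : Cfsg.IrrCharacter G,
      Cfsg.IsCharacter (Multiplicative (ZMod p) × K) (fun hh => (χ : G → ℂ) (φ hh)) :=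
    fun χ => Helper79.isCharacter_comp (Helper79.irr_isCharacter χ) φ
  have hΛ : ∀ l : ZMod p, Cfsg.IsCharacter (Multiplicative (ZMod p) × K)
      ((fun hh => ((f l hh : ℂˣ) : ℂ)) * (fun hh => (θ : K → ℂ) hh.2)) := fun l =>
    Helper79.isCharacter_mul (Helper79.isCharacter_of_irr (Helper79.isIrrCharacter_of_hom (f l)))
      (Helper79.isCharacter_comp (Helper79.irr_isCharacter θ)
        (MonoidHom.snd (Multiplicative (ZMod p)) K))
  have hnat : ∀ (χ : Cfsg.IrrCharacter G) (l : ZMod p), ∃ n : ℕ,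
      Cfsg.classInner (fun hh : Multiplicative (ZMod p) × K => (χ : G → ℂ) (φ hh))
        ((fun hh => ((f l hh : ℂˣ) : ℂ)) * (fun hh => (θ : K → ℂ) hh.2)) = (n : ℂ) :=
    fun χ l => Helper3.classInner_isCharacter_nat (hΨ χ) (hΛ l)
  choose a ha using hnat
  refine ⟨a, fun χ i => ?_⟩
  have hinner : ∀ l : ZMod p, (a χ l : ℂ) = ((p : ℂ) * (Nat.card K : ℂ))⁻¹ *
      ∑ j : ZMod p, ∑ k : K, (χ : G → ℂ) (x ^ j.val * (k : G)) *
        (conj (d1zeta p ^ (j.val * l.val)) * conj ((θ : K → ℂ) k)) := by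
    intro l
    rw [← ha]
    unfold Cfsg.classInner
    rw [Nat.card_prod, Nat.card_congr Multiplicative.toAdd, Nat.card_zmod, Nat.cast_mul,
      Fintype.sum_prod_type]
    congr 1
    refine Fintype.sum_equiv Multiplicative.toAdd _ _ (fun j => ?_)
    refine Finset.sum_congr rfl (fun k _ => ?_)
    show (χ : G → ℂ) (φ (j, k)) * conj (((f l (j, k) : ℂˣ) : ℂ) * (θ : K → ℂ) k) = _
    rw [hφ, hf, map_mul]
  have key : ∑ l : ZMod p, (a χ l : ℂ) * d1zeta p ^ (i * l.val)
      = ((p : ℂ) * (Nat.card K : ℂ))⁻¹ * ∑ j : ZMod p, ∑ k : K,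
          (χ : G → ℂ) (x ^ j.val * (k : G)) * conj ((θ : K → ℂ) k) *
            (∑ l : ZMod p, conj (d1zeta p ^ (j.val * l.val)) * d1zeta p ^ (i * l.val)) := by
    calc ∑ l : ZMod p, (a χ l : ℂ) * d1zeta p ^ (i * l.val)
        = ∑ l : ZMod p, ((p : ℂ) * (Nat.card K : ℂ))⁻¹ * ∑ j : ZMod p, ∑ k : K,
            (χ : G → ℂ) (x ^ j.val * (k : G)) * conj ((θ : K → ℂ) k) *
              (conj (d1zeta p ^ (j.val * l.val)) * d1zeta p ^ (i * l.val)) := by
          refine Finset.sum_congr rfl (fun l _ => ?_)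
          rw [hinner, mul_assoc, Finset.sum_mul]
          congr 1
          refine Finset.sum_congr rfl (fun j _ => ?_)
          rw [Finset.sum_mul]
          refine Finset.sum_congr rfl (fun k _ => ?_)
          ring
      _ = _ := by
          rw [← Finset.mul_sum, Finset.sum_comm]
          congr 1
          refine Finset.sum_congr rfl (fun j _ => ?_)
          rw [Finset.sum_comm]
          refine Finset.sum_congr rfl (fun k _ => ?_)
          rw [Finset.mul_sum]
  rw [key]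
  have hK0 : (Nat.card K : ℂ) ≠ 0 := by exact_mod_cast Nat.card_pos.ne'
  have hp0 : (p : ℂ) ≠ 0 := by exact_mod_cast hp.ne_zero
  have hsum : ∑ j : ZMod p, ∑ k : K,
      (χ : G → ℂ) (x ^ j.val * (k : G)) * conj ((θ : K → ℂ) k) *
        (∑ l : ZMod p, conj (d1zeta p ^ (j.val * l.val)) * d1zeta p ^ (i * l.val))
      = (p : ℂ) * ∑ k : K, (χ : G → ℂ) (x ^ i * (k : G)) * conj ((θ : K → ℂ) k) := by
    rw [Finset.sum_eq_single (i : ZMod p)]
    · rw [Finset.mul_sum]
      refine Finset.sum_congr rfl (fun k _ => ?_)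
      rw [d1_zeta_orth, if_pos rfl, ZMod.val_natCast, ← pow_eq_pow_mod i hxp]
      ring
    · intro j _ hj
      refine Finset.sum_eq_zero (fun k _ => ?_)
      rw [d1_zeta_orth, if_neg hj, mul_zero]
    · intro hi
      exact absurd (Finset.mem_univ _) hi
  rw [hsum]
  unfold dco
  rw [finsum_eq_sum_of_fintype]
  field_simp

end Cfsg.Agent.Helper29
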