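import Mathlib
import Cfsg.Agent.Helper77.D1Defs2
import Cfsg.Agent.Helper65.D1IF
import Cfsg.Agent.Helper79.S4441Setup
import Cfsg.Agent.Helper29.D1IG
import Cfsg.Agent.Helper29.D1FP

/-!
# CALL S4442FB, piece FS (helper29): the sum of the `θ`-coefficients over an inertial class is
fixed by every automorphism of `ℂ`.
-/

universe u
set_option autoImplicit false
open Cfsg Cfsg.Agent.Helper77
open scoped ComplexConjugate

namespace Cfsg.Agent.Helper29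

variable {G : Type u} [Group G] [Finite G]

/-- FS -/
theorem d1fb_sum_fixed (p : ℕ) [Fact p.Prime] (x : G) (K : Subgroup G) (h : D1Hyp p x K)
    (M₀ : ℕ) (hM₀ : ¬ p ∣ M₀) (hGM : Nat.card G ∣ p * M₀)
    (θ : Cfsg.IrrCharacter K) (χ : Cfsg.IrrCharacter G) (Ω : Finset (Cfsg.IrrCharacter G))
    (hΩ : ∀ χ' : Cfsg.IrrCharacter G, χ' ∈ Ω ↔ galRel M₀ (χ : G → ℂ) (χ' : G → ℂ))
    (σ : ℂ ≃+* ℂ) :
    σ (∑ χ' ∈ Ω, dco K (θ : K → ℂ) (χ' : G → ℂ) x)
      = ∑ χ' ∈ Ω, dco K (θ : K → ℂ) (χ' : G → ℂ) x := by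
  classical
  have hp : p.Prime := Fact.out
  have hζ : IsPrimitiveRoot (d1zeta p) p := Complex.isPrimitiveRoot_exp p hp.ne_zero
  obtain ⟨a, ha⟩ := d1_dco_mult p x K h θ
  have hσζ : (σ (d1zeta p)) ^ p = 1 := by rw [← map_pow, hζ.pow_eq_one, map_one]
  obtain ⟨j, hjp, hj⟩ := hζ.eq_pow_of_pow_eq_one hσζ
  have hjndvd : ¬ p ∣ j := by
    intro hdvd
    have hj0 : j = 0 := Nat.eq_zero_of_dvd_of_lt hdvd hjp
    rw [hj0, pow_zero] at hj
    have h1 : d1zeta p = 1 := by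
      apply σ.injective
      rw [← hj, map_one]
    exact hζ.ne_one hp.one_lt h1
  have key : ∀ χ' : Cfsg.IrrCharacter G, σ (dco K (θ : K → ℂ) (χ' : G → ℂ) x)
      = dco K (θ : K → ℂ) (χ' : G → ℂ) (x ^ j) := by
    intro χ'
    have h1 := ha χ' 1
    rw [pow_one] at h1
    rw [h1, ha χ' j, map_sum]
    refine Finset.sum_congr rfl (fun l _ => ?_)
    rw [map_mul, map_natCast, map_pow, ← hj, ← pow_mul, one_mul]
  rw [map_sum, Finset.sum_congr rfl (fun χ' _ => key χ')]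
  exact d1fb_sum_pow p x K h M₀ hM₀ hGM θ χ Ω hΩ j hjndvd

end Cfsg.Agent.Helper29
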