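import Mathlib
import Cfsg.Prelude.Def_Characters
import Cfsg.Prelude.Def_Blocks
import Cfsg.Agent.Helper77.D1Defs2
import Cfsg.Agent.Helper75.LatGroup

/-!
# CALL S4442B, piece ID (helper29): conjugation invariance of the `θ`-coefficients.
-/

universe u
set_option autoImplicit false
open Cfsg Cfsg.Agent.Helper77
open scoped ComplexConjugate

namespace Cfsg.Agent.Helper29

variable {G : Type u} [Group G] [Finite G]

theorem d1_dco_conj (p : ℕ) [Fact p.Prime] (x : G) (K : Subgroup G) (h : D1Hyp p x K)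
    (θ θ' : K → ℂ) (n : G)
    (hn : n ∈ Subgroup.normalizer ((Subgroup.zpowers x : Subgroup G) : Set G))
    (hθ : thetaConj K n θ θ') (χ : Cfsg.IrrCharacter G) (y : G) :
    dco K θ' (χ : G → ℂ) (n * y * n⁻¹) = dco K θ (χ : G → ℂ) y := by
  have hnK : ∀ k : G, k ∈ K → n * k * n⁻¹ ∈ K := fun k hk =>
    Helper75.lat_K_normal p x h.hx K h.hK h.hC n hn k hk
  have hnK' : ∀ k : G, k ∈ K → n⁻¹ * k * n ∈ K := fun k hk => by
    have h1 := Helper75.lat_K_normal p x h.hx K h.hK h.hC n⁻¹ (inv_mem hn) k hk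
    rwa [inv_inv] at h1
  let e : K ≃ K :=
    { toFun := fun k => ⟨n * k.1 * n⁻¹, hnK k.1 k.2⟩
      invFun := fun k => ⟨n⁻¹ * k.1 * n, hnK' k.1 k.2⟩
      left_inv := fun k => Subtype.ext (by simp [mul_assoc])
      right_inv := fun k => Subtype.ext (by simp [mul_assoc]) }
  unfold dco
  congr 1
  rw [← finsum_comp_equiv e]
  apply finsum_congr
  intro k
  have h1 : θ' (e k) = θ k := hθ k (e k) rfl
  have h2 : (χ : G → ℂ) (n * y * n⁻¹ * ((e k : K) : G)) = (χ : G → ℂ) (y * (k : G)) := by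
    obtain ⟨m, ρ, -, hχ⟩ := χ.2
    rw [← hχ]
    have h3 : n * y * n⁻¹ * ((e k : K) : G) = n * (y * (k : G)) * n⁻¹ := by
      show n * y * n⁻¹ * (n * (k : G) * n⁻¹) = _
      group
    rw [h3, Representation.char_conj]
  rw [h1, h2]

end Cfsg.Agent.Helper29
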