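import Mathlib
import Cfsg.Prelude.Def_Characters
import Cfsg.Prelude.Def_Blocks
import Cfsg.Agent.Helper77.D1Defs2
import Cfsg.Agent.Helper75.GaloisAMGM
import Cfsg.Agent.Helper75.Contrib2

/-!
# CALL S4442B, piece IE (helper29): Galois equivariance of the `θ`-coefficients.
-/

universe u
set_option autoImplicit false
open Cfsg Cfsg.Agent.Helper77
open scoped ComplexConjugate

namespace Cfsg.Agent.Helper29

variable {G : Type u} [Group G] [Finite G]

theorem d1_dco_gal (K : Subgroup G) (σ : ℂ ≃+* ℂ) (θ θ' : Cfsg.IrrCharacter K)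
    (hθ : ∀ k : K, (θ' : K → ℂ) k = σ ((θ : K → ℂ) k)) (χ χ' : Cfsg.IrrCharacter G)
    (hχ : ∀ g : G, (χ' : G → ℂ) g = σ ((χ : G → ℂ) g)) (y : G) :
    dco K (θ' : K → ℂ) (χ' : G → ℂ) y = σ (dco K (θ : K → ℂ) (χ : G → ℂ) y) := by
  classical
  haveI : Fintype K := Fintype.ofFinite K
  unfold dco
  rw [map_mul, map_inv₀, map_natCast, finsum_eq_sum_of_fintype, finsum_eq_sum_of_fintype, map_sum]
  congr 1
  apply Finset.sum_congr rfl
  intro k _
  rw [map_mul, hχ, hθ, Helper75.ringEquiv_conj_comm σ (Nat.card G) Nat.card_pos.ne'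
    (Helper75.irr_subgroup_mem_cycField K θ k)]

end Cfsg.Agent.Helper29
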