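import Mathlib
import Cfsg.Prelude.Def_Characters
import Cfsg.Prelude.Def_Blocks
import Cfsg.Agent.Helper77.D1Defs2
import Cfsg.Agent.Helper75.LatGroup

/-!
# CALL S4442B, piece IL (helper29): `stabUnits` and `normUnits` are subgroups of `(ZMod p)ˣ`.
-/

universe u
set_option autoImplicit false
open Cfsg Cfsg.Agent.Helper77
open scoped ComplexConjugate Pointwise

namespace Cfsg.Agent.Helper29

variable {G : Type u} [Group G] [Finite G]

theorem d1_units (p : ℕ) [Fact p.Prime] (x : G) (K : Subgroup G) (h : D1Hyp p x K)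
    (θ : Cfsg.IrrCharacter K) :
    ∃ E F : Subgroup (ZMod p)ˣ, (E : Set (ZMod p)ˣ) = stabUnits p x K (θ : K → ℂ) ∧
      (F : Set (ZMod p)ˣ) = normUnits p x ∧ E ≤ F := by
  have hp : p.Prime := Fact.out
  have hxp : x ^ p = 1 := by rw [← h.hx]; exact pow_orderOf_eq_one x
  have hval : ∀ u v : (ZMod p)ˣ, x ^ ((u * v : (ZMod p)ˣ) : ZMod p).val
      = (x ^ (u : ZMod p).val) ^ (v : ZMod p).val := by
    intro u v
    rw [Units.val_mul, ZMod.val_mul, ← pow_mul]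
    conv_rhs => rw [← Nat.mod_add_div ((u : ZMod p).val * (v : ZMod p).val) p]
    rw [pow_add, pow_mul, hxp, one_pow, mul_one]
  have hone : x ^ ((1 : (ZMod p)ˣ) : ZMod p).val = x := by
    rw [Units.val_one, ZMod.val_one_eq_one_mod, Nat.mod_eq_of_lt hp.one_lt, pow_one]
  have hmulx : ∀ (n m : G) (u v : (ZMod p)ˣ), n * x * n⁻¹ = x ^ (u : ZMod p).val →
      m * x * m⁻¹ = x ^ (v : ZMod p).val →
      (n * m) * x * (n * m)⁻¹ = x ^ ((u * v : (ZMod p)ˣ) : ZMod p).val := by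
    intro n m u v hn hm
    rw [hval, ← hn, conj_pow, ← hm]
    group
  have hnorm : ∀ (m : G) (v : (ZMod p)ˣ), m * x * m⁻¹ = x ^ (v : ZMod p).val →
      m ∈ Subgroup.normalizer ((Subgroup.zpowers x : Subgroup G) : Set G) := by
    intro m v hm
    apply Subgroup.mem_normalizer_fintype
    intro g hg
    obtain ⟨i, rfl⟩ := Subgroup.mem_zpowers_iff.1 hg
    show m * x ^ i * m⁻¹ ∈ Subgroup.zpowers x
    rw [← conj_zpow, hm]
    exact zpow_mem (pow_mem (Subgroup.mem_zpowers x) _) _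
  have hF1 : (1 : (ZMod p)ˣ) ∈ normUnits p x := ⟨1, by rw [hone]; group⟩
  have hE1 : (1 : (ZMod p)ˣ) ∈ stabUnits p x K (θ : K → ℂ) := by
    refine ⟨1, by rw [hone]; group, ?_⟩
    intro k k' hk
    have h1 : k' = k := Subtype.ext (by rw [hk]; group)
    rw [h1]
  have hFmul : normUnits p x * normUnits p x = normUnits p x := by
    apply Set.Subset.antisymm
    · rintro _ ⟨u, ⟨n, hn⟩, v, ⟨m, hm⟩, rfl⟩
      exact ⟨n * m, hmulx n m u v hn hm⟩
    · intro u hu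
      exact ⟨1, hF1, u, hu, one_mul u⟩
  have hEmul : stabUnits p x K (θ : K → ℂ) * stabUnits p x K (θ : K → ℂ)
      = stabUnits p x K (θ : K → ℂ) := by
    apply Set.Subset.antisymm
    · rintro _ ⟨u, ⟨n, hn, hnθ⟩, v, ⟨m, hm, hmθ⟩, rfl⟩
      refine ⟨n * m, hmulx n m u v hn hm, ?_⟩
      intro k k' hk
      have hmk : m * (k : G) * m⁻¹ ∈ K :=
        Helper75.lat_K_normal p x h.hx K h.hK h.hC m (hnorm m v hm) k k.2
      have h1 : (θ : K → ℂ) ⟨m * (k : G) * m⁻¹, hmk⟩ = (θ : K → ℂ) k := hmθ k ⟨_, hmk⟩ rfl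
      have h2 : (θ : K → ℂ) k' = (θ : K → ℂ) ⟨m * (k : G) * m⁻¹, hmk⟩ :=
        hnθ ⟨_, hmk⟩ k' (by rw [hk]; group)
      rw [h2, h1]
    · intro u hu
      exact ⟨1, hE1, u, hu, one_mul u⟩
  refine ⟨subgroupOfIdempotent _ ⟨1, hE1⟩ hEmul, subgroupOfIdempotent _ ⟨1, hF1⟩ hFmul,
    rfl, rfl, ?_⟩
  intro u hu
  obtain ⟨n, hn, -⟩ := hu
  exact ⟨n, hn⟩

end Cfsg.Agent.Helper29
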