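import Mathlib
import Cfsg.Prelude.Def_OddOrderLocal

/-!
# CALL BGC piece FB (helper25): the fibre of `t ↦ t ^ e` on `tildeOf` over `y a y⁻¹`.
-/

set_option autoImplicit false

namespace Cfsg.Agent.Helper29

open Cfsg Subgroup

universe u

variable {G : Type u} [Group G] [Finite G]

/-- FB (PURE). The fibre of `t ↦ t ^ e` on `tildeOf` over `y a y⁻¹` is `{y (a r) y⁻¹ : r ∈ R(a)}`. -/
theorem bgc_fiber {M : Subgroup G} {e : ℕ}
    (hpow : ∀ a' ∈ (sigmaCore M : Set G) \ {1}, ∀ r ∈ supportR M a', ∀ y' : G,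
      (y' * (a' * r) * y'⁻¹) ^ e = y' * a' * y'⁻¹)
    {a : G} (ha : a ∈ (sigmaCore M : Set G) \ {1})
    (hwd : ∀ a' ∈ (sigmaCore M : Set G) \ {1}, ∀ z : G, z * a' * z⁻¹ = a →
      (supportR M a').map (MulAut.conj z).toMonoidHom = supportR M a) (y : G) :
    Set.ncard {t | t ∈ tildeOf M ((sigmaCore M : Set G) \ {1}) ∧ t ^ e = y * a * y⁻¹} =
      Nat.card (supportR M a) := by
  have hset : {t | t ∈ tildeOf M ((sigmaCore M : Set G) \ {1}) ∧ t ^ e = y * a * y⁻¹}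
      = (fun r => y * (a * r) * y⁻¹) '' (supportR M a : Set G) := by
    ext t
    constructor
    · rintro ⟨⟨a', ha', r', hr', y', rfl⟩, hte⟩
      rw [hpow a' ha' r' hr' y'] at hte
      have hz : (y⁻¹ * y') * a' * (y⁻¹ * y')⁻¹ = a := by
        have h1 : (y⁻¹ * y') * a' * (y⁻¹ * y')⁻¹ = y⁻¹ * (y' * a' * y'⁻¹) * y := by group
        rw [h1, hte]
        group
      have hmap := hwd a' ha' (y⁻¹ * y') hz
      refine ⟨(y⁻¹ * y') * r' * (y⁻¹ * y')⁻¹, ?_, ?_⟩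
      · rw [SetLike.mem_coe, ← hmap]
        exact Subgroup.mem_map.2 ⟨r', hr', rfl⟩
      · show y * (a * ((y⁻¹ * y') * r' * (y⁻¹ * y')⁻¹)) * y⁻¹ = y' * (a' * r') * y'⁻¹
        rw [← hz]
        group
    · rintro ⟨r, hr, rfl⟩
      exact ⟨⟨a, ha, r, hr, y, rfl⟩, hpow a ha r hr y⟩
  rw [hset, Set.ncard_image_of_injective]
  · exact (Nat.card_coe_set_eq _).symm
  · intro r₁ r₂ h
    simpa using h

end Cfsg.Agent.Helper29
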