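import Mathlib
import Cfsg.Agent.Helper82.ExcInv
import Cfsg.Agent.Helper81.SectionChar
import Cfsg.Agent.Helper80.CharIrr
import Cfsg.Agent.Helper76.MinkB

/-! Piece T2 of CALL S0999 (helper9, Brauer-Reynolds): `C(P) = P` from a character of degree
`p - 1` with value `-1` on `P# × (p-regular part of C(P))`. -/

set_option autoImplicit false
open Cfsg
open scoped ComplexConjugate

universe u

namespace Cfsg.Agent.Helper29

/-- A `p`-regular element of `C(P)` is trivial. -/
theorem br_t2_regular_trivial {G : Type u} [Group G] [Finite G] [IsSimpleGroup G] {p : ℕ}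
    [Fact p.Prime] (P : Sylow p G) (hP : Nat.card (P : Subgroup G) = p)
    (φ : Cfsg.IrrCharacter G) (hdeg : Cfsg.charDegree (φ : G → ℂ) = p - 1)
    (hval : ∀ x : G, x ∈ (P : Subgroup G) → x ≠ 1 → ∀ y : G,
      y ∈ Subgroup.centralizer ((P : Subgroup G) : Set G) → ¬ p ∣ orderOf y →
      (φ : G → ℂ) (x * y) = -1)
    (y : G) (hy : y ∈ Subgroup.centralizer ((P : Subgroup G) : Set G))
    (hyreg : ¬ p ∣ orderOf y) : y = 1 := by
  classical
  by_contra hy1
  have hp : p.Prime := Fact.out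
  have hp2 : 2 ≤ p := hp.two_le
  haveI : Fintype G := Fintype.ofFinite G
  haveI : Fintype ↥(P : Subgroup G) := Fintype.ofFinite _
  haveI : Fintype ↥(Subgroup.zpowers y) := Fintype.ofFinite _
  have hcardP : Fintype.card ↥(P : Subgroup G) = p := by
    rw [← Nat.card_eq_fintype_card]; exact hP
  have hchar : Cfsg.IsCharacter G (φ : G → ℂ) := Helper79.irr_isCharacter φ
  -- elements of `zpowers y` are p-regular elements of `C(P)`
  have hzC : ∀ u : ↥(Subgroup.zpowers y),
      (u : G) ∈ Subgroup.centralizer ((P : Subgroup G) : Set G) :=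
    fun u => (Subgroup.zpowers_le.2 hy) u.2
  have hzreg : ∀ u : ↥(Subgroup.zpowers y), ¬ p ∣ orderOf (u : G) := by
    intro u hu
    have h1 : orderOf (u : G) ∣ orderOf y := orderOf_dvd_of_mem_zpowers u.2
    exact hyreg (hu.trans h1)
  -- the homomorphism `P × ⟨y⟩ → G`
  have hcomm : ∀ (m : ↥(P : Subgroup G)) (n : ↥(Subgroup.zpowers y)),
      Commute ((P : Subgroup G).subtype m) ((Subgroup.zpowers y).subtype n) := by
    intro m n
    exact Subgroup.mem_centralizer_iff.1 (hzC n) (m : G) m.2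
  obtain ⟨n, hn⟩ := Helper81.exists_linMult φ
    ((P : Subgroup G).subtype.noncommCoprod (Subgroup.zpowers y).subtype hcomm)
    (1 : ↥(P : Subgroup G) × ↥(Subgroup.zpowers y) →* ℂˣ)
  have hsum1 : ∀ u : ↥(Subgroup.zpowers y),
      ∑ x : ↥(P : Subgroup G), (φ : G → ℂ) ((x : G) * (u : G)) =
        (φ : G → ℂ) (u : G) - ((p - 1 : ℕ) : ℂ) := by
    intro u
    rw [← Finset.add_sum_erase Finset.univ _ (Finset.mem_univ (1 : ↥(P : Subgroup G)))]
    have h1 : ∀ x ∈ Finset.univ.erase (1 : ↥(P : Subgroup G)),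
        (φ : G → ℂ) ((x : G) * (u : G)) = -1 := by
      intro x hx
      have hx1 : (x : G) ≠ 1 := by
        intro h
        exact (Finset.ne_of_mem_erase hx) (Subtype.ext h)
      exact hval (x : G) x.2 hx1 (u : G) (hzC u) (hzreg u)
    rw [Finset.sum_congr rfl h1, Finset.sum_const, Finset.card_erase_of_mem (Finset.mem_univ _),
      Finset.card_univ, hcardP]
    simp only [Subgroup.coe_one, one_mul, nsmul_eq_mul, mul_neg, mul_one]
    ring
  have hsum2 : ∑ u : ↥(Subgroup.zpowers y), ((φ : G → ℂ) (u : G) - ((p - 1 : ℕ) : ℂ)) =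
      (Fintype.card (↥(P : Subgroup G) × ↥(Subgroup.zpowers y)) : ℂ) * n := by
    rw [← hn, Fintype.sum_prod_type_right]
    apply Finset.sum_congr rfl
    intro u _
    rw [← hsum1 u]
    apply Finset.sum_congr rfl
    intro x _
    simp [MonoidHom.noncommCoprod_apply]
  -- real parts
  have hre : ∀ u : ↥(Subgroup.zpowers y),
      ((φ : G → ℂ) (u : G) - ((p - 1 : ℕ) : ℂ)).re ≤ 0 := by
    intro u
    have h1 : ‖(φ : G → ℂ) (u : G)‖ ≤ ((p - 1 : ℕ) : ℝ) := by
      have := Helper80.isCharacter_norm_le hchar (u : G)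
      rw [hdeg] at this
      exact this
    have h2 : ((φ : G → ℂ) (u : G)).re ≤ ‖(φ : G → ℂ) (u : G)‖ := Complex.re_le_norm _
    simp only [Complex.sub_re, Complex.natCast_re]
    linarith
  have hre_sum : (∑ u : ↥(Subgroup.zpowers y),
      ((φ : G → ℂ) (u : G) - ((p - 1 : ℕ) : ℂ))).re = ∑ u : ↥(Subgroup.zpowers y),
      ((φ : G → ℂ) (u : G) - ((p - 1 : ℕ) : ℂ)).re := Complex.re_sum _ _
  have hnonneg : 0 ≤ ∑ u : ↥(Subgroup.zpowers y),
      ((φ : G → ℂ) (u : G) - ((p - 1 : ℕ) : ℂ)).re := by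
    rw [← hre_sum, hsum2]
    have : ((Fintype.card (↥(P : Subgroup G) × ↥(Subgroup.zpowers y)) : ℂ) * (n : ℂ)).re =
        (Fintype.card (↥(P : Subgroup G) × ↥(Subgroup.zpowers y)) : ℝ) * (n : ℝ) := by
      rw [← Nat.cast_mul, Complex.natCast_re, Nat.cast_mul]
    rw [this]
    positivity
  have hzero : ∑ u : ↥(Subgroup.zpowers y),
      ((φ : G → ℂ) (u : G) - ((p - 1 : ℕ) : ℂ)).re = 0 :=
    le_antisymm (Finset.sum_nonpos (fun u _ => hre u)) hnonneg
  have hall := (Finset.sum_eq_zero_iff_of_nonpos (fun u _ => hre u)).1 hzero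
  have hy0 := hall ⟨y, Subgroup.mem_zpowers y⟩ (Finset.mem_univ _)
  simp only [Complex.sub_re, Complex.natCast_re] at hy0
  have hφy : (φ : G → ℂ) y = ((p - 1 : ℕ) : ℂ) := by
    apply Helper76.mink_eq_of_re_eq_norm_le
    · linarith
    · have := Helper80.isCharacter_norm_le hchar y
      rw [hdeg] at this
      exact this
  have hφ1 : (φ : G → ℂ) 1 = ((p - 1 : ℕ) : ℂ) := by
    rw [Helper79.isCharacter_one_eq_charDegree hchar, hdeg]
  have htriv : φ = Helper81.trivIrr G := by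
    apply Helper82.excInv_kernel φ y
    · intro K hK hyK
      rcases hK.eq_bot_or_eq_top with h | h
      · exfalso
        rw [h, Subgroup.mem_bot] at hyK
        exact hy1 hyK
      · exact h
    · rw [hφy, hφ1]
  -- contradiction at a non-identity element of `P`
  have hPnt : ∃ x : G, x ∈ (P : Subgroup G) ∧ x ≠ 1 := by
    by_contra hcon
    have hbot : (P : Subgroup G) = ⊥ := by
      rw [Subgroup.eq_bot_iff_forall]
      intro x hx
      by_contra hx1
      exact hcon ⟨x, hx, hx1⟩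
    rw [hbot, Subgroup.card_bot] at hP
    omega
  obtain ⟨x, hx, hx1⟩ := hPnt
  have h1 := hval x hx hx1 1 (Subgroup.one_mem _) (by
    rw [orderOf_one]
    intro h
    have := Nat.le_of_dvd Nat.one_pos h
    omega)
  rw [htriv] at h1
  have h2 : (Helper81.trivIrr G : G → ℂ) (x * 1) = 1 := rfl
  rw [h2] at h1
  norm_num at h1

theorem br_centralizer_card {G : Type u} [Group G] [Finite G] [IsSimpleGroup G] {p : ℕ}
    [Fact p.Prime] (P : Sylow p G) (hP : Nat.card (P : Subgroup G) = p)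
    (φ : Cfsg.IrrCharacter G) (hdeg : Cfsg.charDegree (φ : G → ℂ) = p - 1)
    (hval : ∀ x : G, x ∈ (P : Subgroup G) → x ≠ 1 → ∀ y : G,
      y ∈ Subgroup.centralizer ((P : Subgroup G) : Set G) → ¬ p ∣ orderOf y →
      (φ : G → ℂ) (x * y) = -1) :
    Nat.card (Subgroup.centralizer ((P : Subgroup G) : Set G)) = p := by
  have hp : p.Prime := Fact.out
  -- `C(P)` is a `p`-group
  have hCp : IsPGroup p ↥(Subgroup.centralizer ((P : Subgroup G) : Set G)) := by
    rintro ⟨g, hg⟩
    have hpos : 0 < orderOf g := orderOf_pos g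
    obtain ⟨a, m, hm, hk⟩ := Nat.exists_eq_pow_mul_and_not_dvd hpos.ne' p hp.ne_one
    refine ⟨a, ?_⟩
    apply Subtype.ext
    rw [Subgroup.coe_pow, Subgroup.coe_one]
    apply br_t2_regular_trivial P hP φ hdeg hval (g ^ p ^ a) (Subgroup.pow_mem _ hg _)
    have hord : orderOf (g ^ p ^ a) = m := by
      rw [orderOf_pow, hk, Nat.gcd_eq_right (Dvd.intro _ rfl),
        Nat.mul_div_cancel_left _ (pow_pos hp.pos a)]
    rw [hord]
    exact hm
  -- `P ≤ C(P)`
  have hcyc : IsCyclic ↥(P : Subgroup G) := isCyclic_of_prime_card hP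
  have hPC : (P : Subgroup G) ≤ Subgroup.centralizer ((P : Subgroup G) : Set G) := by
    obtain ⟨g, hg⟩ := hcyc.exists_generator
    intro x hx
    rw [Subgroup.mem_centralizer_iff]
    intro y hy
    obtain ⟨a, ha⟩ := Subgroup.mem_zpowers_iff.1 (hg ⟨x, hx⟩)
    obtain ⟨b, hb⟩ := Subgroup.mem_zpowers_iff.1 (hg ⟨y, hy⟩)
    have h1 : (⟨y, hy⟩ : ↥(P : Subgroup G)) * ⟨x, hx⟩ = ⟨x, hx⟩ * ⟨y, hy⟩ := by
      rw [← ha, ← hb]
      exact Commute.zpow_zpow_self g b a
    exact congrArg Subtype.val h1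
  have heq : Subgroup.centralizer ((P : Subgroup G) : Set G) = (P : Subgroup G) :=
    P.is_maximal' hCp hPC
  rw [heq]
  exact hP

end Cfsg.Agent.Helper29
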