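import Mathlib
import Cfsg.Agent.Helper79.Quotient
import Cfsg.Agent.Helper81.SectionChar
import Cfsg.Agent.Helper80.CharIrr
import Cfsg.Agent.Helper76.MinkB

/-! Piece T2g of CALL S0999 (helper9, Brauer-Reynolds, general version): `C(P) = P` from a
character of degree `p - 1` with value `-1` on `P# × (p-regular part of C(P))`, for a group with
no nontrivial normal `p'`-subgroup. -/

set_option autoImplicit false
open Cfsg
open scoped ComplexConjugate

universe u

namespace Cfsg.Agent.Helper29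

/-- A `p`-regular element of `C(P)` is trivial. -/
theorem br_t2g_regular_trivial {G : Type u} [Group G] [Finite G] {p : ℕ}
    [Fact p.Prime] (hOp : ∀ K : Subgroup G, K.Normal → (Nat.card K).Coprime p → K = ⊥)
    (P : Sylow p G) (hP : Nat.card (P : Subgroup G) = p)
    (φ : Cfsg.IrrCharacter G) (hdeg : Cfsg.charDegree (φ : G → ℂ) = p - 1)
    (hval : ∀ x : G, x ∈ (P : Subgroup G) → x ≠ 1 → ∀ y : G,
      y ∈ Subgroup.centralizer ((P : Subgroup G) : Set G) → ¬ p ∣ orderOf y →
      (φ : G → ℂ) (x * y) = -1)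
    (y : G) (hy : y ∈ Subgroup.centralizer ((P : Subgroup G) : Set G))
    (hyreg : ¬ p ∣ orderOf y) : y = 1 := by
  classical
  by_contra hy1
  have hp : p.Prime := Fact.out
  have hp2 : 2 ≤ p := hp.two_le
  haveI : Fintype G := Fintype.ofFinite G
  haveI : Fintype ↥(P : Subgroup G) := Fintype.ofFinite _
  haveI : Fintype ↥(Subgroup.zpowers y) := Fintype.ofFinite _
  have hcardP : Fintype.card ↥(P : Subgroup G) = p := by
    rw [← Nat.card_eq_fintype_card]; exact hP
  have hchar : Cfsg.IsCharacter G (φ : G → ℂ) := Helper79.irr_isCharacter φ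
  -- elements of `zpowers y` are p-regular elements of `C(P)`
  have hzC : ∀ u : ↥(Subgroup.zpowers y),
      (u : G) ∈ Subgroup.centralizer ((P : Subgroup G) : Set G) :=
    fun u => (Subgroup.zpowers_le.2 hy) u.2
  have hzreg : ∀ u : ↥(Subgroup.zpowers y), ¬ p ∣ orderOf (u : G) := by
    intro u hu
    have h1 : orderOf (u : G) ∣ orderOf y := orderOf_dvd_of_mem_zpowers u.2
    exact hyreg (hu.trans h1)
  -- the homomorphism `P × ⟨y⟩ → G`
  have hcomm : ∀ (m : ↥(P : Subgroup G)) (n : ↥(Subgroup.zpowers y)),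
      Commute ((P : Subgroup G).subtype m) ((Subgroup.zpowers y).subtype n) := by
    intro m n
    exact Subgroup.mem_centralizer_iff.1 (hzC n) (m : G) m.2
  obtain ⟨n, hn⟩ := Helper81.exists_linMult φ
    ((P : Subgroup G).subtype.noncommCoprod (Subgroup.zpowers y).subtype hcomm)
    (1 : ↥(P : Subgroup G) × ↥(Subgroup.zpowers y) →* ℂˣ)
  have hsum1 : ∀ u : ↥(Subgroup.zpowers y),
      ∑ x : ↥(P : Subgroup G), (φ : G → ℂ) ((x : G) * (u : G)) =
        (φ : G → ℂ) (u : G) - ((p - 1 : ℕ) : ℂ) := by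
    intro u
    rw [← Finset.add_sum_erase Finset.univ _ (Finset.mem_univ (1 : ↥(P : Subgroup G)))]
    have h1 : ∀ x ∈ Finset.univ.erase (1 : ↥(P : Subgroup G)),
        (φ : G → ℂ) ((x : G) * (u : G)) = -1 := by
      intro x hx
      have hx1 : (x : G) ≠ 1 := by
        intro h
        exact (Finset.ne_of_mem_erase hx) (Subtype.ext h)
      exact hval (x : G) x.2 hx1 (u : G) (hzC u) (hzreg u)
    rw [Finset.sum_congr rfl h1, Finset.sum_const, Finset.card_erase_of_mem (Finset.mem_univ _),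
      Finset.card_univ, hcardP]
    simp only [Subgroup.coe_one, one_mul, nsmul_eq_mul, mul_neg, mul_one]
    ring
  have hsum2 : ∑ u : ↥(Subgroup.zpowers y), ((φ : G → ℂ) (u : G) - ((p - 1 : ℕ) : ℂ)) =
      (Fintype.card (↥(P : Subgroup G) × ↥(Subgroup.zpowers y)) : ℂ) * n := by
    rw [← hn, Fintype.sum_prod_type_right]
    apply Finset.sum_congr rfl
    intro u _
    rw [← hsum1 u]
    apply Finset.sum_congr rfl
    intro x _
    simp [MonoidHom.noncommCoprod_apply]
  -- real parts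
  have hre : ∀ u : ↥(Subgroup.zpowers y),
      ((φ : G → ℂ) (u : G) - ((p - 1 : ℕ) : ℂ)).re ≤ 0 := by
    intro u
    have h1 : ‖(φ : G → ℂ) (u : G)‖ ≤ ((p - 1 : ℕ) : ℝ) := by
      have := Helper80.isCharacter_norm_le hchar (u : G)
      rw [hdeg] at this
      exact this
    have h2 : ((φ : G → ℂ) (u : G)).re ≤ ‖(φ : G → ℂ) (u : G)‖ := Complex.re_le_norm _
    simp only [Complex.sub_re, Complex.natCast_re]
    linarith
  have hre_sum : (∑ u : ↥(Subgroup.zpowers y),
      ((φ : G → ℂ) (u : G) - ((p - 1 : ℕ) : ℂ))).re = ∑ u : ↥(Subgroup.zpowers y),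
      ((φ : G → ℂ) (u : G) - ((p - 1 : ℕ) : ℂ)).re := Complex.re_sum _ _
  have hnonneg : 0 ≤ ∑ u : ↥(Subgroup.zpowers y),
      ((φ : G → ℂ) (u : G) - ((p - 1 : ℕ) : ℂ)).re := by
    rw [← hre_sum, hsum2]
    have : ((Fintype.card (↥(P : Subgroup G) × ↥(Subgroup.zpowers y)) : ℂ) * (n : ℂ)).re =
        (Fintype.card (↥(P : Subgroup G) × ↥(Subgroup.zpowers y)) : ℝ) * (n : ℝ) := by
      rw [← Nat.cast_mul, Complex.natCast_re, Nat.cast_mul]
    rw [this]
    positivity
  have hzero : ∑ u : ↥(Subgroup.zpowers y),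
      ((φ : G → ℂ) (u : G) - ((p - 1 : ℕ) : ℂ)).re = 0 :=
    le_antisymm (Finset.sum_nonpos (fun u _ => hre u)) hnonneg
  have hall := (Finset.sum_eq_zero_iff_of_nonpos (fun u _ => hre u)).1 hzero
  have hy0 := hall ⟨y, Subgroup.mem_zpowers y⟩ (Finset.mem_univ _)
  simp only [Complex.sub_re, Complex.natCast_re] at hy0
  have hφy : (φ : G → ℂ) y = ((p - 1 : ℕ) : ℂ) := by
    apply Helper76.mink_eq_of_re_eq_norm_le
    · linarith
    · have := Helper80.isCharacter_norm_le hchar y
      rw [hdeg] at this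
      exact this
  have hφ1 : (φ : G → ℂ) 1 = ((p - 1 : ℕ) : ℂ) := by
    rw [Helper79.isCharacter_one_eq_charDegree hchar, hdeg]
  -- the kernel of `φ` is a normal `p'`-subgroup containing `y`
  have hyK : y ∈ Helper79.charKer hchar := by
    rw [Helper79.mem_charKer, hφy, hφ1]
  have hKcop : (Nat.card ↥(Helper79.charKer hchar)).Coprime p := by
    rw [Nat.coprime_comm, Nat.Prime.coprime_iff_not_dvd hp]
    intro hdvd
    obtain ⟨k, hk⟩ := exists_prime_orderOf_dvd_card' (G := ↥(Helper79.charKer hchar)) p hdvd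
    have hkG : orderOf (k : G) = p := by
      rw [Subgroup.orderOf_coe]; exact hk
    -- conjugate `k` into `P`
    have hpg : IsPGroup p (Subgroup.zpowers (k : G)) :=
      IsPGroup.of_card (n := 1) (by rw [Nat.card_zpowers, hkG, pow_one])
    obtain ⟨Q, hQ⟩ := hpg.exists_le_sylow
    obtain ⟨g, hg⟩ := MulAction.exists_smul_eq G Q P
    have hmem : g * (k : G) * g⁻¹ ∈ (P : Subgroup G) := by
      rw [← hg, Sylow.coe_subgroup_smul]
      have := Subgroup.smul_mem_pointwise_smul _ (MulAut.conj g) _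
        (hQ (Subgroup.mem_zpowers (k : G)))
      simpa [MulAut.smul_def] using this
    have hne : g * (k : G) * g⁻¹ ≠ 1 := by
      intro h
      have hk1 : (k : G) = 1 := by
        have h2 : (k : G) = g⁻¹ * (g * (k : G) * g⁻¹) * g := by group
        rw [h2, h, mul_one, inv_mul_cancel]
      rw [hk1, orderOf_one] at hkG
      omega
    have hinK : g * (k : G) * g⁻¹ ∈ Helper79.charKer hchar :=
      (Helper79.charKer_normal hchar).conj_mem _ k.2 g
    rw [Helper79.mem_charKer, hφ1] at hinK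
    have h1 := hval (g * (k : G) * g⁻¹) hmem hne 1 (Subgroup.one_mem _) (by
      rw [orderOf_one]
      intro h
      have := Nat.le_of_dvd Nat.one_pos h
      omega)
    rw [mul_one, hinK] at h1
    have h3 : ((p - 1 : ℕ) : ℂ) + 1 = 0 := by rw [h1]; ring
    have h4 : ((p - 1 + 1 : ℕ) : ℂ) = 0 := by push_cast; exact h3
    have h5 : p - 1 + 1 = 0 := by exact_mod_cast h4
    omega
  have hbot := hOp _ (Helper79.charKer_normal hchar) hKcop
  rw [hbot, Subgroup.mem_bot] at hyK
  exact hy1 hyK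

theorem br_centralizer_card_gen {G : Type u} [Group G] [Finite G] {p : ℕ}
    [Fact p.Prime] (hOp : ∀ K : Subgroup G, K.Normal → (Nat.card K).Coprime p → K = ⊥)
    (P : Sylow p G) (hP : Nat.card (P : Subgroup G) = p)
    (φ : Cfsg.IrrCharacter G) (hdeg : Cfsg.charDegree (φ : G → ℂ) = p - 1)
    (hval : ∀ x : G, x ∈ (P : Subgroup G) → x ≠ 1 → ∀ y : G,
      y ∈ Subgroup.centralizer ((P : Subgroup G) : Set G) → ¬ p ∣ orderOf y →
      (φ : G → ℂ) (x * y) = -1) :
    Nat.card (Subgroup.centralizer ((P : Subgroup G) : Set G)) = p := by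
  have hp : p.Prime := Fact.out
  -- `C(P)` is a `p`-group
  have hCp : IsPGroup p ↥(Subgroup.centralizer ((P : Subgroup G) : Set G)) := by
    rintro ⟨g, hg⟩
    have hpos : 0 < orderOf g := orderOf_pos g
    obtain ⟨a, m, hm, hk⟩ := Nat.exists_eq_pow_mul_and_not_dvd hpos.ne' p hp.ne_one
    refine ⟨a, ?_⟩
    apply Subtype.ext
    rw [Subgroup.coe_pow, Subgroup.coe_one]
    apply br_t2g_regular_trivial hOp P hP φ hdeg hval (g ^ p ^ a) (Subgroup.pow_mem _ hg _)
    have hord : orderOf (g ^ p ^ a) = m := by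
      rw [orderOf_pow, hk, Nat.gcd_eq_right (Dvd.intro _ rfl),
        Nat.mul_div_cancel_left _ (pow_pos hp.pos a)]
    rw [hord]
    exact hm
  -- `P ≤ C(P)`
  have hcyc : IsCyclic ↥(P : Subgroup G) := isCyclic_of_prime_card hP
  have hPC : (P : Subgroup G) ≤ Subgroup.centralizer ((P : Subgroup G) : Set G) := by
    obtain ⟨g, hg⟩ := hcyc.exists_generator
    intro x hx
    rw [Subgroup.mem_centralizer_iff]
    intro y hy
    obtain ⟨a, ha⟩ := Subgroup.mem_zpowers_iff.1 (hg ⟨x, hx⟩)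
    obtain ⟨b, hb⟩ := Subgroup.mem_zpowers_iff.1 (hg ⟨y, hy⟩)
    have h1 : (⟨y, hy⟩ : ↥(P : Subgroup G)) * ⟨x, hx⟩ = ⟨x, hx⟩ * ⟨y, hy⟩ := by
      rw [← ha, ← hb]
      exact Commute.zpow_zpow_self g b a
    exact congrArg Subtype.val h1
  have heq : Subgroup.centralizer ((P : Subgroup G) : Set G) = (P : Subgroup G) :=
    P.is_maximal' hCp hPC
  rw [heq]
  exact hP

end Cfsg.Agent.Helper29
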