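import Cfsg.Prelude.Def_Local

set_option autoImplicit false

/-!
Small general-purpose lemmas about the Prelude's local-analysis vocabulary (helper29).

* `map_center_mulEquiv`: a group isomorphism maps the centre onto the centre.
* `isQuasisimple_of_mulEquiv`: `Cfsg.IsQuasisimple` is invariant under isomorphism.
* `two_dvd_card_of_orderOf_eq_two`: a subgroup containing an involution has even order.
-/

namespace Cfsg.Agent.Helper29

/-- A group isomorphism maps the centre onto the centre. -/
theorem map_center_mulEquiv {H H' : Type*} [Group H] [Group H'] (e : H ≃* H') :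
    (Subgroup.center H).map (e : H →* H') = Subgroup.center H' := by
  ext x
  constructor
  · rintro ⟨y, hy, rfl⟩
    have hy' : ∀ g, g * y = y * g := Subgroup.mem_center_iff.mp hy
    rw [Subgroup.mem_center_iff]
    intro g
    obtain ⟨g', rfl⟩ := e.surjective g
    have := hy' g'
    change e g' * e y = e y * e g'
    rw [← map_mul, ← map_mul, this]
  · intro hx
    rw [Subgroup.mem_center_iff] at hx
    refine ⟨e.symm x, ?_, by simp⟩
    change e.symm x ∈ Subgroup.center H
    rw [Subgroup.mem_center_iff]
    intro g
    apply e.injective
    rw [map_mul, map_mul, e.apply_symm_apply]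
    exact hx (e g)

/-- `Cfsg.IsQuasisimple` is invariant under group isomorphism. -/
theorem isQuasisimple_of_mulEquiv {H H' : Type*} [Group H] [Group H'] (e : H ≃* H')
    (h : Cfsg.IsQuasisimple H) : Cfsg.IsQuasisimple H' := by
  obtain ⟨hp, hs⟩ := h
  refine ⟨?_, ?_⟩
  · have := hp
    exact Group.IsPerfect.ofSurjective (f := (e : H →* H')) e.surjective
  · have e' : H ⧸ Subgroup.center H ≃* H' ⧸ Subgroup.center H' :=
      QuotientGroup.congr (Subgroup.center H) (Subgroup.center H') e (map_center_mulEquiv e)
    have := hs
    exact e'.symm.isSimpleGroup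

/-- A finite subgroup containing an element of order two has even order. -/
theorem two_dvd_card_of_orderOf_eq_two {G : Type*} [Group G] (K : Subgroup G) {t : G}
    (ht : orderOf t = 2) (htK : t ∈ K) : 2 ∣ Nat.card K := by
  rw [← ht]
  exact Subgroup.orderOf_dvd_natCard K htK

end Cfsg.Agent.Helper29
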