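import Mathlib
import Cfsg.Prelude.Def_Characters
import Cfsg.Prelude.Def_Blocks
import Cfsg.Agent.Helper77.D1Defs2
import Cfsg.Agent.Helper3.Induced

/-!
# CALL S4442B, piece IA (helper29): expansion of `k ↦ χ(x^i k)` along `Irr(K)`.
-/

universe u
set_option autoImplicit false
open Cfsg Cfsg.Agent.Helper77
open scoped ComplexConjugate

namespace Cfsg.Agent.Helper29

variable {G : Type u} [Group G] [Finite G]

theorem d1_dco_expand (p : ℕ) [Fact p.Prime] (x : G) (K : Subgroup G) (h : D1Hyp p x K)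
    (χ : Cfsg.IrrCharacter G) (i : ℕ) (k : K) :
    (χ : G → ℂ) (x ^ i * (k : G))
      = ∑ᶠ θ : Cfsg.IrrCharacter K, dco K (θ : K → ℂ) (χ : G → ℂ) (x ^ i) * (θ : K → ℂ) k := by
  classical
  haveI : Fintype K := Fintype.ofFinite K
  haveI : Fintype (Cfsg.IrrCharacter K) := Fintype.ofFinite _
  have hcl : Cfsg.IsClassFunction K (fun k : K => (χ : G → ℂ) (x ^ i * (k : G))) := by
    intro g c
    show (χ : G → ℂ) (x ^ i * ((c * g * c⁻¹ : K) : G)) = (χ : G → ℂ) (x ^ i * (g : G))
    have hcx : (c : G) * x = x * (c : G) := (h.hC c).2 ⟨0, c, c.2, by simp⟩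
    have hcxi : (c : G) * x ^ i = x ^ i * (c : G) :=
      (Commute.pow_right (show Commute (c : G) x from hcx) i)
    have h3 : x ^ i * ((c * g * c⁻¹ : K) : G) = (c : G) * (x ^ i * (g : G)) * (c : G)⁻¹ := by
      push_cast
      rw [← mul_assoc, ← mul_assoc, ← hcxi]
      group
    obtain ⟨m, ρ, -, hχ⟩ := χ.2
    rw [← hχ, h3, Representation.char_conj]
  have hexp := congrFun (Helper3.classFunction_eq_sum _ hcl) k
  rw [Finset.sum_apply] at hexp
  rw [finsum_eq_sum_of_fintype]
  refine hexp.trans (Finset.sum_congr rfl ?_)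
  intro θ _
  simp only [Pi.smul_apply, smul_eq_mul]
  congr 1
  unfold Cfsg.classInner dco
  rw [finsum_eq_sum_of_fintype]

end Cfsg.Agent.Helper29
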