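import Mathlib
import Cfsg.Prelude.Def_Characters
import Cfsg.Prelude.Def_Blocks
import Cfsg.Agent.Helper77.D1Defs2
import Cfsg.Agent.Helper79.S4441Setup

/-!
# CALL S4442B, piece SE (helper29): existence of the defect-one setup `D1Hyp p x K`.
-/

universe u
set_option autoImplicit false
open Cfsg Cfsg.Agent.Helper77
open scoped ComplexConjugate

namespace Cfsg.Agent.Helper29

variable {G : Type u} [Group G] [Finite G]

theorem d1_setup (p : ℕ) [Fact p.Prime] (hdiv : p ∣ Nat.card G) (hsq : ¬ p ^ 2 ∣ Nat.card G) :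
    ∃ (x : G) (K : Subgroup G), D1Hyp p x K := by
  classical
  haveI : Fintype G := Fintype.ofFinite G
  have hp : p.Prime := Fact.out
  obtain ⟨P⟩ : Nonempty (Sylow p G) := inferInstance
  have hn0 : Nat.card G ≠ 0 := Nat.card_pos.ne'
  have h1 : 1 ≤ (Nat.card G).factorization p := by
    rw [← hp.pow_dvd_iff_le_factorization hn0, pow_one]; exact hdiv
  have h2 : ¬ 2 ≤ (Nat.card G).factorization p := by
    rw [← hp.pow_dvd_iff_le_factorization hn0]; exact hsq
  have hP : Nat.card P = p := by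
    rw [Sylow.card_eq_multiplicity]
    have h3 : (Nat.card G).factorization p = 1 := by omega
    rw [h3, pow_one]
  obtain ⟨x, hx, hx1⟩ := Helper79.s4441_exists_ne_one P hP
  obtain ⟨K, hK, -, -, hC⟩ := Helper79.s4441_K P hP
  exact ⟨x, K, ⟨(Helper79.s4441_gen P hP x hx hx1).1, hK, hC x hx hx1, hsq⟩⟩

end Cfsg.Agent.Helper29
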