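import Mathlib

/-!
# An elementary abelian subgroup of order `p ^ 2` from two commuting elements of order `p`
(helper29)
-/

set_option autoImplicit false

namespace Cfsg.Agent.Helper29

theorem zpowers_comm' {G : Type*} [Group G] (g : G) (u v : Subgroup.zpowers g) :
    u * v = v * u := by
  obtain ⟨i, hi⟩ := Subgroup.mem_zpowers_iff.mp u.2
  obtain ⟨j, hj⟩ := Subgroup.mem_zpowers_iff.mp v.2
  apply Subtype.ext
  show (u : G) * v = v * u
  rw [← hi, ← hj, ← zpow_add, ← zpow_add, add_comm]

/-- Two commuting elements of prime order `p`, neither a power of the other, span a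
non-cyclic abelian subgroup of order `p * p` and exponent `p`. -/
theorem exists_elemAb_sq {G : Type*} [Group G] (p : ℕ) [Fact p.Prime] (z y : G)
    (hz : orderOf z = p) (hy : orderOf y = p) (hzy : z * y = y * z)
    (hyz : y ∉ Subgroup.zpowers z) :
    ∃ E : Subgroup G, Nat.card E = p * p ∧ IsMulCommutative E ∧ (∀ e ∈ E, e ^ p = 1) ∧
      z ∈ E ∧ y ∈ E ∧ ¬ IsCyclic E := by
  have hp : p.Prime := Fact.out
  have hdisj : ∀ u : G, u ∈ Subgroup.zpowers z → u ∈ Subgroup.zpowers y → u = 1 := by
    intro u hu1 hu2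
    by_contra hu
    have h1 : Subgroup.zpowers u = Subgroup.zpowers z := by
      have : Finite (Subgroup.zpowers z) := by
        apply Nat.finite_of_card_ne_zero
        rw [Nat.card_zpowers, hz]; exact hp.ne_zero
      apply Subgroup.eq_of_le_of_card_ge (Subgroup.zpowers_le.mpr hu1)
      rw [Nat.card_zpowers, Nat.card_zpowers, hz]
      have h2 : orderOf u ∣ p := by
        have := orderOf_dvd_natCard (⟨u, hu1⟩ : Subgroup.zpowers z)
        rwa [Subgroup.orderOf_mk, Nat.card_zpowers, hz] at this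
      rcases (Nat.dvd_prime hp).mp h2 with h3 | h3
      · exact absurd (orderOf_eq_one_iff.mp h3) hu
      · rw [h3]
    have h2 : Subgroup.zpowers u = Subgroup.zpowers y := by
      have : Finite (Subgroup.zpowers y) := by
        apply Nat.finite_of_card_ne_zero
        rw [Nat.card_zpowers, hy]; exact hp.ne_zero
      apply Subgroup.eq_of_le_of_card_ge (Subgroup.zpowers_le.mpr hu2)
      rw [h1, Nat.card_zpowers, Nat.card_zpowers, hz, hy]
    apply hyz
    rw [← h1, h2]
    exact Subgroup.mem_zpowers _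
  have hcomm : ∀ (m : Subgroup.zpowers z) (n : Subgroup.zpowers y),
      Commute ((Subgroup.zpowers z).subtype m) ((Subgroup.zpowers y).subtype n) := by
    intro m n
    obtain ⟨i, hi⟩ := Subgroup.mem_zpowers_iff.mp m.2
    obtain ⟨j, hj⟩ := Subgroup.mem_zpowers_iff.mp n.2
    show (m : G) * (n : G) = (n : G) * (m : G)
    rw [← hi, ← hj]
    have h1 : Commute z y := hzy
    exact (h1.zpow_zpow i j).eq
  set f := MonoidHom.noncommCoprod (Subgroup.zpowers z).subtype
    (Subgroup.zpowers y).subtype hcomm with hf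
  have hfinj : Function.Injective f := by
    rw [hf, MonoidHom.noncommCoprod_injective]
    refine ⟨Subgroup.subtype_injective _, Subgroup.subtype_injective _, ?_⟩
    rw [Subgroup.range_subtype, Subgroup.range_subtype, Subgroup.disjoint_def]
    exact fun {u} hu1 hu2 => hdisj u hu1 hu2
  have hEcard : Nat.card f.range = p * p := by
    rw [← Nat.card_congr (MonoidHom.ofInjective hfinj).toEquiv, Nat.card_prod, Nat.card_zpowers,
      Nat.card_zpowers, hz, hy]
  have hEexp : ∀ e ∈ f.range, e ^ p = 1 := by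
    rintro _ ⟨⟨u, v⟩, rfl⟩
    have h1 : f (u, v) = (u : G) * (v : G) := by
      rw [hf, MonoidHom.noncommCoprod_apply]; rfl
    have hc : Commute (u : G) (v : G) := hcomm u v
    rw [h1, hc.mul_pow]
    have hu : (u : G) ^ p = 1 := by
      obtain ⟨i, hi⟩ := Subgroup.mem_zpowers_iff.mp u.2
      rw [← hi, ← zpow_natCast, ← zpow_mul, mul_comm, zpow_mul, zpow_natCast, ← hz,
        pow_orderOf_eq_one, one_zpow]
    have hv : (v : G) ^ p = 1 := by
      obtain ⟨i, hi⟩ := Subgroup.mem_zpowers_iff.mp v.2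
      rw [← hi, ← zpow_natCast, ← zpow_mul, mul_comm, zpow_mul, zpow_natCast, ← hy,
        pow_orderOf_eq_one, one_zpow]
    rw [hu, hv, one_mul]
  refine ⟨f.range, hEcard, ?_, hEexp, ?_, ?_, ?_⟩
  · refine ⟨⟨?_⟩⟩
    rintro ⟨_, a, rfl⟩ ⟨_, b, rfl⟩
    apply Subtype.ext
    show f a * f b = f b * f a
    rw [← map_mul, ← map_mul]
    congr 1
    exact Prod.ext (zpowers_comm' _ a.1 b.1) (zpowers_comm' _ a.2 b.2)
  · refine ⟨(⟨z, Subgroup.mem_zpowers z⟩, 1), ?_⟩
    rw [hf, MonoidHom.noncommCoprod_apply]; simp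
  · refine ⟨(1, ⟨y, Subgroup.mem_zpowers y⟩), ?_⟩
    rw [hf, MonoidHom.noncommCoprod_apply]; simp
  · intro hcyc
    have : Finite f.range := by
      apply Nat.finite_of_card_ne_zero
      rw [hEcard]; exact Nat.mul_ne_zero hp.ne_zero hp.ne_zero
    obtain ⟨g, hg⟩ := hcyc.exists_generator
    have h1 : orderOf g = p * p := by
      rw [← hEcard]
      exact orderOf_eq_card_of_forall_mem_zpowers hg
    have h2 : g ^ p = 1 := Subtype.ext (by simpa using hEexp g g.2)
    have h3 := orderOf_dvd_of_pow_eq_one h2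
    rw [h1] at h3
    have h4 := Nat.le_of_dvd hp.pos h3
    have h5 := hp.one_lt
    nlinarith

end Cfsg.Agent.Helper29
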