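import Mathlib

set_option autoImplicit false

namespace Cfsg.Agent.Helper29

/-- The local bilinear form on the plane `F₂²`, of hyperbolic (`t = false`) or anisotropic
(`t = true`) quadratic type. -/
def bform (t : Bool) (x y : ZMod 2 × ZMod 2) : ZMod 2 :=
  x.1 * y.2 + (if t then x.1 * y.1 + x.2 * y.2 else 0)

theorem bform_add_left (t : Bool) (x x' y : ZMod 2 × ZMod 2) :
    bform t (x + x') y = bform t x y + bform t x' y := by
  unfold bform
  split_ifs <;> simp only [Prod.fst_add, Prod.snd_add] <;> ring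

theorem bform_add_right (t : Bool) (x y y' : ZMod 2 × ZMod 2) :
    bform t x (y + y') = bform t x y + bform t x y' := by
  unfold bform
  split_ifs <;> simp only [Prod.fst_add, Prod.snd_add] <;> ring

theorem bform_zero_left (t : Bool) (y : ZMod 2 × ZMod 2) : bform t 0 y = 0 := by
  simp [bform]

theorem bform_zero_right (t : Bool) (x : ZMod 2 × ZMod 2) : bform t x 0 = 0 := by
  simp [bform]

theorem bform_nondeg : ∀ (t : Bool) (x : ZMod 2 × ZMod 2), x ≠ 0 →
    ∃ u : ZMod 2 × ZMod 2, bform t x u ≠ bform t u x := by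
  decide

/-- The model group: a central extension of `(F₂²)ⁿ` by `F₂`, with a hyperbolic or anisotropic
plane in each coordinate according to `t`. -/
@[ext] structure ESM {n : ℕ} (t : Fin n → Bool) where
  v : Fin n → ZMod 2 × ZMod 2
  c : ZMod 2

namespace ESM

variable {n : ℕ} {t : Fin n → Bool}

/-- The cocycle. -/
def β (t : Fin n → Bool) (v w : Fin n → ZMod 2 × ZMod 2) : ZMod 2 :=
  ∑ i, bform (t i) (v i) (w i)

theorem β_add_left (v v' w : Fin n → ZMod 2 × ZMod 2) :
    β t (v + v') w = β t v w + β t v' w := by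
  simp [β, bform_add_left, Finset.sum_add_distrib]

theorem β_add_right (v w w' : Fin n → ZMod 2 × ZMod 2) :
    β t v (w + w') = β t v w + β t v w' := by
  simp [β, bform_add_right, Finset.sum_add_distrib]

theorem β_zero_left (w : Fin n → ZMod 2 × ZMod 2) : β t 0 w = 0 := by
  simp [β, bform_zero_left]

theorem β_zero_right (v : Fin n → ZMod 2 × ZMod 2) : β t v 0 = 0 := by
  simp [β, bform_zero_right]

theorem add_self_vec (v : Fin n → ZMod 2 × ZMod 2) : v + v = 0 := by
  funext i
  exact Prod.ext (CharTwo.add_self_eq_zero _) (CharTwo.add_self_eq_zero _)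

instance : Mul (ESM t) := ⟨fun x y => ⟨x.v + y.v, x.c + y.c + β t x.v y.v⟩⟩
instance : One (ESM t) := ⟨⟨0, 0⟩⟩
instance : Inv (ESM t) := ⟨fun x => ⟨x.v, x.c + β t x.v x.v⟩⟩

@[simp] theorem mul_v (x y : ESM t) : (x * y).v = x.v + y.v := rfl
@[simp] theorem mul_c (x y : ESM t) : (x * y).c = x.c + y.c + β t x.v y.v := rfl
@[simp] theorem one_v : (1 : ESM t).v = 0 := rfl
@[simp] theorem one_c : (1 : ESM t).c = 0 := rfl
@[simp] theorem inv_v (x : ESM t) : (x⁻¹).v = x.v := rfl
@[simp] theorem inv_c (x : ESM t) : (x⁻¹).c = x.c + β t x.v x.v := rfl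

instance : Group (ESM t) where
  mul_assoc x y z := by
    apply ESM.ext
    · simp [add_assoc]
    · simp only [mul_v, mul_c, β_add_left, β_add_right]; ring
  one_mul x := by apply ESM.ext <;> simp [β_zero_left]
  mul_one x := by apply ESM.ext <;> simp [β_zero_right]
  inv_mul_cancel x := by
    apply ESM.ext
    · simp [add_self_vec]
    · simp only [mul_c, inv_c, inv_v, one_c]
      have h1 := CharTwo.add_self_eq_zero x.c
      have h2 := CharTwo.add_self_eq_zero (β t x.v x.v)
      linear_combination h1 + h2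

/-- The underlying set. -/
def equivProd (t : Fin n → Bool) : ESM t ≃ (Fin n → ZMod 2 × ZMod 2) × ZMod 2 where
  toFun x := (x.v, x.c)
  invFun p := ⟨p.1, p.2⟩
  left_inv _ := rfl
  right_inv _ := rfl

noncomputable instance : Fintype (ESM t) := Fintype.ofEquiv _ (equivProd t).symm

theorem card_eq : Nat.card (ESM t) = 2 ^ (2 * n + 1) := by
  rw [Nat.card_congr (equivProd t), Nat.card_eq_fintype_card]
  simp only [Fintype.card_prod, Fintype.card_pi, Finset.prod_const, ZMod.card, Finset.card_univ,
    Fintype.card_fin]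
  rw [pow_succ, pow_mul]
  norm_num

/-- The central involution. -/
def z (t : Fin n → Bool) : ESM t := ⟨0, 1⟩

theorem z_ne_one : z t ≠ 1 := by
  intro h
  have := congrArg ESM.c h
  simp [z] at this

theorem comm_formula (x y : ESM t) :
    x * y * x⁻¹ * y⁻¹ = ⟨0, β t x.v y.v + β t y.v x.v⟩ := by
  apply ESM.ext
  · simp only [mul_v, inv_v]
    have h1 := add_self_vec x.v
    have h2 := add_self_vec y.v
    calc x.v + y.v + x.v + y.v = (x.v + x.v) + (y.v + y.v) := by abel
      _ = 0 := by rw [h1, h2, add_zero]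
  · simp only [mul_v, mul_c, inv_v, inv_c, β_add_left]
    have h1 := CharTwo.add_self_eq_zero x.c
    have h2 := CharTwo.add_self_eq_zero y.c
    have h3 := CharTwo.add_self_eq_zero (β t x.v x.v)
    have h4 := CharTwo.add_self_eq_zero (β t y.v y.v)
    have h5 := CharTwo.add_self_eq_zero (β t x.v y.v)
    linear_combination h1 + h2 + h3 + h4 + h5

theorem sq_formula (x : ESM t) : x ^ 2 = ⟨0, β t x.v x.v⟩ := by
  rw [pow_two]
  apply ESM.ext
  · simp [add_self_vec]
  · simp only [mul_c]
    have h1 := CharTwo.add_self_eq_zero x.c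
    linear_combination h1

theorem eq_one_or_z (a : ZMod 2) : (⟨0, a⟩ : ESM t) = 1 ∨ (⟨0, a⟩ : ESM t) = z t := by
  fin_cases a
  · left; rfl
  · right; rfl

theorem comm_eq_one_or_z (x y : ESM t) :
    x * y * x⁻¹ * y⁻¹ = 1 ∨ x * y * x⁻¹ * y⁻¹ = z t := by
  rw [comm_formula]; exact eq_one_or_z _

theorem sq_eq_one_or_z (x : ESM t) : x ^ 2 = 1 ∨ x ^ 2 = z t := by
  rw [sq_formula]; exact eq_one_or_z _

theorem z_central (y : ESM t) : z t * y = y * z t := by
  apply ESM.ext
  · simp [z]
  · simp [z, β_zero_left, β_zero_right, add_comm]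

theorem sq_eq_one_iff (x : ESM t) : x ^ 2 = 1 ↔ β t x.v x.v = 0 := by
  rw [sq_formula]
  constructor
  · intro h; exact congrArg ESM.c h
  · intro h; rw [h]; rfl

theorem β_single_right (v : Fin n → ZMod 2 × ZMod 2) (i : Fin n) (u : ZMod 2 × ZMod 2) :
    β t v (Pi.single i u) = bform (t i) (v i) u := by
  unfold β
  rw [Finset.sum_eq_single i]
  · simp
  · intro j _ hj
    simp [Pi.single_eq_of_ne hj, bform_zero_right]
  · intro h; exact absurd (Finset.mem_univ i) h

theorem β_single_left (w : Fin n → ZMod 2 × ZMod 2) (i : Fin n) (u : ZMod 2 × ZMod 2) :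
    β t (Pi.single i u) w = bform (t i) u (w i) := by
  unfold β
  rw [Finset.sum_eq_single i]
  · simp
  · intro j _ hj
    simp [Pi.single_eq_of_ne hj, bform_zero_left]
  · intro h; exact absurd (Finset.mem_univ i) h

theorem central_eq_one_or_z (x : ESM t) (hx : ∀ y, x * y = y * x) : x = 1 ∨ x = z t := by
  have hv : x.v = 0 := by
    funext i
    by_contra hne
    obtain ⟨u, hu⟩ := bform_nondeg (t i) (x.v i) hne
    apply hu
    have h1 := congrArg ESM.c (hx ⟨Pi.single i u, 0⟩)
    simp only [mul_c, β_single_right, β_single_left, add_zero] at h1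
    have h2 : x.c + bform (t i) (x.v i) u = x.c + bform (t i) u (x.v i) := by
      rw [h1]; ring
    exact add_left_cancel h2
  have : x = ⟨0, x.c⟩ := ESM.ext hv rfl
  rw [this]
  exact eq_one_or_z _

theorem exists_not_comm (hn : 0 < n) : ∃ x y : ESM t, x * y ≠ y * x := by
  refine ⟨⟨Pi.single ⟨0, hn⟩ (1, 0), 0⟩, ⟨Pi.single ⟨0, hn⟩ (0, 1), 0⟩, ?_⟩
  intro h
  have h1 := congrArg ESM.c h
  simp only [mul_c, β_single_right, Pi.single_eq_same, add_zero] at h1
  revert h1
  cases t ⟨0, hn⟩ <;> simp [bform]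

theorem isPGroup : IsPGroup 2 (ESM t) :=
  IsPGroup.of_card (n := 2 * n + 1) card_eq

/-! ### An elementary abelian subgroup -/

/-- Vectors supported on the first coordinates of the hyperbolic planes. -/
def elemVec (t : Fin n → Bool) (a : {i : Fin n // t i = false} → ZMod 2) :
    Fin n → ZMod 2 × ZMod 2 :=
  fun i => if h : t i = false then (a ⟨i, h⟩, 0) else 0

theorem β_elemVec (a a' : {i : Fin n // t i = false} → ZMod 2) :
    β t (elemVec t a) (elemVec t a') = 0 := by
  unfold β
  apply Finset.sum_eq_zero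
  intro i _
  unfold elemVec
  by_cases h : t i = false
  · simp [h, bform]
  · simp [h, bform_zero_left]

theorem elemVec_add (a a' : {i : Fin n // t i = false} → ZMod 2) :
    elemVec t (a + a') = elemVec t a + elemVec t a' := by
  funext i
  unfold elemVec
  by_cases h : t i = false <;> simp [h]

theorem elemVec_zero : elemVec t 0 = 0 := by
  funext i
  unfold elemVec
  by_cases h : t i = false <;> simp [h]

/-- The embedding of an elementary abelian group. -/
def elemHom (t : Fin n → Bool) :
    Multiplicative (({i : Fin n // t i = false} → ZMod 2) × ZMod 2) →* ESM t where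
  toFun p := ⟨elemVec t (Multiplicative.toAdd p).1, (Multiplicative.toAdd p).2⟩
  map_one' := by
    apply ESM.ext
    · simp [elemVec_zero]
    · rfl
  map_mul' p q := by
    apply ESM.ext
    · simp [elemVec_add]
    · simp [β_elemVec]

theorem elemHom_injective : Function.Injective (elemHom t) := by
  intro p q h
  have hv := congrArg ESM.v h
  have hc := congrArg ESM.c h
  apply Multiplicative.toAdd.injective
  apply Prod.ext
  · funext i
    have := congrFun hv i.1
    simp only [elemHom, MonoidHom.coe_mk, OneHom.coe_mk, elemVec, i.2, dite_true] at this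
    exact congrArg Prod.fst this
  · exact hc

theorem exists_elemAb (t : Fin n → Bool) : ∃ A : Subgroup (ESM t),
    (∀ a ∈ A, ∀ b ∈ A, a * b = b * a) ∧ (∀ a ∈ A, a ^ 2 = 1) ∧
    Nat.card A = 2 ^ (Fintype.card {i : Fin n // t i = false} + 1) := by
  refine ⟨(elemHom t).range, ?_, ?_, ?_⟩
  · rintro _ ⟨p, rfl⟩ _ ⟨q, rfl⟩
    rw [← map_mul, ← map_mul, mul_comm]
  · rintro _ ⟨p, rfl⟩
    rw [sq_eq_one_iff]
    exact β_elemVec _ _
  · rw [← Nat.card_congr (MonoidHom.ofInjective elemHom_injective).toEquiv,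
      Nat.card_eq_fintype_card]
    simp only [Fintype.card_multiplicative, Fintype.card_prod, Fintype.card_pi, Finset.prod_const,
      ZMod.card, Finset.card_univ]
    rw [pow_succ]

/-! ### Counting the elements of order four -/

/-- The sign character of `F₂`. -/
def chi (a : ZMod 2) : ℤ := if a = 0 then 1 else -1

theorem chi_add : ∀ a b : ZMod 2, chi (a + b) = chi a * chi b := by decide

theorem chi_sum {ι : Type*} (s : Finset ι) (f : ι → ZMod 2) :
    chi (∑ i ∈ s, f i) = ∏ i ∈ s, chi (f i) := by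
  classical
  induction s using Finset.induction_on with
  | empty => simp [chi]
  | insert i s hi ih => rw [Finset.sum_insert hi, Finset.prod_insert hi, chi_add, ih]

theorem sum_chi_bform : ∀ t : Bool,
    ∑ u : ZMod 2 × ZMod 2, chi (bform t u u) = if t then -2 else 2 := by
  decide

theorem sum_chi_q (t : Fin n → Bool) :
    ∑ v : Fin n → ZMod 2 × ZMod 2, chi (β t v v) = ∏ i, (if t i then (-2 : ℤ) else 2) := by
  have h1 : ∀ v : Fin n → ZMod 2 × ZMod 2,
      chi (β t v v) = ∏ i, chi (bform (t i) (v i) (v i)) := fun v => chi_sum _ _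
  simp_rw [h1]
  have h2 := Finset.prod_univ_sum (fun _ : Fin n => (Finset.univ : Finset (ZMod 2 × ZMod 2)))
    (fun i u => chi (bform (t i) u u))
  rw [Fintype.piFinset_univ] at h2
  rw [← h2]
  exact Finset.prod_congr rfl (fun i _ => sum_chi_bform (t i))

theorem chi_eq (a : ZMod 2) : chi a = 1 - 2 * (if a ≠ 0 then (1 : ℤ) else 0) := by
  unfold chi
  by_cases h : a = 0 <;> simp [h]

theorem two_mul_card_q_ne_zero (t : Fin n → Bool) :
    2 * (Fintype.card {v : Fin n → ZMod 2 × ZMod 2 // β t v v ≠ 0} : ℤ) =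
      4 ^ n - ∏ i, (if t i then (-2 : ℤ) else 2) := by
  rw [← sum_chi_q t]
  simp_rw [chi_eq]
  rw [Finset.sum_sub_distrib, ← Finset.mul_sum, Finset.sum_boole]
  simp only [Finset.sum_const, Finset.card_univ, Fintype.card_pi, Finset.prod_const,
    Fintype.card_prod, ZMod.card, Fintype.card_fin, nsmul_eq_mul, mul_one]
  rw [Fintype.card_subtype]
  push_cast
  ring

/-- Elements with non-trivial square correspond to non-singular vectors. -/
def sqEquiv (t : Fin n → Bool) :
    {x : ESM t // ¬ x ^ 2 = 1} ≃ {v : Fin n → ZMod 2 × ZMod 2 // β t v v ≠ 0} × ZMod 2 where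
  toFun x := (⟨x.1.v, fun h => x.2 ((sq_eq_one_iff x.1).mpr h)⟩, x.1.c)
  invFun p := ⟨⟨p.1.1, p.2⟩, fun h => p.1.2 ((sq_eq_one_iff _).mp h)⟩
  left_inv _ := rfl
  right_inv _ := rfl

theorem card_sq_ne_one (t : Fin n → Bool) :
    (Nat.card {x : ESM t // ¬ x ^ 2 = 1} : ℤ) =
      4 ^ n - ∏ i, (if t i then (-2 : ℤ) else 2) := by
  rw [Nat.card_congr (sqEquiv t), Nat.card_eq_fintype_card, Fintype.card_prod, ZMod.card,
    ← two_mul_card_q_ne_zero t]
  push_cast
  ring

/-- In the minus-type model the number of elements of order four is `2^(2n) + 2^n`. -/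
theorem card_sq_ne_one_minus (m : ℕ) :
    Nat.card {x : ESM (fun i : Fin (m + 1) => decide (i = 0)) // ¬ x ^ 2 = 1} =
      2 ^ (2 * (m + 1)) + 2 ^ (m + 1) := by
  have h := card_sq_ne_one (fun i : Fin (m + 1) => decide (i = 0))
  rw [Fin.prod_univ_succ] at h
  simp only [decide_true, if_true, Fin.succ_ne_zero, decide_false, Bool.false_eq_true, if_false,
    Finset.prod_const, Finset.card_univ, Fintype.card_fin] at h
  have h2 : (Nat.card {x : ESM (fun i : Fin (m + 1) => decide (i = 0)) // ¬ x ^ 2 = 1} : ℤ) =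
      ((2 ^ (2 * (m + 1)) + 2 ^ (m + 1) : ℕ) : ℤ) := by
    rw [h]
    push_cast
    rw [pow_mul, pow_succ (2 : ℤ) m]
    norm_num
    ring
  exact_mod_cast h2

theorem card_false_plus (n : ℕ) :
    Fintype.card {i : Fin n // (fun _ : Fin n => false) i = false} = n := by
  simp

theorem card_false_minus (m : ℕ) :
    Fintype.card {i : Fin (m + 1) // (fun i : Fin (m + 1) => decide (i = 0)) i = false} = m := by
  simp only [decide_eq_false_iff_not]
  rw [Fintype.card_subtype_compl, Fintype.card_fin, Fintype.card_subtype_eq]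
  rfl

end ESM

end Cfsg.Agent.Helper29
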