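import Mathlib
import Cfsg.Prelude.Def_Transfer
import Cfsg.Agent.Helper29.ExtraModel
import Cfsg.Agent.Helper48.Extraspecial2
import Cfsg.Agent.Helper47.Coprime
import Cfsg.Agent.Helper2.PGroup

set_option autoImplicit false

namespace Cfsg.Agent.Helper29

/-- Elementwise criterion for a finite 2-group to be extraspecial. -/
theorem isExtraspecial_two_of_elementwise {E : Type*} [Group E] [Finite E]
    (hE2 : IsPGroup 2 E) (z : E) (hz1 : z ≠ 1)
    (ha : ∀ x y : E, x * y * x⁻¹ * y⁻¹ = 1 ∨ x * y * x⁻¹ * y⁻¹ = z)
    (hb : ∀ x : E, x ^ 2 = 1 ∨ x ^ 2 = z)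
    (hc : ∀ c : E, (∀ y, c * y = y * c) → c = 1 ∨ c = z)
    (hd : ∀ y : E, z * y = y * z)
    (he : ∃ x y : E, x * y ≠ y * x) : Cfsg.IsExtraspecial 2 E := by
  have : Fact (Nat.Prime 2) := ⟨Nat.prime_two⟩
  have hzc : z ∈ Subgroup.center E := by
    rw [Subgroup.mem_center_iff]; intro g; exact (hd g).symm
  have hcen : ∀ c : E, c ∈ Subgroup.center E → c = 1 ∨ c = z := by
    intro c hc'
    rw [Subgroup.mem_center_iff] at hc'
    exact hc c (fun y => (hc' y).symm)
  have hcomm_eq : commutator E = Subgroup.center E := by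
    apply le_antisymm
    · rw [commutator_def, Subgroup.commutator_le]
      intro x _ y _
      rw [commutatorElement_def]
      rcases ha x y with h | h
      · rw [h]; exact Subgroup.one_mem _
      · rw [h]; exact hzc
    · intro c hc'
      rcases hcen c hc' with h | h
      · rw [h]; exact Subgroup.one_mem _
      · rw [h]
        obtain ⟨x, y, hxy⟩ := he
        rcases ha x y with h1 | h1
        · exfalso; apply hxy
          calc x * y = (x * y * x⁻¹ * y⁻¹) * (y * x) := by group
            _ = y * x := by rw [h1, one_mul]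
        · rw [← h1, commutator_def, ← commutatorElement_def]
          exact Subgroup.commutator_mem_commutator (Subgroup.mem_top _) (Subgroup.mem_top _)
  have hfr : frattini E = Subgroup.center E := by
    apply le_antisymm
    · rw [← hcomm_eq]
      have h1 := Cfsg.Agent.Helper47.frattini_le_ker (P := E) 2 (Abelianization.of) (by
        intro x
        rw [← map_pow]
        have hx2 : x ^ 2 ∈ commutator E := by
          rw [hcomm_eq]
          rcases hb x with h | h
          · rw [h]; exact Subgroup.one_mem _
          · rw [h]; exact hzc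
        exact MonoidHom.mem_ker.mp (by rw [Abelianization.ker_of]; exact hx2))
      rw [Abelianization.ker_of] at h1
      exact h1
    · rw [← hcomm_eq]
      exact Cfsg.Agent.Helper2.commutator_le_frattini_of_isPGroup hE2
  refine ⟨⟨hE2, hfr, hcomm_eq⟩, ?_⟩
  have hzz : z ^ 2 = 1 := by
    rcases hb z with h | h
    · exact h
    · exfalso; apply hz1
      have : z * z = z * 1 := by rw [mul_one, ← pow_two]; exact h
      exact mul_left_cancel this
  have hcz : Subgroup.center E = Subgroup.zpowers z := by
    apply le_antisymm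
    · intro c hc'
      rcases hcen c hc' with h | h
      · rw [h]; exact Subgroup.one_mem _
      · rw [h]; exact Subgroup.mem_zpowers _
    · rw [Subgroup.zpowers_le]; exact hzc
  rw [hcz, Nat.card_zpowers]
  exact orderOf_eq_prime hzz hz1

/-- The model groups are extraspecial. -/
theorem ESM.isExtraspecial {n : ℕ} (t : Fin n → Bool) (hn : 0 < n) :
    Cfsg.IsExtraspecial 2 (ESM t) :=
  isExtraspecial_two_of_elementwise ESM.isPGroup (ESM.z t) ESM.z_ne_one ESM.comm_eq_one_or_z
    ESM.sq_eq_one_or_z ESM.central_eq_one_or_z ESM.z_central (ESM.exists_not_comm hn)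

/-- An abelian subgroup of an extraspecial 2-group of order `2^(2n+1)` has order at most
`2^(n+1)`. -/
theorem card_abelian_le_of_isExtraspecial {E : Type*} [Group E] [Finite E]
    (hE : Cfsg.IsExtraspecial 2 E) (n : ℕ) (hcard : Nat.card E = 2 ^ (2 * n + 1))
    (A : Subgroup E) (hA : ∀ a ∈ A, ∀ b ∈ A, a * b = b * a) : Nat.card A ≤ 2 ^ (n + 1) := by
  have hc := Cfsg.Agent.Helper48.comm_mem_center_of_isExtraspecial hE
  have h2 := hE.2
  have hcnt := Cfsg.Agent.Helper48.card_centralizer_mul_card hc h2 A
  have hinj : Nat.card {b : A // (b : E) ∈ Subgroup.center E} ≤ Nat.card (Subgroup.center E) := by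
    apply Nat.card_le_card_of_injective
      (fun b : {b : A // (b : E) ∈ Subgroup.center E} => (⟨(b.1 : E), b.2⟩ : Subgroup.center E))
    intro b b' h
    apply Subtype.ext
    apply Subtype.ext
    have h' := congrArg Subtype.val h
    exact h'
  rw [h2] at hinj
  have hle : A ≤ Subgroup.centralizer (A : Set E) := by
    intro a ha
    rw [Subgroup.mem_centralizer_iff]
    intro b hb
    exact hA b hb a ha
  have h3 : Nat.card A ≤ Nat.card (Subgroup.centralizer (A : Set E)) := Subgroup.card_le_of_le hle
  have h4 : Nat.card A * Nat.card A ≤ 2 ^ (n + 1) * 2 ^ (n + 1) := by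
    calc Nat.card A * Nat.card A ≤ Nat.card (Subgroup.centralizer (A : Set E)) * Nat.card A :=
          Nat.mul_le_mul_right _ h3
      _ = Nat.card {b : A // (b : E) ∈ Subgroup.center E} * Nat.card E := hcnt
      _ ≤ 2 * 2 ^ (2 * n + 1) := by rw [hcard]; exact Nat.mul_le_mul_right _ hinj
      _ = 2 ^ (n + 1) * 2 ^ (n + 1) := by ring
  exact Nat.mul_self_le_mul_self_iff.mp h4

end Cfsg.Agent.Helper29
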