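import Cfsg.Agent.Helper29.Basic

set_option autoImplicit false

/-!
Normality of the layer, the Fitting subgroup and the generalized Fitting subgroup of the Prelude,
and a few elementary facts on involutions (helper29).
-/

namespace Cfsg.Agent.Helper29

/-- The join of a family of subgroups that is stable under conjugation is a normal subgroup. -/
theorem sSup_normal_of_conj_mem {G : Type*} [Group G] (S : Set (Subgroup G))
    (hS : ∀ K ∈ S, ∀ g : G, K.map (MulAut.conj g).toMonoidHom ∈ S) : (sSup S).Normal := by
  constructor
  intro n hn g
  have hle : (sSup S).map (MulAut.conj g).toMonoidHom ≤ sSup S := by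
    rw [Subgroup.map_le_iff_le_comap]
    refine sSup_le fun K hK => ?_
    rw [← Subgroup.map_le_iff_le_comap]
    exact le_sSup (hS K hK g)
  exact hle ⟨n, hn, rfl⟩

/-- The image of a component under a group isomorphism is a component. -/
theorem isComponent_map_mulEquiv {G G' : Type*} [Group G] [Group G'] (e : G ≃* G')
    {K : Subgroup G} (hK : Cfsg.IsComponent K) : Cfsg.IsComponent (K.map (e : G →* G')) :=
  ⟨hK.1.map e.surjective, isQuasisimple_of_mulEquiv (e.subgroupMap K) hK.2⟩

/-- The layer `E(G)` is a normal subgroup. -/
theorem layer_normal (G : Type*) [Group G] : (Cfsg.layer G).Normal :=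
  sSup_normal_of_conj_mem _ fun _ hK g => isComponent_map_mulEquiv (MulAut.conj g) hK

/-- The Fitting subgroup `F(G)` is a normal subgroup. -/
theorem fittingSubgroup_normal (G : Type*) [Group G] : (Cfsg.fittingSubgroup G).Normal :=
  Subgroup.sSup_normal _ (fun _ h => h.1)

/-- The generalized Fitting subgroup `F*(G)` is a normal subgroup. -/
theorem generalizedFittingSubgroup_normal (G : Type*) [Group G] :
    (Cfsg.generalizedFittingSubgroup G).Normal := by
  have h1 := layer_normal G
  have h2 := fittingSubgroup_normal G
  exact Subgroup.sup_normal _ _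

/-- A commutative group is nilpotent (stated with `IsMulCommutative`). -/
theorem isNilpotent_of_isMulCommutative (H : Type*) [Group H] [IsMulCommutative H] :
    Group.IsNilpotent H := by
  refine ⟨⟨1, ?_⟩⟩
  rw [Subgroup.upperCentralSeries_one, Subgroup.center_eq_top]

/-- A normal nilpotent subgroup lies in the Fitting subgroup. -/
theorem le_fittingSubgroup {G : Type*} [Group G] (N : Subgroup G) (hN : N.Normal)
    (hnil : Group.IsNilpotent N) : N ≤ Cfsg.fittingSubgroup G :=
  le_sSup ⟨hN, hnil⟩

/-- The Fitting subgroup lies in the generalized Fitting subgroup. -/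
theorem fittingSubgroup_le_generalizedFittingSubgroup (G : Type*) [Group G] :
    Cfsg.fittingSubgroup G ≤ Cfsg.generalizedFittingSubgroup G :=
  le_sup_right

/-- A central element lies in the Fitting subgroup. -/
theorem mem_fittingSubgroup_of_mem_center {G : Type*} [Group G] {z : G}
    (hz : z ∈ Subgroup.center G) : z ∈ Cfsg.fittingSubgroup G := by
  have hle : Subgroup.zpowers z ≤ Subgroup.center G := by
    rw [Subgroup.zpowers_le]
    exact hz
  have hn : (Subgroup.zpowers z).Normal := by
    constructor
    intro n hn g
    have : g * n * g⁻¹ = n := by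
      have := Subgroup.mem_center_iff.mp (hle hn) g
      rw [this, mul_inv_cancel_right]
    rw [this]
    exact hn
  exact le_fittingSubgroup _ hn (isNilpotent_of_isMulCommutative _) (Subgroup.mem_zpowers z)

/-- In a finite cyclic group there is at most one element of order two. -/
theorem eq_of_orderOf_eq_two_of_isCyclic {A : Type*} [Group A] [Finite A] [IsCyclic A] {x y : A}
    (hx : orderOf x = 2) (hy : orderOf y = 2) : x = y := by
  classical
  have := Fintype.ofFinite A
  by_contra hne
  have h := IsCyclic.card_pow_eq_one_le (α := A) (n := 2) (by norm_num)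
  have hx1 : x ≠ 1 := by
    intro h1
    rw [h1, orderOf_one] at hx
    omega
  have hy1 : y ≠ 1 := by
    intro h1
    rw [h1, orderOf_one] at hy
    omega
  have hsub : ({1, x, y} : Finset A) ⊆ Finset.univ.filter (fun a => a ^ 2 = 1) := by
    intro a ha
    simp only [Finset.mem_insert, Finset.mem_singleton] at ha
    simp only [Finset.mem_filter, Finset.mem_univ, true_and]
    rcases ha with rfl | rfl | rfl
    · simp
    · rw [← hx]; exact pow_orderOf_eq_one _
    · rw [← hy]; exact pow_orderOf_eq_one _
  have hcard : ({1, x, y} : Finset A).card = 3 := by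
    rw [Finset.card_insert_of_notMem, Finset.card_insert_of_notMem, Finset.card_singleton]
    · simpa using hne
    · simp only [Finset.mem_insert, Finset.mem_singleton, not_or]
      exact ⟨fun h => hx1 h.symm, fun h => hy1 h.symm⟩
  have := Finset.card_le_card hsub
  omega

/-- A nontrivial element killed by a power of two has a power of order two. -/
theorem exists_pow_orderOf_eq_two {G : Type*} [Group G] :
    ∀ (k : ℕ) {x : G}, x ≠ 1 → x ^ 2 ^ k = 1 → ∃ m : ℕ, orderOf (x ^ m) = 2 := by
  intro k
  induction k with
  | zero =>
    intro x hx hk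
    exact absurd (by simpa using hk) hx
  | succ k ih =>
    intro x hx hk
    by_cases h : x ^ 2 ^ k = 1
    · exact ih hx h
    · refine ⟨2 ^ k, ?_⟩
      have : Fact (Nat.Prime 2) := ⟨Nat.prime_two⟩
      apply orderOf_eq_prime _ h
      rw [← pow_mul, ← pow_succ]
      exact hk

end Cfsg.Agent.Helper29
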