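import Mathlib
import Cfsg.Prelude.Def_Solvable
import Cfsg.Agent.Helper68.Frob
import Cfsg.Agent.Helper71.Frobenius
import Cfsg.Agent.Helper71.FrobCount
import Cfsg.Agent.Helper11.FrobThm
import Cfsg.Agent.Helper11.FrobAction
import Cfsg.Agent.Helper3.Frobenius

/-!
# Frobenius groups: fixed points, conjugacy of complements, uniqueness of the kernel (helper29)

* `exists_fixed_point_of_unique`: a finite group acting so that every nonidentity element has
  exactly one fixed point has a global fixed point.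
* `FrobPair N H`: `H` is a Frobenius complement with kernel the normal subgroup `N`.
* `FrobPair.le_conj`: a subgroup meeting `N` trivially lies in a conjugate of `H`.
* `FrobPair.kernel_le`: the kernel is unique.
-/

set_option autoImplicit false

namespace Cfsg.Agent.Helper29

open scoped Pointwise

/-- If every nonidentity element of a finite group `A` acting on `Ω` fixes exactly one point,
then `A` fixes a point. -/
theorem exists_fixed_point_of_unique {A Ω : Type*} [Group A] [Finite A] [MulAction A Ω]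
    [Nonempty Ω] (h : ∀ a : A, a ≠ 1 → ∃! ω : Ω, a • ω = ω) : ∃ ω : Ω, ∀ a : A, a • ω = ω := by
  classical
  by_cases hA : ∀ a : A, a = 1
  · obtain ⟨ω⟩ := ‹Nonempty Ω›
    exact ⟨ω, fun a => by rw [hA a, one_smul]⟩
  push Not at hA
  obtain ⟨a, ha⟩ := hA
  obtain ⟨ω, hω, -⟩ := h a ha
  by_contra hcon
  push Not at hcon
  have hfrob : ∀ ω' : Ω, ∀ k : A, k ∉ MulAction.stabilizer A ω' →
      ∀ x ∈ MulAction.stabilizer A ω', k * x * k⁻¹ ∈ MulAction.stabilizer A ω' → x = 1 := by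
    intro ω' k hk x hx hkx
    by_contra hx1
    obtain ⟨ω₀, -, huniq⟩ := h x hx1
    have h1 : x • ω' = ω' := hx
    have h2 : x • (k⁻¹ • ω') = k⁻¹ • ω' := by
      have h3 : (k * x * k⁻¹) • ω' = ω' := hkx
      calc x • (k⁻¹ • ω') = k⁻¹ • ((k * x * k⁻¹) • ω') := by simp [mul_smul]
        _ = k⁻¹ • ω' := by rw [h3]
    have h3 : k⁻¹ • ω' = ω' := (huniq _ h2).trans (huniq _ h1).symm
    apply hk
    rw [MulAction.mem_stabilizer_iff]
    calc k • ω' = k • (k⁻¹ • ω') := by rw [h3]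
      _ = ω' := by simp
  have hidx : ∀ ω' : Ω, ∀ b : A, b ≠ 1 → b • ω' = ω' →
      2 * (MulAction.stabilizer A ω').index ≤ Nat.card A := by
    intro ω' b hb hbω
    have h1 := (MulAction.stabilizer A ω').card_mul_index
    have h2 : 2 ≤ Nat.card (MulAction.stabilizer A ω') := by
      have : Nontrivial (MulAction.stabilizer A ω') :=
        ⟨⟨⟨b, hbω⟩, 1, fun h => hb (congrArg Subtype.val h)⟩⟩
      exact Finite.one_lt_card
    nlinarith
  have hS : MulAction.stabilizer A ω ≠ ⊤ := by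
    intro hS
    obtain ⟨b, hb⟩ := hcon ω
    have : b ∈ MulAction.stabilizer A ω := hS ▸ Subgroup.mem_top b
    exact hb this
  have hidx2 : 2 ≤ (MulAction.stabilizer A ω).index := by
    have h0 : (MulAction.stabilizer A ω).index ≠ 0 := Subgroup.index_ne_zero_of_finite
    have h1 : (MulAction.stabilizer A ω).index ≠ 1 := fun h => hS (Subgroup.index_eq_one.mp h)
    omega
  have hc1 := Cfsg.Agent.Helper68.frob_count (MulAction.stabilizer A ω) (hfrob ω)
  have hcard : ({x : A | x ≠ 1}).ncard + 1 = Nat.card A := by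
    rw [← Nat.card_coe_set_eq]
    exact Cfsg.Agent.Helper68.card_subtype_ne_add_one (1 : A)
  have hex : ∃ a' : A, a' ≠ 1 ∧ a' ∉ Cfsg.Agent.Helper68.conjUnion (MulAction.stabilizer A ω) := by
    by_contra hne
    push Not at hne
    have hsub : {x : A | x ≠ 1} ⊆ Cfsg.Agent.Helper68.conjUnion (MulAction.stabilizer A ω) :=
      fun x hx => hne x hx
    have hle := Set.ncard_le_ncard hsub (Set.toFinite _)
    omega
  obtain ⟨a', ha', ha'S⟩ := hex
  obtain ⟨ω', hω', -⟩ := h a' ha'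
  have hc2 := Cfsg.Agent.Helper68.frob_count (MulAction.stabilizer A ω') (hfrob ω')
  have hdisj : Disjoint (Cfsg.Agent.Helper68.conjUnion (MulAction.stabilizer A ω))
      (Cfsg.Agent.Helper68.conjUnion (MulAction.stabilizer A ω')) := by
    rw [Set.disjoint_left]
    rintro y ⟨hy1, k, hk⟩ ⟨-, k', hk'⟩
    apply ha'S
    obtain ⟨ω₀, -, hu⟩ := h y hy1
    have e1 : y • (k • ω) = k • ω := by
      have h3 : (k⁻¹ * y * k) • ω = ω := hk
      calc y • (k • ω) = k • ((k⁻¹ * y * k) • ω) := by simp [mul_smul]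
        _ = k • ω := by rw [h3]
    have e2 : y • (k' • ω') = k' • ω' := by
      have h3 : (k'⁻¹ * y * k') • ω' = ω' := hk'
      calc y • (k' • ω') = k' • ((k'⁻¹ * y * k') • ω') := by simp [mul_smul]
        _ = k' • ω' := by rw [h3]
    have e3 : k • ω = k' • ω' := (hu _ e1).trans (hu _ e2).symm
    have e4 : ω' = (k'⁻¹ * k) • ω := by
      rw [mul_smul, e3]; simp
    refine ⟨ha', k'⁻¹ * k, ?_⟩
    show ((k'⁻¹ * k)⁻¹ * a' * (k'⁻¹ * k)) • ω = ω
    rw [mul_smul, ← e4, mul_smul, hω', e4, inv_smul_smul]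
  have hunion : (Cfsg.Agent.Helper68.conjUnion (MulAction.stabilizer A ω) ∪
      Cfsg.Agent.Helper68.conjUnion (MulAction.stabilizer A ω')).ncard ≤ ({x : A | x ≠ 1}).ncard :=
    Set.ncard_le_ncard (by rintro y (hy | hy) <;> exact hy.1) (Set.toFinite _)
  rw [Set.ncard_union_eq hdisj (Set.toFinite _) (Set.toFinite _)] at hunion
  have i1 := hidx ω a ha hω
  have i2 := hidx ω' a' ha' hω'
  omega

/-- A subgroup all of whose nonidentity elements lie in conjugates of a Frobenius complement `H`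
lies in a single conjugate of `H`. -/
theorem le_conj_of_forall_mem_conj {G : Type*} [Group G] [Finite G] (H : Subgroup G)
    (hF : ∀ g : G, g ∉ H → ∀ x ∈ H, g⁻¹ * x * g ∈ H → x = 1)
    (L : Subgroup G) (hL : ∀ l ∈ L, l ≠ 1 → ∃ g : G, g⁻¹ * l * g ∈ H) :
    ∃ a : G, L ≤ MulAut.conj a • H := by
  have hF' : ∀ g : G, g ∉ H → ∀ x ∈ H, g⁻¹ * x * g ∈ H → x ∈ (⊥ : Subgroup G) :=
    fun g hg x hx hgx => Subgroup.mem_bot.mpr (hF g hg x hx hgx)
  have key : ∀ l : L, l ≠ 1 → ∃! ω : G ⧸ H, l • ω = ω := by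
    intro l hl
    have hl1 : (l : G) ≠ 1 := fun h => hl (Subtype.ext h)
    obtain ⟨g, hg⟩ := hL l l.2 hl1
    have hfix := Cfsg.Agent.Helper71.fixedBy_eq_singleton (⊥ : Subgroup G) H hF' (g := (l : G))
      (by simpa using hl1) hg
    refine ⟨(g : G ⧸ H), ?_, ?_⟩
    · have : ((g : G ⧸ H)) ∈ MulAction.fixedBy (G ⧸ H) (l : G) := by rw [hfix]; rfl
      exact this
    · intro ω hω
      have : ω ∈ MulAction.fixedBy (G ⧸ H) (l : G) := hω
      rw [hfix] at this
      exact this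
  obtain ⟨ω, hω⟩ := exists_fixed_point_of_unique key
  induction ω using QuotientGroup.induction_on with
  | H a =>
    refine ⟨a, fun l hl => ?_⟩
    rw [Cfsg.Agent.Helper71.mem_conj_smul]
    exact (Cfsg.Agent.Helper71.smul_coset_eq_iff H l a).mp (hω ⟨l, hl⟩)

/-- `H` is a Frobenius complement whose Frobenius kernel is the normal subgroup `N`. -/
structure FrobPair {G : Type*} [Group G] (N H : Subgroup G) : Prop where
  normal : N.Normal
  compl : Subgroup.IsComplement' N H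
  ne_bot : H ≠ ⊥
  ne_top : H ≠ ⊤
  frob : ∀ g : G, g ∉ H → ∀ x ∈ H, g⁻¹ * x * g ∈ H → x = 1
  mem_iff : ∀ x : G, x ∈ N ↔ (x = 1 ∨ ∀ g : G, g⁻¹ * x * g ∉ H)

theorem mem_frobeniusKernel_iff {G : Type*} [Group G] (H : Subgroup G) (x : G) :
    x ∈ Cfsg.frobeniusKernel H ↔ (x = 1 ∨ ∀ g : G, g⁻¹ * x * g ∉ H) := by
  unfold Cfsg.frobeniusKernel
  simp only [Set.mem_ofPred_eq, Cfsg.Agent.Helper71.mem_conj_smul]

/-- Frobenius' theorem, packaged. -/
theorem exists_frobPair {G : Type*} [Group G] [Finite G] (H : Subgroup G)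
    (hH : Cfsg.IsFrobeniusComplement H) :
    ∃ N : Subgroup G, (N : Set G) = Cfsg.frobeniusKernel H ∧ FrobPair N H := by
  obtain ⟨N, hN, hNn, hc⟩ := Cfsg.Agent.Helper11.frobenius_kernel_subgroup H hH
  obtain ⟨h1, h2, h3⟩ := (Cfsg.Agent.Helper71.isFrobeniusComplement_iff H).mp hH
  refine ⟨N, hN, hNn, hc, h1, h2, h3, fun x => ?_⟩
  rw [← mem_frobeniusKernel_iff, ← hN]
  rfl

namespace FrobPair

variable {G : Type*} [Group G] {N H : Subgroup G}

theorem eq_frobeniusKernel (h : FrobPair N H) : (N : Set G) = Cfsg.frobeniusKernel H := by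
  ext x
  rw [mem_frobeniusKernel_iff, ← h.mem_iff]
  rfl

theorem isFrobeniusComplement (h : FrobPair N H) : Cfsg.IsFrobeniusComplement H :=
  (Cfsg.Agent.Helper71.isFrobeniusComplement_iff H).mpr ⟨h.ne_bot, h.ne_top, h.frob⟩

theorem disjoint (h : FrobPair N H) {x : G} (hxN : x ∈ N) (hxH : x ∈ H) : x = 1 := by
  have := h.compl.disjoint
  rw [Subgroup.disjoint_def] at this
  exact this hxN hxH

theorem exists_mul (h : FrobPair N H) (g : G) : ∃ n ∈ N, ∃ x ∈ H, g = n * x := by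
  obtain ⟨⟨n, x⟩, hnx⟩ := h.compl.2 g
  exact ⟨n, n.2, x, x.2, hnx.symm⟩

theorem exists_conj (h : FrobPair N H) {g : G} (hg : g ∉ N) : ∃ u : G, u⁻¹ * g * u ∈ H := by
  by_contra hcon
  push Not at hcon
  exact hg ((h.mem_iff g).mpr (Or.inr hcon))

theorem ne_one (_h : FrobPair N H) {g : G} (hg : g ∉ N) : g ≠ 1 := by
  rintro rfl
  exact hg N.one_mem

/-- Elements outside the kernel have no nontrivial centraliser in the kernel. -/
theorem eq_one_of_commute (h : FrobPair N H) {g n : G} (hg : g ∉ N) (hn : n ∈ N)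
    (hc : g * n = n * g) : n = 1 := by
  obtain ⟨u, hu⟩ := h.exists_conj hg
  have hN := h.normal
  have h1 : u⁻¹ * g * u ≠ 1 := by
    intro h2
    apply h.ne_one hg
    have : g = u * (u⁻¹ * g * u) * u⁻¹ := by group
    rw [this, h2]; group
  have hn' : u⁻¹ * n * u ∈ N := by
    have := hN.conj_mem n hn u⁻¹
    simpa using this
  have h3 : (u⁻¹ * n * u)⁻¹ * (u⁻¹ * g * u) * (u⁻¹ * n * u) = u⁻¹ * g * u := by
    have : (u⁻¹ * n * u)⁻¹ * (u⁻¹ * g * u) * (u⁻¹ * n * u) = u⁻¹ * (n⁻¹ * (g * n)) * u := by group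
    rw [this, hc]; group
  have h4 : u⁻¹ * n * u ∈ H := by
    by_contra h5
    exact h1 (h.frob _ h5 _ hu (by rw [h3]; exact hu))
  have h5 := h.disjoint hn' h4
  have : n = u * (u⁻¹ * n * u) * u⁻¹ := by group
  rw [this, h5]; group

theorem card_mul_card (h : FrobPair N H) : Nat.card N * Nat.card H = Nat.card G :=
  h.compl.card_mul_card

theorem index_eq (h : FrobPair N H) : N.index = Nat.card H := h.compl.symm.index_eq_card

theorem card_conj_smul (a : G) (K : Subgroup G) :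
    Nat.card (MulAut.conj a • K : Subgroup G) = Nat.card K := by
  rw [Subgroup.pointwise_smul_def]
  exact Subgroup.card_map_of_injective (MulAut.conj a).injective

variable [Finite G]

theorem coprime (h : FrobPair N H) : (Nat.card N).Coprime (Nat.card H) := by
  have hF' : ∀ g : G, g ∉ H → ∀ x ∈ H, g⁻¹ * x * g ∈ H → x ∈ (⊥ : Subgroup G) :=
    fun g hg x hx hgx => Subgroup.mem_bot.mpr (h.frob g hg x hx hgx)
  obtain ⟨q, hq⟩ := Cfsg.Agent.Helper71.exists_index_add_relIndex (⊥ : Subgroup G) H bot_le hF'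
  rw [Subgroup.relIndex_bot_left, h.compl.index_eq_card] at hq
  have h1 : Nat.gcd (Nat.card N) (Nat.card H) ∣ 1 := by
    have d1 := Nat.gcd_dvd_left (Nat.card N) (Nat.card H)
    have d2 := Nat.gcd_dvd_right (Nat.card N) (Nat.card H)
    have d3 : Nat.gcd (Nat.card N) (Nat.card H) ∣ q * Nat.card H + 1 := by
      rw [← hq]; exact dvd_add d1 d2
    exact (Nat.dvd_add_right (Dvd.dvd.mul_left d2 q)).mp d3
  exact Nat.dvd_one.mp h1

/-- A subgroup meeting the kernel trivially lies in a conjugate of the complement. -/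
theorem le_conj (h : FrobPair N H) (L : Subgroup G) (hL : ∀ x ∈ L, x ∈ N → x = 1) :
    ∃ a : G, L ≤ MulAut.conj a • H := by
  apply le_conj_of_forall_mem_conj H h.frob L
  intro l hl hl1
  apply h.exists_conj
  intro hlN
  exact hl1 (hL l hl hlN)

/-- A subgroup of the same order as `H` meeting the kernel trivially is a conjugate of `H`. -/
theorem eq_conj (h : FrobPair N H) (L : Subgroup G) (hL : ∀ x ∈ L, x ∈ N → x = 1)
    (hcard : Nat.card L = Nat.card H) : ∃ a : G, L = MulAut.conj a • H := by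
  obtain ⟨a, ha⟩ := h.le_conj L hL
  refine ⟨a, Subgroup.eq_of_le_of_card_ge ha ?_⟩
  rw [card_conj_smul, hcard]

end FrobPair


/-- Conjugation action of a subgroup `H` on a subgroup `Z` that it normalises. -/
def conjHom {G : Type*} [Group G] (H Z : Subgroup G)
    (hZ : ∀ x ∈ H, ∀ z ∈ Z, x * z * x⁻¹ ∈ Z) : H →* MulAut Z where
  toFun x :=
    { toFun := fun z => ⟨x * z * (x : G)⁻¹, hZ x x.2 z z.2⟩
      invFun := fun z => ⟨(x : G)⁻¹ * z * x, by
        have := hZ (x : G)⁻¹ (H.inv_mem x.2) z z.2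
        simpa using this⟩
      left_inv := fun z => Subtype.ext (by simp [mul_assoc])
      right_inv := fun z => Subtype.ext (by simp [mul_assoc])
      map_mul' := fun z w => Subtype.ext (by simp [mul_assoc]) }
  map_one' := by ext z; simp
  map_mul' x y := by ext z; simp [mul_assoc]

theorem conjHom_apply {G : Type*} [Group G] (H Z : Subgroup G)
    (hZ : ∀ x ∈ H, ∀ z ∈ Z, x * z * x⁻¹ ∈ Z) (x : H) (z : Z) :
    ((conjHom H Z hZ x z : Z) : G) = x * z * (x : G)⁻¹ := rfl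

namespace FrobPair

variable {G : Type*} [Group G] [Finite G] {N H : Subgroup G}

theorem kernel_ne_bot (h : FrobPair N H) : N ≠ ⊥ := by
  intro hN
  apply h.ne_top
  have h1 := h.card_mul_card
  rw [hN, Subgroup.card_bot, one_mul] at h1
  exact Subgroup.eq_top_of_card_eq H h1

/-- The complement normalises a nontrivial abelian subgroup of the kernel. -/
theorem exists_invariant_abelian (h : FrobPair N H) :
    ∃ Z : Subgroup G, Z ≠ ⊥ ∧ Z ≤ N ∧ (∀ a ∈ Z, ∀ b ∈ Z, a * b = b * a) ∧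
      ∀ x ∈ H, ∀ z ∈ Z, x * z * x⁻¹ ∈ Z := by
  classical
  have hN := h.normal
  have hNcard : Nat.card N ≠ 1 := by
    intro h1
    exact h.kernel_ne_bot (Subgroup.card_eq_one.mp h1)
  obtain ⟨r, hr, hrN⟩ := Nat.exists_prime_and_dvd hNcard
  have : Fact r.Prime := ⟨hr⟩
  let P : Sylow r N := default
  have hPne : (P : Subgroup N) ≠ ⊥ := P.ne_bot_of_dvd_card hrN
  set P₁ : Subgroup G := (P : Subgroup N).map N.subtype with hP₁
  have hP₁N : P₁ ≤ N := Subgroup.map_subtype_le _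
  have hP₁p : IsPGroup r P₁ := P.isPGroup'.map N.subtype
  have hP₁ne : P₁ ≠ ⊥ := by
    intro h1
    apply hPne
    rw [hP₁, Subgroup.map_eq_bot_iff_of_injective _ N.subtype_injective] at h1
    exact h1
  set M : Subgroup G := Subgroup.normalizer (P₁ : Set G) with hM
  have hMN : M ⊔ N = ⊤ := Sylow.normalizer_sup_eq_top P
  -- Schur–Zassenhaus inside `M`
  have hidx : (N.subgroupOf M).index = Nat.card H := by
    change N.relIndex M = _
    rw [← Subgroup.relIndex_sup_right, hMN, Subgroup.relIndex_top_right, h.index_eq]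
  have hcop : (Nat.card (N.subgroupOf M)).Coprime (N.subgroupOf M).index := by
    rw [hidx]
    refine Nat.Coprime.coprime_dvd_left ?_ h.coprime
    have h1 : Nat.card (N.subgroupOf M) = Nat.card (N ⊓ M : Subgroup G) := by
      rw [← Subgroup.subgroupOf_map_subtype]
      exact (Subgroup.card_map_of_injective M.subtype_injective).symm
    rw [h1]
    exact Subgroup.card_dvd_of_le inf_le_left
  obtain ⟨A', hA'⟩ := Subgroup.exists_right_complement'_of_coprime hcop
  set A₁ : Subgroup G := A'.map M.subtype with hA₁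
  have hA₁N : ∀ x ∈ A₁, x ∈ N → x = 1 := by
    rintro x ⟨y, hy, rfl⟩ hxN
    have h1 : y ∈ N.subgroupOf M := Subgroup.mem_subgroupOf.mpr hxN
    have h2 := hA'.disjoint
    rw [Subgroup.disjoint_def] at h2
    rw [h2 h1 hy]; rfl
  have hA₁card : Nat.card A₁ = Nat.card H := by
    rw [hA₁, Subgroup.card_map_of_injective M.subtype_injective, ← hA'.symm.index_eq_card, hidx]
  obtain ⟨a, ha⟩ := h.eq_conj A₁ hA₁N hA₁card
  have hA₁M : A₁ ≤ M := Subgroup.map_subtype_le _
  -- `H` normalises `P₂ = a⁻¹ P₁ a`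
  have hnorm : ∀ x ∈ H, ∀ y : G, a * y * a⁻¹ ∈ P₁ → a * (x * y * x⁻¹) * a⁻¹ ∈ P₁ := by
    intro x hx y hy
    have h1 : a * x * a⁻¹ ∈ M := by
      apply hA₁M
      rw [ha, Cfsg.Agent.Helper71.mem_conj_smul]
      have : a⁻¹ * (a * x * a⁻¹) * a = x := by group
      rw [this]; exact hx
    have h2 := (Subgroup.mem_normalizer_iff.mp h1 (a * y * a⁻¹)).mp hy
    have h3 : a * x * a⁻¹ * (a * y * a⁻¹) * (a * x * a⁻¹)⁻¹ = a * (x * y * x⁻¹) * a⁻¹ := by group
    rw [h3] at h2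
    exact h2
  -- the subgroup `Z = Z(P₂)`, described through `P₁`
  let P₂ : Subgroup G := MulAut.conj a⁻¹ • P₁
  have hP₂mem : ∀ y : G, y ∈ P₂ ↔ a * y * a⁻¹ ∈ P₁ := by
    intro y
    rw [Cfsg.Agent.Helper71.mem_conj_smul, inv_inv]
  have hP₂p : IsPGroup r P₂ := by
    have : P₂ = P₁.map (MulAut.conj a⁻¹).toMonoidHom := rfl
    rw [this]
    exact hP₁p.map _
  have hP₂ne : P₂ ≠ ⊥ := by
    intro h1
    apply hP₁ne
    rw [Subgroup.eq_bot_iff_forall] at h1 ⊢
    intro y hy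
    have h2 : a⁻¹ * y * a ∈ P₂ := by
      rw [hP₂mem]
      have : a * (a⁻¹ * y * a) * a⁻¹ = y := by group
      rw [this]; exact hy
    have h3 := h1 _ h2
    have : y = a * (a⁻¹ * y * a) * a⁻¹ := by group
    rw [this, h3]; group
  have hP₂N : P₂ ≤ N := by
    intro y hy
    have h1 := hP₁N ((hP₂mem y).mp hy)
    have h2 := hN.conj_mem _ h1 a⁻¹
    have h3 : a⁻¹ * (a * y * a⁻¹) * a⁻¹⁻¹ = y := by group
    rw [h3] at h2
    exact h2
  have hP₂H : ∀ x ∈ H, ∀ y ∈ P₂, x * y * x⁻¹ ∈ P₂ := by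
    intro x hx y hy
    rw [hP₂mem] at hy ⊢
    exact hnorm x hx y hy
  refine ⟨P₂ ⊓ Subgroup.centralizer (P₂ : Set G), ?_, inf_le_left.trans hP₂N, ?_, ?_⟩
  · have : Nontrivial P₂ := (Subgroup.nontrivial_iff_ne_bot P₂).mpr hP₂ne
    have hc := hP₂p.center_nontrivial
    obtain ⟨z, hz⟩ := exists_ne (1 : Subgroup.center P₂)
    intro hbot
    apply hz
    have h1 : ((z : P₂) : G) ∈ P₂ ⊓ Subgroup.centralizer (P₂ : Set G) := by
      refine Subgroup.mem_inf.mpr ⟨(z : P₂).2, ?_⟩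
      rw [Subgroup.mem_centralizer_iff]
      intro y hy
      have h2 := Subgroup.mem_center_iff.mp z.2 ⟨y, hy⟩
      exact congrArg Subtype.val h2
    rw [hbot, Subgroup.mem_bot] at h1
    exact Subtype.ext (Subtype.ext h1)
  · intro u hu v hv
    exact (Subgroup.mem_centralizer_iff.mp hu.2 v hv.1).symm
  · intro x hx z hz
    refine Subgroup.mem_inf.mpr ⟨hP₂H x hx z hz.1, ?_⟩
    rw [Subgroup.mem_centralizer_iff]
    intro y hy
    have h1 : x⁻¹ * y * x ∈ P₂ := by
      have := hP₂H x⁻¹ (H.inv_mem hx) y hy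
      simpa using this
    have h2 := Subgroup.mem_centralizer_iff.mp hz.2 _ h1
    calc y * (x * z * x⁻¹) = x * (x⁻¹ * y * x * z) * x⁻¹ := by group
      _ = x * (z * (x⁻¹ * y * x)) * x⁻¹ := by rw [h2]
      _ = x * z * x⁻¹ * y := by group

end FrobPair


namespace FrobPair

variable {G : Type*} [Group G] [Finite G] {N H N₀ H₀ : Subgroup G}

/-- Uniqueness of the Frobenius kernel: if one kernel contains another, they coincide. -/
theorem kernel_le (h : FrobPair N H) (h₀ : FrobPair N₀ H₀) (hle : N₀ ≤ N) : N ≤ N₀ := by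
  classical
  by_contra hnot
  have hN := h.normal
  have hN₀ := h₀.normal
  -- `N ⊓ H₀` is nontrivial
  obtain ⟨k₀, hk₀H, hk₀N, hk₀1⟩ : ∃ k ∈ H₀, k ∈ N ∧ k ≠ 1 := by
    obtain ⟨n, hnN, hnN₀⟩ := SetLike.not_le_iff_exists.mp hnot
    obtain ⟨n₀, hn₀, x, hx, rfl⟩ := h₀.exists_mul n
    refine ⟨x, hx, ?_, ?_⟩
    · have : x = n₀⁻¹ * (n₀ * x) := by group
      rw [this]; exact N.mul_mem (N.inv_mem (hle hn₀)) hnN
    · rintro rfl
      exact hnN₀ (by simpa using hn₀)
  -- Schur–Zassenhaus inside `H₀`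
  have hcop : (Nat.card (N.subgroupOf H₀)).Coprime (N.subgroupOf H₀).index := by
    have h1 : Nat.card (N.subgroupOf H₀) ∣ Nat.card N := by
      have h1 : Nat.card (N.subgroupOf H₀) = Nat.card (N ⊓ H₀ : Subgroup G) := by
        rw [← Subgroup.subgroupOf_map_subtype]
        exact (Subgroup.card_map_of_injective H₀.subtype_injective).symm
      rw [h1]
      exact Subgroup.card_dvd_of_le inf_le_left
    have h2 : (N.subgroupOf H₀).index ∣ Nat.card H := by
      rw [← h.index_eq]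
      exact Subgroup.relIndex_dvd_index_of_normal N H₀
    exact Nat.Coprime.coprime_dvd_left h1 (Nat.Coprime.coprime_dvd_right h2 h.coprime)
  obtain ⟨L, hL⟩ := Subgroup.exists_right_complement'_of_coprime hcop
  have hKn : (N.subgroupOf H₀).Normal := Subgroup.normal_subgroupOf
  have hdisj : ∀ x : H₀, x ∈ N.subgroupOf H₀ → x ∈ L → x = 1 := by
    intro x hx1 hx2
    have h2 := hL.disjoint
    rw [Subgroup.disjoint_def] at h2
    exact h2 hx1 hx2
  have hmul : ∀ x : H₀, ∃ k ∈ N.subgroupOf H₀, ∃ l ∈ L, x = k * l := by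
    intro x
    obtain ⟨⟨k, l⟩, hkl⟩ := hL.2 x
    exact ⟨k, k.2, l, l.2, hkl.symm⟩
  -- `L` is nontrivial
  obtain ⟨l₀, hl₀L, hl₀1⟩ : ∃ l ∈ L, l ≠ 1 := by
    by_contra hcon
    push Not at hcon
    have hH₀N : H₀ ≤ N := by
      intro x hx
      obtain ⟨k, hk, l, hl, hkl⟩ := hmul ⟨x, hx⟩
      rw [hcon l hl, mul_one] at hkl
      rw [← hkl] at hk
      exact Subgroup.mem_subgroupOf.mp hk
    apply h.ne_bot
    rw [Subgroup.eq_bot_iff_forall]
    intro y hy
    obtain ⟨n₀, hn₀, x, hx, rfl⟩ := h₀.exists_mul y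
    exact h.disjoint (N.mul_mem (hle hn₀) (hH₀N hx)) hy
  -- fixed-point-freeness
  have hLN : ∀ l ∈ L, l ≠ 1 → (l : G) ∉ N := by
    intro l hl hl1 hlN
    exact hl1 (hdisj l (Subgroup.mem_subgroupOf.mpr hlN) hl)
  have hfpf : ∀ l ∈ L, l ≠ 1 → ∀ k ∈ N.subgroupOf H₀, l * k = k * l → k = 1 := by
    intro l hl hl1 k hk hlk
    apply Subtype.ext
    exact h.eq_one_of_commute (hLN l hl hl1) (Subgroup.mem_subgroupOf.mp hk)
      (congrArg Subtype.val hlk)
  have hF : ∀ x : H₀, x ∉ L → ∀ l : H₀, l ∈ L → x⁻¹ * l * x ∈ L → l = 1 := by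
    intro x hx l hl hxl
    by_contra hl1
    obtain ⟨k, hk, l₂, hl₂, rfl⟩ := hmul x
    have h1 : k⁻¹ * l * k ∈ L := by
      have : k⁻¹ * l * k = l₂ * ((k * l₂)⁻¹ * l * (k * l₂)) * l₂⁻¹ := by group
      rw [this]
      exact L.mul_mem (L.mul_mem hl₂ hxl) (L.inv_mem hl₂)
    have h2 : l⁻¹ * (k⁻¹ * l * k) ∈ N.subgroupOf H₀ := by
      have h3 : l⁻¹ * k⁻¹ * l⁻¹⁻¹ ∈ N.subgroupOf H₀ :=
        hKn.conj_mem _ ((N.subgroupOf H₀).inv_mem hk) l⁻¹
      have : l⁻¹ * (k⁻¹ * l * k) = l⁻¹ * k⁻¹ * l⁻¹⁻¹ * k := by group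
      rw [this]
      exact (N.subgroupOf H₀).mul_mem h3 hk
    have h3 := hdisj _ h2 (L.mul_mem (L.inv_mem hl) h1)
    have h4 : l * k = k * l := by
      have : l * k = k * l * (l⁻¹ * (k⁻¹ * l * k)) := by group
      rw [this, h3, mul_one]
    have h5 := hfpf l hl hl1 k hk h4
    apply hx
    rw [h5, one_mul]
    exact hl₂
  have hcover : ∀ g : H₀, g ∉ N.subgroupOf H₀ →
      ∃ x ∈ N.subgroupOf H₀, ∃ l ∈ L, g = x * l * x⁻¹ := by
    intro g hg
    obtain ⟨k, hk, l, hl, rfl⟩ := hmul g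
    have hl1 : l ≠ 1 := by
      rintro rfl
      exact hg (by simpa using hk)
    obtain ⟨k₁, hk₁, hk₁e⟩ :=
      Cfsg.Agent.Helper3.frob_conj_coset (N.subgroupOf H₀) L hfpf l hl hl1 k hk
    exact ⟨k₁, hk₁, l, hl, hk₁e⟩
  -- the abelian group acted on
  obtain ⟨Z, hZne, hZN, hZab, hZH⟩ := h₀.exists_invariant_abelian
  have hH₀N₀ : ∀ x ∈ H₀, x ≠ 1 → x ∉ N₀ := fun x hx hx1 hxN => hx1 (h₀.disjoint hxN hx)
  have hfix : ∀ x : H₀, x ≠ 1 → ∀ b : Z, conjHom H₀ Z hZH x b = b → b = 1 := by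
    intro x hx b hb
    have h1 : (x : G) * b * (x : G)⁻¹ = b := congrArg Subtype.val hb
    have h2 : (x : G) * b = b * x := by
      calc (x : G) * b = (x : G) * b * (x : G)⁻¹ * x := by group
        _ = b * x := by rw [h1]
    apply Subtype.ext
    exact h₀.eq_one_of_commute (hH₀N₀ x x.2 (fun hx1 => hx (Subtype.ext hx1))) (hZN b.2) h2
  have hcopZ : (Nat.card Z).Coprime (Nat.card (N.subgroupOf H₀)) :=
    Nat.Coprime.coprime_dvd_left (Subgroup.card_dvd_of_le hZN)
      (Nat.Coprime.coprime_dvd_right (Subgroup.card_subgroup_dvd_card _) h₀.coprime)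
  have htriv : ∀ a : Z, a = 1 :=
    Cfsg.Agent.Helper11.frobenius_action_trivial
      (fun a b => Subtype.ext (hZab a a.2 b b.2)) (conjHom H₀ Z hZH) (N.subgroupOf H₀) L
      hdisj hF hcover hcopZ
      (fun b hb => hfix ⟨k₀, hk₀H⟩ (fun hk => hk₀1 (congrArg Subtype.val hk)) b
        (hb _ (Subgroup.mem_subgroupOf.mpr hk₀N)))
      (fun b hb => hfix l₀ hl₀1 b (hb l₀ hl₀L))
  apply hZne
  rw [Subgroup.eq_bot_iff_forall]
  intro z hz
  exact congrArg Subtype.val (htriv ⟨z, hz⟩)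

/-- Uniqueness of the Frobenius kernel. -/
theorem kernel_unique (h : FrobPair N H) (h₀ : FrobPair N₀ H₀) (hor : N ≤ N₀ ∨ N₀ ≤ N) :
    N = N₀ := by
  rcases hor with h1 | h1
  · exact le_antisymm h1 (h₀.kernel_le h h1)
  · exact le_antisymm (h.kernel_le h₀ h1) h1

end FrobPair


end Cfsg.Agent.Helper29
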