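import Mathlib
import Cfsg.Agent.Helper32.JorDefs

/-!
# CALL S3620, piece Fc1 (seat helper29): the number of `t`-sets meeting `S` in exactly `i` points.
-/

set_option autoImplicit false

namespace Cfsg.Agent.Helper29.JorFc1

open Equiv Cfsg.Agent.Helper32.Jor

variable {Ω : Type*} [Fintype Ω] [DecidableEq Ω]

theorem card_filter_inter (S : Finset Ω) (t i : ℕ) (hi : i ≤ t) :
    ((Finset.powersetCard t (Finset.univ : Finset Ω)).filter (fun X => (X ∩ S).card = i)).card =
      (S.card).choose i * (Sᶜ.card).choose (t - i) := by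
  rw [← Finset.card_powersetCard i S, ← Finset.card_powersetCard (t - i) Sᶜ,
    ← Finset.card_product]
  have hsplit : ∀ X : Finset Ω, X ∩ S ∪ X ∩ Sᶜ = X := by
    intro X
    rw [← Finset.inter_union_distrib_left, Finset.union_compl, Finset.inter_univ]
  have hdis : ∀ A B : Finset Ω, A ⊆ S → B ⊆ Sᶜ → Disjoint A B := by
    intro A B hA hB
    exact Finset.disjoint_of_subset_left hA
      (Finset.disjoint_of_subset_right hB disjoint_compl_right)
  have hinterS : ∀ A B : Finset Ω, A ⊆ S → B ⊆ Sᶜ → (A ∪ B) ∩ S = A := by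
    intro A B hA hB
    ext x
    simp only [Finset.mem_inter, Finset.mem_union]
    constructor
    · rintro ⟨h | h, hx⟩
      · exact h
      · exact absurd hx (Finset.mem_compl.1 (hB h))
    · exact fun h => ⟨Or.inl h, hA h⟩
  have hinterSc : ∀ A B : Finset Ω, A ⊆ S → B ⊆ Sᶜ → (A ∪ B) ∩ Sᶜ = B := by
    intro A B hA hB
    ext x
    simp only [Finset.mem_inter, Finset.mem_union]
    constructor
    · rintro ⟨h | h, hx⟩
      · exact absurd (hA h) (Finset.mem_compl.1 hx)
      · exact h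
    · exact fun h => ⟨Or.inr h, hB h⟩
  apply Finset.card_nbij' (fun X => (X ∩ S, X ∩ Sᶜ)) (fun p => p.1 ∪ p.2)
  · intro X hX
    rw [Finset.mem_coe, Finset.mem_filter, Finset.mem_powersetCard] at hX
    rw [Finset.mem_coe, Finset.mem_product, Finset.mem_powersetCard, Finset.mem_powersetCard]
    refine ⟨⟨Finset.inter_subset_right, hX.2⟩, ⟨Finset.inter_subset_right, ?_⟩⟩
    have h1 : (X ∩ S).card + (X ∩ Sᶜ).card = X.card := by
      rw [← Finset.card_union_of_disjoint
        (hdis _ _ Finset.inter_subset_right Finset.inter_subset_right), hsplit]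
    have h2 := hX.1.2
    have h3 := hX.2
    show (X ∩ Sᶜ).card = t - i
    omega
  · intro p hp
    rw [Finset.mem_coe, Finset.mem_product, Finset.mem_powersetCard,
      Finset.mem_powersetCard] at hp
    rw [Finset.mem_coe, Finset.mem_filter, Finset.mem_powersetCard]
    obtain ⟨⟨hA, hAc⟩, ⟨hB, hBc⟩⟩ := hp
    refine ⟨⟨Finset.subset_univ _, ?_⟩, ?_⟩
    · show (p.1 ∪ p.2).card = t
      rw [Finset.card_union_of_disjoint (hdis _ _ hA hB), hAc, hBc]; omega
    · show ((p.1 ∪ p.2) ∩ S).card = i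
      rw [hinterS _ _ hA hB, hAc]
  · intro X _
    exact hsplit X
  · intro p hp
    rw [Finset.mem_coe, Finset.mem_product, Finset.mem_powersetCard,
      Finset.mem_powersetCard] at hp
    obtain ⟨⟨hA, _⟩, ⟨hB, _⟩⟩ := hp
    show ((p.1 ∪ p.2) ∩ S, (p.1 ∪ p.2) ∩ Sᶜ) = p
    rw [hinterS _ _ hA hB, hinterSc _ _ hA hB]

end Cfsg.Agent.Helper29.JorFc1
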