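import Mathlib
import Cfsg.Agent.Helper73.Taussky
import Cfsg.Agent.Helper76.PGroup

/-!
# 2-groups of maximal class (helper29)

`maxclass_commutator`: a group of order `2 ^ n` (`n ≥ 3`) and class `n - 1` has `|X : X'| = 4` and
all squares in `X'`.  Together with helper73's Taussky library this gives the structure of
2-groups of maximal class.
-/

set_option autoImplicit false

namespace Cfsg.Agent.Helper29

open scoped commutatorElement

/-- If `P / P'` is cyclic then the second and third terms of the lower central series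
coincide. -/
theorem lcs_two_eq_of_isCyclic {P : Type*} [Group P] (hcyc : IsCyclic (P ⧸ commutator P)) :
    (⊤ : Subgroup P).lowerCentralSeries 2 = (⊤ : Subgroup P).lowerCentralSeries 1 := by
  apply le_antisymm (Subgroup.lowerCentralSeries_antitone _ (by norm_num))
  rw [Subgroup.top_lowerCentralSeries_one]
  set L := (⊤ : Subgroup P).lowerCentralSeries 2 with hL
  have hLn : L.Normal := inferInstance
  have hLle : L ≤ commutator P := by
    rw [← Subgroup.top_lowerCentralSeries_one]
    exact Subgroup.lowerCentralSeries_antitone _ (by norm_num)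
  apply Cfsg.Agent.Helper76.commutator_le_of_quotient_comm L
  set f : P ⧸ L →* P ⧸ commutator P :=
    QuotientGroup.map L (commutator P) (MonoidHom.id P) (by simpa using hLle) with hf
  refine (f.isMulCommutative_of_isCyclic_of_ker_le_center ?_).is_comm.comm
  intro x hx
  obtain ⟨x, rfl⟩ := QuotientGroup.mk_surjective x
  rw [MonoidHom.mem_ker, hf, QuotientGroup.map_mk, MonoidHom.id_apply,
    QuotientGroup.eq_one_iff] at hx
  rw [Subgroup.mem_center_iff]
  intro g
  obtain ⟨g, rfl⟩ := QuotientGroup.mk_surjective g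
  have h1 : ⁅x, g⁆ ∈ L := by
    rw [hL, Subgroup.lowerCentralSeries_succ, Subgroup.top_lowerCentralSeries_one]
    exact Subgroup.commutator_mem_commutator hx (Subgroup.mem_top g)
  have h2 : ((⁅x, g⁆ : P) : P ⧸ L) = 1 := (QuotientGroup.eq_one_iff _).mpr h1
  rw [commutatorElement_def, QuotientGroup.mk_mul, QuotientGroup.mk_mul, QuotientGroup.mk_mul,
    QuotientGroup.mk_inv, QuotientGroup.mk_inv] at h2
  have h3 : ((x : P) : P ⧸ L) * (g : P ⧸ L) = (g : P ⧸ L) * (x : P ⧸ L) := by
    calc ((x : P) : P ⧸ L) * (g : P ⧸ L)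
        = ((x : P ⧸ L) * (g : P ⧸ L) * (x : P ⧸ L)⁻¹ * (g : P ⧸ L)⁻¹) *
            ((g : P ⧸ L) * (x : P ⧸ L)) := by group
      _ = (g : P ⧸ L) * (x : P ⧸ L) := by rw [h2, one_mul]
  exact h3.symm

/-- In a nilpotent group the lower central series is strictly decreasing until it reaches `⊥`
(copy of helper76's lemma in S4585). -/
theorem lcs_strict' {P : Type*} [Group P] [hnil : Group.IsNilpotent P] (n : ℕ)
    (h : (⊤ : Subgroup P).lowerCentralSeries (n + 1) = (⊤ : Subgroup P).lowerCentralSeries n) :
    (⊤ : Subgroup P).lowerCentralSeries n = ⊥ := by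
  have hk : ∀ k : ℕ, (⊤ : Subgroup P).lowerCentralSeries (n + k) =
      (⊤ : Subgroup P).lowerCentralSeries n := by
    intro k
    induction k with
    | zero => rfl
    | succ k ih =>
      rw [← add_assoc, Subgroup.lowerCentralSeries_succ, ih, ← Subgroup.lowerCentralSeries_succ, h]
  rw [eq_bot_iff, ← hk (Group.nilpotencyClass P),
    ← Subgroup.lowerCentralSeries_nilpotencyClass (G := P)]
  exact Subgroup.lowerCentralSeries_antitone _ (Nat.le_add_left _ _)

theorem two_mul_card_le_of_lt {P : Type*} [Group P] [Finite P] {K L : Subgroup P} (h : K < L) :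
    2 * Nat.card K ≤ Nat.card L := by
  obtain ⟨d, hd⟩ := Subgroup.card_dvd_of_le h.le
  have h1 := Cfsg.Agent.Helper76.card_lt_of_lt h
  have h2 : 0 < Nat.card K := Nat.card_pos
  rcases d with _ | _ | d
  · rw [hd] at h1; omega
  · rw [hd] at h1; omega
  · rw [hd]; nlinarith

/-- A group of order `2 ^ n`, `n ≥ 3`, of nilpotency class `n - 1` has commutator quotient a
four-group. -/
theorem maxclass_commutator {X : Type*} [Group X] [Finite X] (n : ℕ) (hn : 3 ≤ n)
    (hX : Nat.card X = 2 ^ n) (hc : Group.nilpotencyClass X = n - 1) :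
    (commutator X).index = 4 ∧ ∀ g : X, g ^ 2 ∈ commutator X := by
  have : Fact (Nat.Prime 2) := ⟨Nat.prime_two⟩
  have hPG : IsPGroup 2 X := IsPGroup.of_card hX
  have hnil : Group.IsNilpotent X := hPG.isNilpotent
  have hne : ∀ i, i ≤ n - 2 → (⊤ : Subgroup X).lowerCentralSeries i ≠ ⊥ := by
    intro i hi h
    have := Subgroup.lowerCentralSeries_eq_bot_iff_nilpotencyClass_le.mp h
    omega
  have hstrict : ∀ i, i ≤ n - 2 →
      (⊤ : Subgroup X).lowerCentralSeries (i + 1) < (⊤ : Subgroup X).lowerCentralSeries i := by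
    intro i hi
    apply lt_of_le_of_ne (Subgroup.lowerCentralSeries_antitone _ (Nat.le_succ i))
    intro h
    exact hne i hi (lcs_strict' i h)
  have hcard : ∀ j, j ≤ n - 1 →
      2 ^ j ≤ Nat.card ((⊤ : Subgroup X).lowerCentralSeries (n - 1 - j)) := by
    intro j
    induction j with
    | zero =>
      intro _
      have h0 : 0 < Nat.card ((⊤ : Subgroup X).lowerCentralSeries (n - 1 - 0)) := Nat.card_pos
      rw [pow_zero]; omega
    | succ j ih =>
      intro hj
      have h1 := ih (by omega)
      have h2 := hstrict (n - 1 - (j + 1)) (by omega)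
      rw [show n - 1 - (j + 1) + 1 = n - 1 - j by omega] at h2
      have h3 := two_mul_card_le_of_lt h2
      rw [pow_succ]; omega
  have h1 : 2 ^ (n - 2) ≤ Nat.card (commutator X) := by
    have := hcard (n - 2) (by omega)
    rw [show n - 1 - (n - 2) = 1 by omega, Subgroup.top_lowerCentralSeries_one] at this
    exact this
  have hidx := (commutator X).card_mul_index
  rw [hX] at hidx
  have hle : (commutator X).index ≤ 4 := by
    by_contra hgt
    push Not at hgt
    have h2 : 2 ^ (n - 2) * 5 ≤ Nat.card (commutator X) * (commutator X).index :=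
      Nat.mul_le_mul h1 hgt
    have e : 2 ^ n = 2 ^ (n - 2) * 4 := by
      obtain ⟨m, rfl⟩ : ∃ m, n = m + 2 := ⟨n - 2, by omega⟩
      simp [pow_succ, mul_assoc]
    have h3 : 0 < 2 ^ (n - 2) := by positivity
    rw [hidx, e] at h2
    nlinarith
  have hnotcyc : ¬ IsCyclic (X ⧸ commutator X) := by
    intro hcyc
    have h2 := hstrict 1 (by omega)
    rw [lcs_two_eq_of_isCyclic hcyc] at h2
    exact lt_irrefl _ h2
  have hcardq : Nat.card (X ⧸ commutator X) = (commutator X).index := rfl
  have hidx4 : (commutator X).index = 4 := by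
    obtain ⟨k, hk, hk2⟩ := (Nat.dvd_prime_pow Nat.prime_two).mp (Dvd.intro_left _ hidx)
    rw [hk2] at hle
    have hk3 : k ≤ 2 := by
      by_contra h
      have : 2 ^ 3 ≤ 2 ^ k := Nat.pow_le_pow_right (by norm_num) (by omega)
      omega
    interval_cases k
    · exfalso
      apply hnotcyc
      have : Subsingleton (X ⧸ commutator X) :=
        (Nat.card_eq_one_iff_unique.mp (by rw [hcardq, hk2]; rfl)).1
      exact isCyclic_of_subsingleton
    · exfalso
      apply hnotcyc
      exact isCyclic_of_prime_card (p := 2) (by rw [hcardq, hk2]; rfl)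
    · rw [hk2]; rfl
  refine ⟨hidx4, ?_⟩
  by_contra hcon
  push Not at hcon
  obtain ⟨g, hg⟩ := hcon
  apply hnotcyc
  have h2 : orderOf (g : X ⧸ commutator X) ∣ 4 := by
    rw [← hidx4, ← hcardq]; exact orderOf_dvd_natCard _
  have h3 : (g : X ⧸ commutator X) ^ 2 ≠ 1 := by
    rw [← QuotientGroup.mk_pow]
    intro h
    exact hg ((QuotientGroup.eq_one_iff _).mp h)
  have h4 : orderOf (g : X ⧸ commutator X) = 4 := by
    have h5 : orderOf (g : X ⧸ commutator X) ∈ Nat.divisors 4 := by
      rw [Nat.mem_divisors]; exact ⟨h2, by norm_num⟩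
    have h6 : Nat.divisors 4 = {1, 2, 4} := by decide
    rw [h6] at h5
    simp only [Finset.mem_insert, Finset.mem_singleton] at h5
    rcases h5 with h5 | h5 | h5
    · exfalso; apply h3; rw [orderOf_eq_one_iff.mp h5, one_pow]
    · exfalso; apply h3; rw [← h5, pow_orderOf_eq_one]
    · exact h5
  exact isCyclic_of_orderOf_eq_card (g : X ⧸ commutator X) (by rw [h4, hcardq, hidx4])

end Cfsg.Agent.Helper29
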