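import Cfsg.Agent.Helper29.MaxClass2
import Cfsg.Agent.Helper29.CyclicMax
import Cfsg.Agent.S0063

/-!
# 2-groups of maximal class, part 2 (helper29)

Uniform generators from helper73's Taussky theorem (`taussky_gens`), the lower central series
(`pow_mem_lcs`) and the nilpotency class (`nilpotencyClass_of_taussky`).
-/

set_option autoImplicit false

namespace Cfsg.Agent.Helper29

open scoped commutatorElement

/-- In a finite group, an element whose order is prime to `r` is a power of its `r`-th power. -/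
theorem mem_zpowers_pow_of_coprime {X : Type*} [Group X] [Finite X] (y : X) (r : ℕ)
    (h : (orderOf y).Coprime r) : y ∈ Subgroup.zpowers (y ^ r) := by
  have h1 : orderOf (y ^ r) = orderOf y := Nat.Coprime.orderOf_pow h
  have h2 : Subgroup.zpowers (y ^ r) = Subgroup.zpowers y := by
    apply Subgroup.eq_of_le_of_card_ge
    · exact Subgroup.zpowers_le.mpr (Subgroup.pow_mem _ (Subgroup.mem_zpowers y) _)
    · rw [Nat.card_zpowers, Nat.card_zpowers, h1]
  rw [h2]; exact Subgroup.mem_zpowers y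

/-- Generators of a 2-group with four-group commutator quotient (Taussky), in uniform shape. -/
theorem taussky_gens {X : Type*} [Group X] [Finite X] (m : ℕ) (hX : Nat.card X = 2 ^ (m + 3))
    (hidx : (commutator X).index = 4) (hsq : ∀ g : X, g ^ 2 ∈ commutator X) :
    ∃ (a x : X) (r : ℕ), orderOf a = 2 ^ (m + 2) ∧ x ∉ Subgroup.zpowers a ∧ Odd r ∧
      x * a * x⁻¹ = a ^ (2 * r + 1) ∧ 2 ^ m ∣ r + 1 ∧
      (x * x = 1 ∨ x * x = a ^ (2 ^ (m + 1))) := by
  obtain ⟨a, ha⟩ := Cfsg.Agent.Helper73.exists_cyclic_index_two m X hX hidx hsq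
  have h2m : 2 ≤ 2 ^ (m + 1) := by
    calc 2 = 2 ^ 1 := (pow_one 2).symm
      _ ≤ 2 ^ (m + 1) := Nat.pow_le_pow_right (by norm_num) (by omega)
  rcases Cfsg.Agent.Helper73.taussky_structure m hX hidx a ha with ⟨x, hx, hxa, hxx⟩ | ⟨hm, b, hb, hba⟩
  · refine ⟨a, x, 2 ^ (m + 1) - 1, ha, hx, ?_, ?_, ?_, hxx⟩
    · exact Nat.Even.sub_odd (by omega) (Nat.even_pow.mpr ⟨even_two, by omega⟩) odd_one
    · rw [hxa]
      symm
      apply eq_inv_of_mul_eq_one_left
      rw [← pow_succ]
      have : 2 * (2 ^ (m + 1) - 1) + 1 + 1 = 2 ^ (m + 2) := by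
        rw [pow_succ 2 (m + 1)]; omega
      rw [this, ← ha, pow_orderOf_eq_one]
    · rw [Nat.sub_add_cancel (by omega)]
      exact pow_dvd_pow 2 (by omega)
  · have h2m' : 2 ≤ 2 ^ m := by
      calc 2 = 2 ^ 1 := (pow_one 2).symm
        _ ≤ 2 ^ m := Nat.pow_le_pow_right (by norm_num) hm
    refine ⟨a, b, 2 ^ m - 1, ha, ?_, ?_, ?_, ?_, Or.inl ?_⟩
    · intro hmem
      obtain ⟨k, hk⟩ := Subgroup.mem_zpowers_iff.mp hmem
      have hcomm : b * a * b⁻¹ = a := by
        rw [← hk]
        have : Commute (a ^ k) a := (Commute.refl a).zpow_left k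
        rw [this.eq]; group
      rw [hba] at hcomm
      have h3 : a ^ (2 ^ (m + 1) - 1) = a ^ 1 := by rw [hcomm, pow_one]
      rw [pow_eq_pow_iff_modEq, ha] at h3
      have h4 : 2 ^ (m + 2) ∣ 2 ^ (m + 1) - 1 - 1 :=
        (Nat.modEq_iff_dvd' (by omega)).mp h3.symm
      have h5 := Nat.le_of_dvd (by
        have : 4 ≤ 2 ^ (m + 1) := by
          calc 4 = 2 ^ 2 := by norm_num
            _ ≤ 2 ^ (m + 1) := Nat.pow_le_pow_right (by norm_num) (by omega)
        omega) h4
      have h6 : 2 ^ (m + 2) = 2 * 2 ^ (m + 1) := by ring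
      omega
    · exact Nat.Even.sub_odd (by omega) (Nat.even_pow.mpr ⟨even_two, by omega⟩) odd_one
    · rw [hba]
      congr 1
      rw [pow_succ]; omega
    · rw [Nat.sub_add_cancel (by omega)]
    · rw [← pow_two, ← hb, pow_orderOf_eq_one]

/-- The powers `a ^ (2 ^ i)` lie in the `i`-th term of the lower central series. -/
theorem pow_mem_lcs {X : Type*} [Group X] [Finite X] {N : ℕ} (hX : Nat.card X = 2 ^ N)
    (a x : X) (r : ℕ) (hr : Odd r) (hxa : x * a * x⁻¹ = a ^ (2 * r + 1)) (i : ℕ) :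
    a ^ (2 ^ (i + 1)) ∈ (⊤ : Subgroup X).lowerCentralSeries (i + 1) := by
  have hcop : ∀ y : X, (orderOf y).Coprime r := by
    intro y
    have h1 : orderOf y ∣ 2 ^ N := hX ▸ orderOf_dvd_natCard y
    obtain ⟨j, -, hj⟩ := (Nat.dvd_prime_pow Nat.prime_two).mp h1
    rw [hj]
    exact Nat.Coprime.pow_left _ (Nat.coprime_two_left.mpr hr)
  have key : ∀ (k : X) (j : ℕ), k = a ^ j → ∀ (S : Subgroup X), ⁅k, x⁆ ∈ S → k ^ 2 ∈ S := by
    intro k j hk S hS
    have h1 : x * k * x⁻¹ = k ^ (2 * r + 1) := by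
      rw [hk, conj_pow_of_conj hxa, ← pow_mul, mul_comm]
    have h2 : ⁅k, x⁆ = ((k ^ 2) ^ r)⁻¹ := by
      rw [commutatorElement_def]
      have h3 : k * x * k⁻¹ * x⁻¹ = k * (x * k * x⁻¹)⁻¹ := by group
      rw [h3, h1, ← pow_mul, pow_succ]
      group
    rw [h2] at hS
    have h4 : (k ^ 2) ^ r ∈ S := by
      have := S.inv_mem hS
      rwa [inv_inv] at this
    exact (Subgroup.zpowers_le.mpr h4) (mem_zpowers_pow_of_coprime (k ^ 2) r (hcop _))
  induction i with
  | zero =>
    rw [zero_add, pow_one, Subgroup.top_lowerCentralSeries_one]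
    apply key a 1 (pow_one a).symm
    rw [commutator_def]
    exact Subgroup.commutator_mem_commutator (Subgroup.mem_top a) (Subgroup.mem_top x)
  | succ i ih =>
    have h1 : a ^ (2 ^ (i + 1 + 1)) = (a ^ (2 ^ (i + 1))) ^ 2 := by
      rw [← pow_mul, ← pow_succ]
    rw [h1]
    apply key (a ^ (2 ^ (i + 1))) _ rfl
    rw [Subgroup.lowerCentralSeries_succ]
    exact Subgroup.commutator_mem_commutator ih (Subgroup.mem_top x)

/-- A 2-group of order `2 ^ (m + 3)` with four-group commutator quotient has class `m + 2`. -/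
theorem nilpotencyClass_of_taussky {X : Type*} [Group X] [Finite X] (m : ℕ)
    (hX : Nat.card X = 2 ^ (m + 3)) (hidx : (commutator X).index = 4)
    (hsq : ∀ g : X, g ^ 2 ∈ commutator X) : Group.nilpotencyClass X = m + 2 := by
  have : Fact (Nat.Prime 2) := ⟨Nat.prime_two⟩
  have hPG : IsPGroup 2 X := IsPGroup.of_card hX
  have hnil : Group.IsNilpotent X := hPG.isNilpotent
  obtain ⟨a, x, r, ha, -, hr, hxa, -, -⟩ := taussky_gens m hX hidx hsq
  have h1 := pow_mem_lcs hX a x r hr hxa m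
  have h2 : a ^ (2 ^ (m + 1)) ≠ 1 := by
    intro h
    have h3 := orderOf_dvd_of_pow_eq_one h
    rw [ha] at h3
    have h4 := Nat.le_of_dvd (by positivity) h3
    have h5 : 2 ^ (m + 1) < 2 ^ (m + 2) := Nat.pow_lt_pow_right (by norm_num) (by omega)
    omega
  have h3 : ¬ Group.nilpotencyClass X ≤ m + 1 := by
    intro h
    have h4 := Subgroup.lowerCentralSeries_eq_bot_iff_nilpotencyClass_le.mpr h
    rw [h4, Subgroup.mem_bot] at h1
    exact h2 h1
  have h4 := Cfsg.Agent.S0063.result (G := X) 2 (m + 3) hX (by omega)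
  omega

end Cfsg.Agent.Helper29
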