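import Cfsg.Prelude.Def_Transfer
import Cfsg.Prelude.Def_Solvable
import Cfsg.Agent.Helper63.N15Defs

set_option autoImplicit false
set_option linter.unusedSectionVars false
set_option linter.unusedVariables false

namespace Cfsg.Agent.Helper29.N15

open Cfsg.Agent.Helper63.N15

variable {G : Type*} [Group G] [Finite G] {V : Type*} [AddCommGroup V] [Module (ZMod 3) V]
  [Finite V] {ρ : Representation (ZMod 3) G V} {R : Subgroup G} {b q₁ q₂ q₃ : G} {v₁ v₂ v₃ : V}

/-- Component projections of a direct decomposition given elementwise. -/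
theorem m1b_comp {m : ℕ} (W : Fin m → Submodule (ZMod 3) V)
    (hspan : ∀ v : V, ∃ f : Fin m → V, (∀ i, f i ∈ W i) ∧ v = ∑ i, f i)
    (hind : ∀ f : Fin m → V, (∀ i, f i ∈ W i) → ∑ i, f i = 0 → ∀ i, f i = 0) :
    ∃ comp : Fin m → V → V, (∀ i v, comp i v ∈ W i) ∧
      (∀ i j v, v ∈ W j → i ≠ j → comp i v = 0) ∧
      (∀ i v, v ∈ W i → comp i v = v) ∧
      (∀ i v u, comp i (v + u) = comp i v + comp i u) ∧
      (∀ i (k : ZMod 3) v, comp i (k • v) = k • comp i v) := by
  classical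
  choose F hF1 hF2 using hspan
  have huniq : ∀ (v : V) (g : Fin m → V), (∀ i, g i ∈ W i) → v = ∑ i, g i →
      ∀ i, F v i = g i := by
    intro v g hg hv i
    have h1 : ∑ i, (F v i - g i) = 0 := by
      rw [Finset.sum_sub_distrib, ← hF2 v, ← hv, sub_self]
    have h2 := hind (fun i => F v i - g i) (fun i => (W i).sub_mem (hF1 v i) (hg i)) h1 i
    exact sub_eq_zero.1 h2
  have hsingle : ∀ (j : Fin m) (v : V), v ∈ W j →
      ∀ l, (Pi.single j v : Fin m → V) l ∈ W l := by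
    intro j v hv l
    by_cases h : l = j
    · subst h
      rw [Pi.single_eq_same]
      exact hv
    · rw [Pi.single_eq_of_ne h]
      exact (W l).zero_mem
  have hsum_single : ∀ (j : Fin m) (v : V), v = ∑ l, (Pi.single j v : Fin m → V) l := by
    intro j v
    simp [Finset.sum_pi_single']
  refine ⟨fun i v => F v i, fun i v => hF1 v i, ?_, ?_, ?_, ?_⟩
  · intro i j v hv hij
    have h := huniq v (Pi.single j v) (hsingle j v hv) (hsum_single j v) i
    show F v i = 0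
    rw [h, Pi.single_eq_of_ne hij]
  · intro i v hv
    have h := huniq v (Pi.single i v) (hsingle i v hv) (hsum_single i v) i
    show F v i = v
    rw [h, Pi.single_eq_same]
  · intro i v u
    exact huniq (v + u) (fun l => F v l + F u l)
      (fun l => (W l).add_mem (hF1 v l) (hF1 u l))
      (by rw [Finset.sum_add_distrib, ← hF2 v, ← hF2 u]) i
  · intro i k v
    exact huniq (k • v) (fun l => k • F v l) (fun l => (W l).smul_mem k (hF1 v l))
      (by rw [← Finset.smul_sum, ← hF2 v]) i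

/-- M1b. The weight spaces are lines forming a frame on which `G` is monomial and `b` a
`3`-cycle. -/
theorem m1b (c : Cfg ρ R b q₁ q₂ q₃ v₁ v₂ v₃)
    (hn : ∀ v : V, ∃ k : ZMod 3, v + ρ b v + ρ b (ρ b v) = k • (v₁ + v₂ + v₃))
    (A : Subgroup G) (hAn : A.Normal) (hAb : ¬ ∀ x ∈ A, x * b = b * x)
    (m : ℕ) (W : Fin m → Submodule (ZMod 3) V) (χ : Fin m → G → ZMod 3)
    (h : IsWeightDec ρ A m W χ) :
    ∃ (n : ℕ) (e : Module.Basis (Fin n) (ZMod 3) V), MonoN ρ b n e := by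
  classical
  obtain ⟨hne, hmem, hsep, hpm, hspan, hind, hperm⟩ := h
  obtain ⟨comp, hc1, hc2, hc3, hcadd, hcsmul⟩ := m1b_comp W hspan hind
  have hmul : ∀ (g h : G) (v : V), ρ (g * h) v = ρ g (ρ h v) := by
    intro g h v
    rw [map_mul]
    rfl
  have hone : ∀ v : V, ρ 1 v = v := by
    intro v
    rw [map_one]
    rfl
  have hinvl : ∀ (g : G) (v : V), ρ g⁻¹ (ρ g v) = v := by
    intro g v
    rw [← hmul, inv_mul_cancel, hone]
  have hinvr : ∀ (g : G) (v : V), ρ g (ρ g⁻¹ v) = v := by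
    intro g v
    rw [← hmul, mul_inv_cancel, hone]
  have hinj : ∀ (g : G) (v : V), ρ g v = 0 → v = 0 := by
    intro g v hv
    rw [← hinvl g v, hv, map_zero]
  have hcomp0 : ∀ i, comp i 0 = 0 := by
    intro i
    have h1 := hcsmul i 0 0
    rwa [zero_smul, zero_smul] at h1
  have hnz : ∀ i, ∃ v ∈ W i, v ≠ 0 := fun i => (Submodule.ne_bot_iff _).1 (hne i)
  have hdisj : ∀ (i j : Fin m) (v : V), v ∈ W i → v ∈ W j → i ≠ j → v = 0 := by
    intro i j v hi hj hij
    have h1 := hc3 i v hi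
    rw [hc2 i j v hj hij] at h1
    exact h1.symm
  -- the permutation of the indices
  choose π hπ using hperm
  have hπu : ∀ (g : G) (i j : Fin m) (v : V), v ∈ W i → v ≠ 0 → ρ g v ∈ W j → π g i = j := by
    intro g i j v hv hv0 hgv
    by_contra hne'
    exact hv0 (hinj g v (hdisj _ _ _ (hπ g i v hv) hgv hne'))
  have hπmul : ∀ (g h : G) (i : Fin m), π (g * h) i = π g (π h i) := by
    intro g h i
    obtain ⟨v, hv, hv0⟩ := hnz i
    apply hπu (g * h) i _ v hv hv0
    rw [hmul]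
    exact hπ g _ _ (hπ h i v hv)
  have hπone : ∀ i : Fin m, π 1 i = i := by
    intro i
    obtain ⟨v, hv, hv0⟩ := hnz i
    apply hπu 1 i i v hv hv0
    rw [hone]
    exact hv
  have hπinv : ∀ (g : G) (i : Fin m), π g⁻¹ (π g i) = i := by
    intro g i
    rw [← hπmul, inv_mul_cancel, hπone]
  -- transitivity
  have htrans : ∀ i j : Fin m, ∃ g : G, π g i = j := by
    intro i j
    by_contra hcon
    push Not at hcon
    have hN : ∀ g : G, ∀ v ∈ (⨆ g' : G, W (π g' i)), ρ g v ∈ (⨆ g' : G, W (π g' i)) := by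
      intro g v hv
      refine Submodule.iSup_induction (fun g' => W (π g' i))
        (motive := fun x => ρ g x ∈ (⨆ g' : G, W (π g' i))) hv ?_ ?_ ?_
      · intro g' x hx
        have h1 := hπ g _ x hx
        rw [← hπmul] at h1
        exact Submodule.mem_iSup_of_mem (g * g') h1
      · rw [map_zero]
        exact Submodule.zero_mem _
      · intro x y hx hy
        rw [map_add]
        exact Submodule.add_mem _ hx hy
    rcases c.irr _ hN with hbot | htop
    · obtain ⟨v, hv, hv0⟩ := hnz i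
      apply hv0
      have h1 : v ∈ (⨆ g' : G, W (π g' i)) := by
        apply Submodule.mem_iSup_of_mem (1 : G)
        rw [hπone]
        exact hv
      rw [hbot] at h1
      exact (Submodule.mem_bot _).1 h1
    · obtain ⟨u, hu, hu0⟩ := hnz j
      apply hu0
      have h1 : u ∈ (⨆ g' : G, W (π g' i)) := by
        rw [htop]
        exact Submodule.mem_top
      have h2 : comp j u = 0 := by
        refine Submodule.iSup_induction (fun g' => W (π g' i))
          (motive := fun x => comp j x = 0) h1 ?_ ?_ ?_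
        · intro g' x hx
          exact hc2 j _ x hx (fun h => hcon g' h.symm)
        · exact hcomp0 j
        · intro x y hx hy
          rw [hcadd, hx, hy, add_zero]
      rw [← hc3 j u hu]
      exact h2
  -- `b` moves an index
  have hmove : ∃ i₀, π b i₀ ≠ i₀ := by
    by_contra hcon
    push Not at hcon
    apply hAb
    intro x hx
    have key : ∀ v : V, ρ (x * b) v = ρ (b * x) v := by
      intro v
      obtain ⟨f, hf, rfl⟩ := hspan v
      rw [map_sum, map_sum]
      apply Finset.sum_congr rfl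
      intro i _
      have h1 : ρ b (f i) ∈ W i := by
        have h2 := hπ b i (f i) (hf i)
        rwa [hcon i] at h2
      rw [hmul, hmul, (hmem i _).1 h1 x hx, (hmem i _).1 (hf i) x hx, map_smul]
    have h2 : (b * x)⁻¹ * (x * b) = 1 := by
      apply c.faith
      intro v
      rw [hmul, key, hinvl]
    exact (inv_mul_eq_one.1 h2).symm
  obtain ⟨i₀, hi₀⟩ := hmove
  have e1 : b * (b * b) = 1 := by
    rw [← mul_assoc, ← pow_two, ← pow_succ]
    exact c.b3
  have hP3 : ∀ i, π b (π b (π b i)) = i := by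
    intro i
    rw [← hπmul b b i, ← hπmul b (b * b) i, e1, hπone]
  obtain ⟨i₁, hi₁⟩ : ∃ i₁, i₁ = π b i₀ := ⟨_, rfl⟩
  obtain ⟨i₂, hi₂⟩ : ∃ i₂, i₂ = π b i₁ := ⟨_, rfl⟩
  have hi₂₀ : π b i₂ = i₀ := by
    rw [hi₂, hi₁]
    exact hP3 i₀
  have h10 : i₁ ≠ i₀ := by
    rw [hi₁]
    exact hi₀
  have h21 : i₂ ≠ i₁ := by
    intro h
    have e2 : π b i₁ = i₁ := by
      rw [← hi₂]
      exact h
    have e3 := hP3 i₀
    rw [← hi₁, e2, e2] at e3
    exact h10 e3
  have h20 : i₂ ≠ i₀ := by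
    intro h
    have e2 : π b i₁ = i₀ := by
      rw [← hi₂]
      exact h
    have e3 := hP3 i₀
    rw [← hi₁, e2, ← hi₁] at e3
    exact h10 e3
  -- the norm of `b` on a moved weight space
  have hNb : ∀ (i : Fin m) (v : V), v ∈ W i → π b i ≠ i →
      comp i (v + ρ b v + ρ b (ρ b v)) = v := by
    intro i v hv hi
    have hi' : π b (π b i) ≠ i := by
      intro h
      apply hi
      have e2 := hP3 i
      rw [h] at e2
      exact e2
    rw [hcadd, hcadd, hc3 i v hv, hc2 i _ _ (hπ b i v hv) (Ne.symm hi),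
      hc2 i _ _ (hπ b _ _ (hπ b i v hv)) (Ne.symm hi'), add_zero, add_zero]
  have hline0 : ∀ v ∈ W i₀, ∃ k : ZMod 3, v = k • comp i₀ (v₁ + v₂ + v₃) := by
    intro v hv
    obtain ⟨k, hk⟩ := hn v
    refine ⟨k, ?_⟩
    rw [← hcsmul, ← hk, hNb i₀ v hv hi₀]
  obtain ⟨e₀, he₀⟩ : ∃ e₀ : V, e₀ = comp i₀ (v₁ + v₂ + v₃) := ⟨_, rfl⟩
  rw [← he₀] at hline0
  have he₀W : e₀ ∈ W i₀ := by
    rw [he₀]
    exact hc1 _ _
  have he₀0 : e₀ ≠ 0 := by
    intro h0
    obtain ⟨v, hv, hv0⟩ := hnz i₀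
    obtain ⟨k, hk⟩ := hline0 v hv
    rw [h0, smul_zero] at hk
    exact hv0 hk
  -- no fourth moved index
  have hfix : ∀ j : Fin m, j ≠ i₀ → j ≠ i₁ → j ≠ i₂ → π b j = j := by
    intro j hj0 hj1 hj2
    by_contra hj
    obtain ⟨u, hu, hu0⟩ := hnz j
    obtain ⟨k, hk⟩ := hn u
    have e2 : comp i₀ (u + ρ b u + ρ b (ρ b u)) = 0 := by
      have a1 : i₀ ≠ j := Ne.symm hj0
      have a2 : i₀ ≠ π b j := by
        intro h
        have e : π b⁻¹ (π b j) = π b⁻¹ (π b i₂) := by rw [← h, hi₂₀]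
        rw [hπinv, hπinv] at e
        exact hj2 e
      have a3 : i₀ ≠ π b (π b j) := by
        intro h
        have e : π b⁻¹ (π b⁻¹ (π b (π b j))) = π b⁻¹ (π b⁻¹ (π b (π b i₁))) := by
          rw [← h, ← hi₂, hi₂₀]
        rw [hπinv, hπinv, hπinv, hπinv] at e
        exact hj1 e
      rw [hcadd, hcadd, hc2 i₀ _ _ hu a1, hc2 i₀ _ _ (hπ b j u hu) a2,
        hc2 i₀ _ _ (hπ b _ _ (hπ b j u hu)) a3, add_zero, add_zero]
    rw [hk, hcsmul, ← he₀] at e2
    have hk0 : k = 0 := (smul_eq_zero.1 e2).resolve_right he₀0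
    rw [hk0, zero_smul] at hk
    have e3 := hNb j u hu hj
    rw [hk, hcomp0] at e3
    exact hu0 e3.symm
  -- the frame
  obtain ⟨γ, hγ, hγ0, hγ1, hγ2⟩ : ∃ γ : Fin m → G, (∀ i, π (γ i) i₀ = i) ∧ γ i₀ = 1 ∧
      γ i₁ = b ∧ γ i₂ = b * b := by
    choose γ₀ hγ₀ using htrans i₀
    refine ⟨fun i => if i = i₀ then 1 else if i = i₁ then b else if i = i₂ then b * b
      else γ₀ i, ?_, ?_, ?_, ?_⟩
    · intro i
      dsimp only
      by_cases a0 : i = i₀
      · rw [if_pos a0, hπone, a0]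
      · by_cases a1 : i = i₁
        · rw [if_neg a0, if_pos a1, a1, hi₁]
        · by_cases a2 : i = i₂
          · rw [if_neg a0, if_neg a1, if_pos a2, hπmul, ← hi₁, ← hi₂, a2]
          · rw [if_neg a0, if_neg a1, if_neg a2]
            exact hγ₀ i
    · dsimp only
      rw [if_pos rfl]
    · dsimp only
      rw [if_neg h10, if_pos rfl]
    · dsimp only
      rw [if_neg h20, if_neg h21, if_pos rfl]
  have hEW : ∀ i, ρ (γ i) e₀ ∈ W i := by
    intro i
    have h1 := hπ (γ i) i₀ e₀ he₀W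
    rwa [hγ i] at h1
  have hE0 : ∀ i, ρ (γ i) e₀ ≠ 0 := fun i h0 => he₀0 (hinj _ _ h0)
  have hline : ∀ i, ∀ v ∈ W i, ∃ k : ZMod 3, v = k • ρ (γ i) e₀ := by
    intro i v hv
    have h1 : ρ (γ i)⁻¹ v ∈ W i₀ := by
      have h2 := hπ (γ i)⁻¹ i v hv
      have h3 := hπinv (γ i) i₀
      rw [hγ i] at h3
      rwa [h3] at h2
    obtain ⟨k, hk⟩ := hline0 _ h1
    refine ⟨k, ?_⟩
    have h4 : ρ (γ i) (k • e₀) = k • ρ (γ i) e₀ := map_smul _ _ _
    rw [← h4, ← hk, hinvr]
  have hsgn : ∀ k : ZMod 3, k ≠ 0 → k = 1 ∨ k = -1 := by decide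
  have hact : ∀ (g : G) (i : Fin m), ρ g (ρ (γ i) e₀) = ρ (γ (π g i)) e₀ ∨
      ρ g (ρ (γ i) e₀) = -ρ (γ (π g i)) e₀ := by
    intro g i
    obtain ⟨k, hk⟩ := hline (π g i) _ (hπ g i _ (hEW i))
    have hk0 : k ≠ 0 := by
      intro h0
      rw [h0, zero_smul] at hk
      exact hE0 i (hinj g _ hk)
    rcases hsgn k hk0 with h1 | h1
    · left
      rw [hk, h1, one_smul]
    · right
      rw [hk, h1, neg_smul, one_smul]
  have hli : LinearIndependent (ZMod 3) (fun i : Fin m => ρ (γ i) e₀) := by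
    rw [Fintype.linearIndependent_iff]
    intro cf hcf i
    have h1 := hind (fun i => cf i • ρ (γ i) e₀) (fun i => (W i).smul_mem _ (hEW i)) hcf i
    exact (smul_eq_zero.1 h1).resolve_right (hE0 i)
  have hsp : ⊤ ≤ Submodule.span (ZMod 3) (Set.range (fun i : Fin m => ρ (γ i) e₀)) := by
    intro v _
    obtain ⟨f, hf, rfl⟩ := hspan v
    apply Submodule.sum_mem
    intro i _
    obtain ⟨k, hk⟩ := hline i (f i) (hf i)
    rw [hk]
    exact Submodule.smul_mem _ _ (Submodule.subset_span ⟨i, rfl⟩)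
  refine ⟨m, Module.Basis.mk hli hsp, ?_⟩
  have hb : ∀ i, (Module.Basis.mk hli hsp) i = ρ (γ i) e₀ :=
    fun i => Module.Basis.mk_apply hli hsp i
  unfold MonoN
  refine ⟨?_, ?_, ?_⟩
  · intro g i
    refine ⟨π g i, ?_⟩
    rw [hb, hb]
    exact hact g i
  · intro i j
    refine ⟨γ j * (γ i)⁻¹, ?_⟩
    have h1 : π (γ j * (γ i)⁻¹) i = j := by
      rw [hπmul]
      have h3 := hπinv (γ i) i₀
      rw [hγ i] at h3
      rw [h3, hγ j]
    have h2 := hact (γ j * (γ i)⁻¹) i
    rw [h1] at h2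
    rw [hb, hb]
    exact h2
  · refine ⟨i₀, i₁, i₂, h10.symm, h21.symm, h20.symm, ?_, ?_, ?_, ?_⟩
    · rw [hb, hb, hγ0, hγ1, hone]
    · rw [hb, hb, hγ1, hγ2, hmul]
    · rw [hb, hb, hγ2, hγ0, hone, ← hmul, e1, hone]
    · intro i a0 a1 a2
      rw [hb]
      have hPi := hfix i a0 a1 a2
      have h1 := hπ b i _ (hEW i)
      rw [hPi] at h1
      obtain ⟨k, hk⟩ := hline i _ h1
      have hb2 : ρ b (ρ b (ρ (γ i) e₀)) = (k * k) • ρ (γ i) e₀ := by
        rw [hk, map_smul, hk, smul_smul]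
      have hb3 : ρ b (ρ b (ρ b (ρ (γ i) e₀))) = (k * k * k) • ρ (γ i) e₀ := by
        rw [hb2, map_smul, hk, smul_smul]
      have h3 : ρ (b * (b * b)) (ρ (γ i) e₀) = ρ (γ i) e₀ := by rw [e1, hone]
      rw [hmul, hmul, hb3] at h3
      have h4 : (k * k * k - 1) • ρ (γ i) e₀ = 0 := by
        rw [sub_smul, one_smul, h3, sub_self]
      have h5 : k * k * k - 1 = 0 := (smul_eq_zero.1 h4).resolve_right (hE0 i)
      have h6 : ∀ k : ZMod 3, k * k * k - 1 = 0 → k = 1 := by decide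
      rw [hk, h6 k h5, one_smul]

end Cfsg.Agent.Helper29.N15
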