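import Cfsg.Agent.Helper55.N9Defs
import Cfsg.Prelude.Def_Solvable
import Cfsg.Prelude.Def_Transfer
import Cfsg.Agent.Helper47.Coprime
import Cfsg.Agent.Helper2.PGroup

set_option autoImplicit false

namespace Cfsg.Agent.Helper29.N9

open Subgroup Cfsg.Agent.Helper55.N9

variable {G : Type*} [Group G] [Finite G]

section
variable {S : Type*} [Group S] [Finite S]

-- TR2
theorem n9_tr_special (T : Tools S) (X : Subgroup S) (hX : IsPGroup 2 X)
    (hs : SpecialData X) :
    Cfsg.IsSpecial 2 ↥X ∧ Nat.card (Subgroup.center ↥X) = Nat.card (zc X) := by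
  have : Fact (Nat.Prime 2) := ⟨Nat.prime_two⟩
  have hmapZ : (Subgroup.center ↥X).map X.subtype = zc X := by
    ext x
    constructor
    · intro hx
      obtain ⟨c, hc, rfl⟩ := Subgroup.mem_map.1 hx
      have h0 : (c : S) ∈ centralizer (X : Set S) := by
        rw [Subgroup.mem_centralizer_iff]
        intro y hy
        have h1 := Subgroup.mem_center_iff.1 hc ⟨y, hy⟩
        exact congrArg Subtype.val h1
      exact ⟨c.2, h0⟩
    · intro hx
      refine Subgroup.mem_map.2 ⟨⟨x, hx.1⟩, ?_, rfl⟩
      rw [Subgroup.mem_center_iff]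
      intro g
      apply Subtype.ext
      exact (Subgroup.mem_centralizer_iff.1 hx.2) g.1 g.2
  have hmapC : (commutator ↥X).map X.subtype = ⁅X, X⁆ := by
    rw [_root_.commutator_def, Subgroup.map_commutator, ← MonoidHom.range_eq_map, Subgroup.range_subtype]
  have hcomm_eq : commutator ↥X = Subgroup.center ↥X := by
    apply Subgroup.map_injective X.subtype_injective
    rw [hmapC, hmapZ, hs.comm]
  have hfr : frattini ↥X = Subgroup.center ↥X := by
    apply le_antisymm
    · rw [← hcomm_eq]
      have h1 := Cfsg.Agent.Helper47.frattini_le_ker (P := ↥X) 2 (Abelianization.of) (by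
        intro x
        rw [← map_pow]
        have hx2 : x ^ 2 ∈ commutator ↥X := by
          rw [hcomm_eq]
          have h2 : ((x ^ 2 : ↥X) : S) ∈ (Subgroup.center ↥X).map X.subtype := by
            rw [hmapZ, Subgroup.coe_pow]
            exact hs.sq x.1 x.2
          obtain ⟨c, hc, hcx⟩ := Subgroup.mem_map.1 h2
          have h3 : c = x ^ 2 := Subtype.ext hcx
          rw [← h3]
          exact hc
        exact MonoidHom.mem_ker.mp (by rw [Abelianization.ker_of]; exact hx2))
      rw [Abelianization.ker_of] at h1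
      exact h1
    · rw [← hcomm_eq]
      exact Cfsg.Agent.Helper2.commutator_le_frattini_of_isPGroup hX
  refine ⟨⟨hX, hfr, hcomm_eq⟩, ?_⟩
  rw [← hmapZ, Subgroup.card_map_of_injective X.subtype_injective]

end

end Cfsg.Agent.Helper29.N9
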