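/-
Helper library of seat helper29: in a minimal simple group of odd order whose proper subgroups
have p-length one, the normalizer of a nilpotent Hall subgroup controls (strong) fusion in it
(Bender-Glauberman; feeds S1384).  Everything lives in the namespace Cfsg.Agent.Helper29.
-/
import Mathlib
import Cfsg.Agent.S1461
import Cfsg.Agent.Helper52.BG107
import Cfsg.Agent.Helper1.Hall
import Cfsg.Agent.Helper22.BG12a

set_option autoImplicit false

open Subgroup Cfsg

namespace Cfsg.Agent.Helper29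

universe u

/-- In a finite nilpotent group a Sylow `p`-subgroup `P` has a normal complement `K` that
centralizes it. -/
theorem nhs_split_type {X : Type u} [Group X] [Finite X] [Group.IsNilpotent X] {p : ℕ}
    [Fact p.Prime] (P : Sylow p X) :
    ∃ K : Subgroup X, (Nat.card K).Coprime p ∧ Nat.card P * Nat.card K = Nat.card X ∧
      (∀ y ∈ P, ∀ k ∈ K, y * k = k * y) ∧ (∀ a : X, ∃ y ∈ P, ∃ k ∈ K, a = y * k) := by
  have hp : p.Prime := Fact.out
  have hPn : (P : Subgroup X).Normal := by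
    have h03 := (Group.isNilpotent_of_finite_tfae (G := X)).out 0 3
    exact h03.mp ‹_› p ‹_› P
  obtain ⟨K, hK⟩ := Subgroup.exists_right_complement'_of_coprime (N := (P : Subgroup X))
    P.card_coprime_index
  have hcard : Nat.card P * Nat.card K = Nat.card X := hK.card_mul_card
  have hKidx : K.index = Nat.card P := hK.index_eq_card
  have hKcard : Nat.card K = (P : Subgroup X).index := by
    have h1 := (P : Subgroup X).card_mul_index
    have hpos : 0 < Nat.card (P : Subgroup X) := Nat.card_pos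
    exact Nat.eq_of_mul_eq_mul_left hpos (hcard.trans h1.symm)
  have hKcop : (Nat.card K).Coprime p := by
    rw [hKcard]
    exact ((Nat.Prime.coprime_iff_not_dvd hp).mpr P.not_dvd_index).symm
  have hKn : K.Normal := by
    apply Helper22.bg12_hall_normal
    rw [hKidx]
    obtain ⟨n, hn⟩ := IsPGroup.iff_card.mp P.2
    have hn' : Nat.card (P : Subgroup X) = p ^ n := hn
    rw [hn']
    exact Nat.Coprime.pow_right n hKcop
  refine ⟨K, hKcop, hcard, ?_, ?_⟩
  · intro y hy k hk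
    exact (Subgroup.commute_of_normal_of_disjoint _ _ hPn hKn hK.disjoint y k hy hk).eq
  · intro a
    obtain ⟨x, hx, -⟩ := (Subgroup.isComplement_iff_existsUnique.mp hK) a
    exact ⟨x.1.1, x.1.2, x.2.1, x.2.2, hx.symm⟩

/-- A nontrivial nilpotent Hall subgroup `H` of a finite group is `P × K` with `P` a Sylow
subgroup of the whole group and `K` a smaller nilpotent Hall subgroup; the two components of
an element are given by a power map. -/
theorem nhs_split {G : Type u} [Group G] [Finite G] {H : Subgroup G}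
    (hHn : Group.IsNilpotent ↥H) (hHall : (Nat.card H).Coprime H.index) (hH : H ≠ ⊥) :
    ∃ (p : ℕ) (_ : Fact p.Prime) (P : Sylow p G) (K : Subgroup G) (e : ℕ),
      (P : Subgroup G) ≤ H ∧ K ≤ H ∧ (P : Subgroup G) ≠ ⊥ ∧ Group.IsNilpotent ↥K ∧
      (Nat.card K).Coprime K.index ∧ Nat.card K < Nat.card H ∧
      (∀ y ∈ (P : Subgroup G), ∀ k ∈ K, y * k = k * y) ∧
      (∀ a ∈ H, a ^ e ∈ (P : Subgroup G) ∧ a * (a ^ e)⁻¹ ∈ K) := by
  have hcardH : Nat.card H ≠ 1 := fun h => hH (Subgroup.card_eq_one.mp h)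
  obtain ⟨p, hp, hpH⟩ := Nat.exists_prime_and_dvd hcardH
  have hpF : Fact p.Prime := ⟨hp⟩
  obtain ⟨P₀⟩ : Nonempty (Sylow p ↥H) := inferInstance
  obtain ⟨K₀, hcop, hcard, hcomm, hdec⟩ := nhs_split_type P₀
  have hinj : Function.Injective H.subtype := H.subtype_injective
  obtain ⟨P', hP'⟩ : ∃ P' : Subgroup G, P' = (P₀ : Subgroup ↥H).map H.subtype := ⟨_, rfl⟩
  obtain ⟨K, hKdef⟩ : ∃ K : Subgroup G, K = K₀.map H.subtype := ⟨_, rfl⟩
  have hcP : Nat.card P' = Nat.card (P₀ : Subgroup ↥H) := by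
    rw [hP']; exact Subgroup.card_map_of_injective hinj
  have hcK : Nat.card K = Nat.card K₀ := by
    rw [hKdef]; exact Subgroup.card_map_of_injective hinj
  have hab : Nat.card P' * Nat.card K = Nat.card H := by rw [hcP, hcK]; exact hcard
  have hcopK : (Nat.card K).Coprime p := by rw [hcK]; exact hcop
  have hpa : p ∣ Nat.card P' := by
    have h1 : p ∣ Nat.card P' * Nat.card K := by rw [hab]; exact hpH
    exact (Nat.Coprime.dvd_mul_right ((Nat.coprime_comm).mp hcopK)).mp h1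
  have hP'p : IsPGroup p P' := by rw [hP']; exact P₀.2.map H.subtype
  obtain ⟨n, hn⟩ := IsPGroup.iff_card.mp hP'p
  have hP'H : P' ≤ H := by
    rw [hP']; rintro _ ⟨y, -, rfl⟩; exact y.2
  have hKH : K ≤ H := by
    rw [hKdef]; rintro _ ⟨y, -, rfl⟩; exact y.2
  have hapos : 0 < Nat.card P' := Nat.card_pos
  have ha1 : 1 < Nat.card P' := by
    have h2 : 2 ≤ p := hp.two_le
    have := Nat.le_of_dvd hapos hpa
    omega
  have hP'ne : P' ≠ ⊥ := by
    intro h
    rw [h, Subgroup.card_bot] at ha1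
    exact lt_irrefl _ ha1
  have hpidx : ¬ p ∣ H.index := by
    intro h
    have := Nat.eq_one_of_dvd_coprimes hHall hpH h
    exact hp.one_lt.ne' this
  have hP'idx : P'.index = Nat.card K * H.index := by
    have h1 := P'.card_mul_index
    have h2 := H.card_mul_index
    rw [← hab, mul_assoc] at h2
    exact Nat.eq_of_mul_eq_mul_left hapos (h1.trans h2.symm)
  have hKidx : K.index = Nat.card P' * H.index := by
    have h1 := K.card_mul_index
    have h2 := H.card_mul_index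
    rw [← hab, mul_comm (Nat.card P'), mul_assoc] at h2
    exact Nat.eq_of_mul_eq_mul_left Nat.card_pos (h1.trans h2.symm)
  have hnd : ¬ p ∣ P'.index := by
    rw [hP'idx]
    intro h
    rcases (Nat.Prime.dvd_mul hp).mp h with h | h
    · exact hp.one_lt.ne' (Nat.eq_one_of_dvd_coprimes hcopK h dvd_rfl)
    · exact hpidx h
  have hKP : (Nat.card K).Coprime (Nat.card P') := by
    rw [hn]; exact Nat.Coprime.pow_right n hcopK
  have hKHall : (Nat.card K).Coprime K.index := by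
    rw [hKidx]
    refine Nat.Coprime.mul_right hKP ?_
    exact Nat.Coprime.coprime_dvd_left (Subgroup.card_dvd_of_le hKH) hHall
  have hKlt : Nat.card K < Nat.card H := by
    rw [← hab]
    have hbpos : 0 < Nat.card K := Nat.card_pos
    calc Nat.card K = 1 * Nat.card K := (one_mul _).symm
      _ < Nat.card P' * Nat.card K := Nat.mul_lt_mul_of_pos_right ha1 hbpos
  have hKnil : Group.IsNilpotent ↥K := by
    rw [hKdef]
    exact Group.nilpotent_of_mulEquiv (K₀.equivMapOfInjective H.subtype hinj)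
  obtain ⟨u, -, hu⟩ := Nat.exists_mul_mod_eq_one_of_coprime hKP ha1
  refine ⟨p, ‹_›, hP'p.toSylow hnd, K, Nat.card K * u, ?_, hKH, ?_, hKnil, hKHall, hKlt, ?_, ?_⟩
  · rw [IsPGroup.toSylow_coe]; exact hP'H
  · rw [IsPGroup.toSylow_coe]; exact hP'ne
  · rw [IsPGroup.toSylow_coe]
    intro y hy k hk
    rw [hP'] at hy
    rw [hKdef] at hk
    obtain ⟨y₀, hy₀, rfl⟩ := hy
    obtain ⟨k₀, hk₀, rfl⟩ := hk
    exact congrArg Subtype.val (hcomm y₀ hy₀ k₀ hk₀)
  · rw [IsPGroup.toSylow_coe]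
    intro a ha
    obtain ⟨y, hy, k, hk, hyk⟩ := hdec ⟨a, ha⟩
    have hyk' : y * k = k * y := hcomm y hy k hk
    have hkb : k ^ Nat.card K = 1 := by
      rw [hcK]
      have := pow_card_eq_one' (G := ↥K₀) (x := ⟨k, hk⟩)
      exact congrArg Subtype.val this
    have hya : y ^ Nat.card P' = 1 := by
      rw [hcP]
      have := pow_card_eq_one' (G := ↥(P₀ : Subgroup ↥H)) (x := ⟨y, hy⟩)
      exact congrArg Subtype.val this
    have hke : k ^ (Nat.card K * u) = 1 := by rw [pow_mul, hkb, one_pow]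
    have hye : y ^ (Nat.card K * u) = y := by
      have h1 := Nat.div_add_mod (Nat.card K * u) (Nat.card P')
      rw [hu] at h1
      rw [← h1, pow_add, pow_mul, hya, one_pow, one_mul, pow_one]
    have hpow : (⟨a, ha⟩ : ↥H) ^ (Nat.card K * u) = y := by
      rw [hyk, (show Commute y k from hyk').mul_pow, hke, hye, mul_one]
    have h1 : a ^ (Nat.card K * u) = (y : G) := by
      have := congrArg Subtype.val hpow
      simpa using this
    have h2 : a * (a ^ (Nat.card K * u))⁻¹ = (k : G) := by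
      rw [h1]
      have h3 : (⟨a, ha⟩ : ↥H) * y⁻¹ = k := by
        rw [hyk, hyk', mul_assoc, mul_inv_cancel, mul_one]
      have := congrArg Subtype.val h3
      simpa using this
    constructor
    · rw [h1, hP']; exact ⟨y, hy, rfl⟩
    · rw [h2, hKdef]; exact ⟨k, hk, rfl⟩

/-- `N_L(H)` controls strong fusion of `H` in `L`. -/
def NHSFus {G : Type u} [Group G] (L H : Subgroup G) : Prop :=
  ∀ A : Set G, A ⊆ (H : Set G) → ∀ g ∈ L, (∀ a ∈ A, MulAut.conj g a ∈ H) →
    ∃ n ∈ L, n ∈ normalizer (H : Set G) ∧ ∀ a ∈ A, MulAut.conj n a = MulAut.conj g a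

/-- Frattini argument with Hall's theorem: if `K` is a Hall subgroup of the ambient group
contained in the solvable subgroup `X` and `n K n⁻¹ ≤ X`, then `n ∈ X · N(K)`. -/
theorem nhs_frattini {G : Type u} [Group G] [Finite G] {X K : Subgroup G}
    (hX : Group.IsSolvable ↥X) (hKX : K ≤ X) (hK : (Nat.card K).Coprime K.index) (n : G)
    (hn : ∀ k ∈ K, MulAut.conj n k ∈ X) :
    ∃ x ∈ X, x⁻¹ * n ∈ normalizer (K : Set G) := by
  obtain ⟨K', hK'⟩ : ∃ K' : Subgroup G, K' = K.map (MulAut.conj n).toMonoidHom := ⟨_, rfl⟩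
  have hK'X : K' ≤ X := by
    rw [hK']; rintro _ ⟨k, hk, rfl⟩; exact hn k hk
  have hcK' : Nat.card K' = Nat.card K := by
    rw [hK']; exact Subgroup.card_map_of_injective (MulAut.conj n).injective
  have h1 : Nat.card (K.subgroupOf X) = Nat.card K := Helper1.card_subgroupOf_of_le hKX
  have h2 : Nat.card (K'.subgroupOf X) = Nat.card K := by
    rw [Helper1.card_subgroupOf_of_le hK'X, hcK']
  have h3 : Nat.card ↥X = Nat.card K * K.relIndex X := by
    have := (K.subgroupOf X).card_mul_index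
    rw [h1] at this
    exact this.symm
  have h4 : (Nat.card K).Coprime (K.relIndex X) :=
    Nat.Coprime.coprime_dvd_right (Subgroup.relIndex_dvd_index_of_le hKX) hK
  have hX' := hX
  obtain ⟨x, hx⟩ := Helper1.hall_conj_aux (Nat.card ↥X) ↥X (Nat.card K) (K.relIndex X) rfl h3 h4
    (K.subgroupOf X) (K'.subgroupOf X) h1 h2
  refine ⟨x, x.2, ?_⟩
  apply Helper52.BG107.mem_normalizer_of_conj_mem
  intro k hk
  have h5 : MulAut.conj n k ∈ K' := by rw [hK']; exact ⟨k, hk, rfl⟩
  have h6 : (⟨MulAut.conj n k, hK'X h5⟩ : ↥X) ∈ K'.subgroupOf X := h5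
  rw [← hx, Subgroup.mem_pointwise_smul_iff_inv_smul_mem] at h6
  have h7 : (((MulAut.conj x)⁻¹ • (⟨MulAut.conj n k, hK'X h5⟩ : ↥X) : ↥X) : G) ∈ K := h6
  have h8 : (((MulAut.conj x)⁻¹ • (⟨MulAut.conj n k, hK'X h5⟩ : ↥X) : ↥X) : G)
      = (x : G)⁻¹ * n * k * ((x : G)⁻¹ * n)⁻¹ := by
    simp [MulAut.smul_def, MulAut.conj_apply, mul_assoc]
  rw [h8] at h7
  exact h7

theorem nhs_conj_fix {G : Type u} [Group G] {S : Set G} {x y : G} (hx : x ∈ centralizer S)
    (hy : y ∈ S) : MulAut.conj x y = y := by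
  rw [MulAut.conj_apply, ← Subgroup.mem_centralizer_iff.mp hx y hy, mul_inv_cancel_right]

theorem nhs_mem_centralizer_of_fix {G : Type u} [Group G] {S : Set G} {x : G}
    (h : ∀ y ∈ S, MulAut.conj x y = y) : x ∈ centralizer S := by
  rw [Subgroup.mem_centralizer_iff]
  intro y hy
  have h1 := h y hy
  rw [MulAut.conj_apply, mul_inv_eq_iff_eq_mul] at h1
  exact h1.symm

theorem nhs_conj_mem_normalizer {G : Type u} [Group G] {H : Subgroup G} {n y : G}
    (hn : n ∈ normalizer (H : Set G)) (hy : y ∈ H) : MulAut.conj n y ∈ H :=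
  (Subgroup.mem_normalizer_iff.mp hn y).mp hy

theorem nhs_conj_mem_centralizer {G : Type u} [Group G] {H : Subgroup G} {n k : G}
    (hn : n ∈ normalizer (H : Set G)) (hk : k ∈ centralizer (H : Set G)) :
    MulAut.conj n k ∈ centralizer (H : Set G) := by
  apply nhs_mem_centralizer_of_fix
  intro y hy
  have h1 : MulAut.conj n⁻¹ y ∈ H := nhs_conj_mem_normalizer (inv_mem hn) hy
  have h2 : MulAut.conj k (MulAut.conj n⁻¹ y) = MulAut.conj n⁻¹ y := nhs_conj_fix hk h1
  calc MulAut.conj (MulAut.conj n k) y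
      = MulAut.conj n (MulAut.conj k (MulAut.conj n⁻¹ y)) := by
        simp [MulAut.conj_apply, mul_assoc]
    _ = y := by rw [h2]; simp [MulAut.conj_apply, mul_assoc]

/-- In a minimal simple group of odd order whose proper subgroups have `p`-length one, the
normalizer of a Sylow `p`-subgroup controls strong fusion in every subgroup containing it. -/
theorem nhs_sylow {G : Type u} [Group G] [Finite G] (hG : IsMinSimpleOddOrder G) {p : ℕ}
    [Fact p.Prime] (hpl : ∀ H : Subgroup G, H ≠ ⊤ → PLengthLE p 1 H) (P : Sylow p G)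
    (L : Subgroup G) (hPL : (P : Subgroup G) ≤ L) : NHSFus L (P : Subgroup G) := by
  intro A hA g hgL hg
  by_cases hL : L = ⊤
  · obtain ⟨y, hy, hya⟩ := Helper52.BG107.bg107_control hG hpl P A hA g⁻¹ (fun a ha => by
      have := hg a ha
      simpa [MulAut.conj_apply] using this)
    refine ⟨y⁻¹, by rw [hL]; exact mem_top _, inv_mem hy, fun a ha => ?_⟩
    have := hya a ha
    simpa [MulAut.conj_apply] using this
  · have hsol : Group.IsSolvable ↥L := hG.2.2.2 L hL
    obtain ⟨g', hg', c, hc, hgc⟩ := (S1461.result p (hpl L hL) (P.subtype hPL)).2.1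
      {y : ↥L | (y : G) ∈ A} ⟨g, hgL⟩ (fun y hy => hA hy) (by
        rintro _ ⟨y, hy, rfl⟩
        have := hg y hy
        rw [MulAut.conj_apply] at this
        exact this)
    refine ⟨g', g'.2, ?_, fun a ha => ?_⟩
    · apply Helper52.BG107.mem_normalizer_of_conj_mem
      intro y hy
      have h1 : (⟨y, hPL hy⟩ : ↥L) ∈ ((P.subtype hPL : Sylow p ↥L) : Subgroup ↥L) := hy
      have h2 := (Subgroup.mem_normalizer_iff.mp hg' ⟨y, hPL hy⟩).mp h1
      exact h2
    · have h1 : (⟨a, hPL (hA ha)⟩ : ↥L) ∈ {y : ↥L | (y : G) ∈ A} := ha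
      have h2 := Subgroup.mem_centralizer_iff.mp hc _ h1
      have h3 : a * (c : G) = (c : G) * a := congrArg Subtype.val h2
      have h4 : g = (g' : G) * (c : G) := (congrArg Subtype.val hgc).symm
      rw [MulAut.conj_apply, MulAut.conj_apply, h4]
      calc (g' : G) * a * (g' : G)⁻¹ = (g' : G) * (a * (c : G)) * (c : G)⁻¹ * (g' : G)⁻¹ := by group
        _ = (g' : G) * (c : G) * a * ((g' : G) * (c : G))⁻¹ := by rw [h3]; group

/-- Strong control of fusion in nilpotent Hall subgroups, from control in Sylow subgroups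
(in all subgroups), solvability of proper subgroups and trivial centre. -/
theorem nhs_main {G : Type u} [Group G] [Finite G]
    (hCP : ∀ (p : ℕ) [Fact p.Prime] (P : Sylow p G) (L : Subgroup G), (P : Subgroup G) ≤ L →
      NHSFus L (P : Subgroup G))
    (hSol : ∀ X : Subgroup G, X ≠ ⊤ → Group.IsSolvable ↥X)
    (hZ : ∀ Q : Subgroup G, Q ≠ ⊥ → centralizer (Q : Set G) ≠ ⊤) :
    ∀ (k : ℕ) (H : Subgroup G), Nat.card H ≤ k → Group.IsNilpotent ↥H →
      (Nat.card H).Coprime H.index → ∀ L : Subgroup G, H ≤ L → NHSFus L H := by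
  intro k
  induction k with
  | zero =>
    intro H hk
    have := Nat.card_pos (α := ↥H)
    omega
  | succ k ih =>
    intro H hk hHn hHall L hHL
    by_cases hH : H = ⊥
    · intro A hA g hgL hg
      refine ⟨1, one_mem _, one_mem _, fun a ha => ?_⟩
      have h1 : a ∈ H := hA ha
      rw [hH, Subgroup.mem_bot] at h1
      rw [h1, map_one, map_one]
    obtain ⟨p, hpF, P, K, e, hPH, hKH, hPne, hKn, hKHall, hKlt, hcomm, hdec⟩ :=
      nhs_split hHn hHall hH
    have ihK := ih K (by omega) hKn hKHall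
    by_cases hK : K = ⊥
    · have hHP : H = (P : Subgroup G) := by
        refine le_antisymm (fun a ha => ?_) hPH
        have h1 := (hdec a ha).1
        have h2 := (hdec a ha).2
        rw [hK, Subgroup.mem_bot, mul_inv_eq_one] at h2
        rw [h2]
        exact h1
      rw [hHP]
      exact hCP p P L (hHP ▸ hHL)
    intro A hA g hgL hg
    have hPL : (P : Subgroup G) ≤ L := hPH.trans hHL
    have hKL : K ≤ L := hKH.trans hHL
    have hKcP : K ≤ centralizer ((P : Subgroup G) : Set G) := by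
      intro k hk
      rw [Subgroup.mem_centralizer_iff]
      intro y hy
      exact hcomm y hy k hk
    have hPcK : (P : Subgroup G) ≤ centralizer (K : Set G) := by
      intro y hy
      rw [Subgroup.mem_centralizer_iff]
      intro k hk
      exact (hcomm y hy k hk).symm
    -- the two components of `A`
    obtain ⟨AP, hAPdef⟩ : ∃ AP : Set G, AP = (fun a => a ^ e) '' A := ⟨_, rfl⟩
    obtain ⟨AK, hAKdef⟩ : ∃ AK : Set G, AK = (fun a => a * (a ^ e)⁻¹) '' A := ⟨_, rfl⟩
    have hAP : AP ⊆ ((P : Subgroup G) : Set G) := by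
      rw [hAPdef]; rintro _ ⟨a, ha, rfl⟩; exact (hdec a (hA ha)).1
    have hAK : AK ⊆ (K : Set G) := by
      rw [hAKdef]; rintro _ ⟨a, ha, rfl⟩; exact (hdec a (hA ha)).2
    have hgAP : ∀ b ∈ AP, MulAut.conj g b ∈ (P : Subgroup G) := by
      rw [hAPdef]; rintro _ ⟨a, ha, rfl⟩
      have h1 := (hdec _ (hg a ha)).1
      show MulAut.conj g (a ^ e) ∈ (P : Subgroup G)
      rw [map_pow]; exact h1
    have hgAK : ∀ c ∈ AK, MulAut.conj g c ∈ K := by
      rw [hAKdef]; rintro _ ⟨a, ha, rfl⟩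
      have h1 := (hdec _ (hg a ha)).2
      show MulAut.conj g (a * (a ^ e)⁻¹) ∈ K
      rw [map_mul, map_inv, map_pow]; exact h1
    -- Step 1
    obtain ⟨n₀, hn₀L, hn₀N, hn₀⟩ := hCP p P L hPL AP hAP g hgL hgAP
    have hX₁ : L ⊓ centralizer ((P : Subgroup G) : Set G) ≠ ⊤ := by
      intro h
      apply hZ (P : Subgroup G) hPne
      rw [eq_top_iff, ← h]
      exact inf_le_right
    obtain ⟨x, hxX, hxn⟩ := nhs_frattini (hSol _ hX₁) (le_inf hKL hKcP) hKHall n₀ (fun k hk =>
      Subgroup.mem_inf.mpr ⟨by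
        rw [MulAut.conj_apply]
        exact L.mul_mem (L.mul_mem hn₀L (hKL hk)) (L.inv_mem hn₀L),
        nhs_conj_mem_centralizer hn₀N (hKcP hk)⟩)
    have hxL : x ∈ L := (Subgroup.mem_inf.mp hxX).1
    have hxC : x ∈ centralizer ((P : Subgroup G) : Set G) := (Subgroup.mem_inf.mp hxX).2
    obtain ⟨n₁, hn₁def⟩ : ∃ n₁ : G, n₁ = x⁻¹ * n₀ := ⟨_, rfl⟩
    have hn₁L : n₁ ∈ L := by rw [hn₁def]; exact L.mul_mem (L.inv_mem hxL) hn₀L
    have hn₁P : n₁ ∈ normalizer ((P : Subgroup G) : Set G) := by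
      rw [hn₁def]
      exact Subgroup.mul_mem _ (Subgroup.inv_mem _ (Subgroup.centralizer_le_normalizer _ hxC)) hn₀N
    have hn₁K : n₁ ∈ normalizer (K : Set G) := by rw [hn₁def]; exact hxn
    have hn₁ : ∀ b ∈ AP, MulAut.conj n₁ b = MulAut.conj g b := by
      intro b hb
      rw [hn₁def, map_mul, MulAut.mul_apply, hn₀ b hb]
      exact nhs_conj_fix (Subgroup.inv_mem _ hxC) (hgAP b hb)
    -- Step 2
    obtain ⟨g₁, hg₁def⟩ : ∃ g₁ : G, g₁ = g * n₁⁻¹ := ⟨_, rfl⟩
    have hg₁L : g₁ ∈ L := by rw [hg₁def]; exact L.mul_mem hgL (L.inv_mem hn₁L)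
    have hg₁n₁ : ∀ a : G, MulAut.conj g₁ (MulAut.conj n₁ a) = MulAut.conj g a := by
      intro a
      rw [hg₁def, ← MulAut.mul_apply, ← map_mul, inv_mul_cancel_right]
    obtain ⟨B, hBdef⟩ : ∃ B : Set G, B = (MulAut.conj n₁) '' AP := ⟨_, rfl⟩
    obtain ⟨B', hB'def⟩ : ∃ B' : Set G, B' = (MulAut.conj n₁) '' AK := ⟨_, rfl⟩
    have hBP : B ⊆ ((P : Subgroup G) : Set G) := by
      rw [hBdef]; rintro _ ⟨b, hb, rfl⟩
      exact nhs_conj_mem_normalizer hn₁P (hAP hb)
    have hB'K : B' ⊆ (K : Set G) := by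
      rw [hB'def]; rintro _ ⟨c, hc, rfl⟩
      exact nhs_conj_mem_normalizer hn₁K (hAK hc)
    have hg₁B : g₁ ∈ centralizer B := by
      apply nhs_mem_centralizer_of_fix
      rw [hBdef]; rintro _ ⟨b, hb, rfl⟩
      rw [hg₁n₁, hn₁ b hb]
    have hg₁K : ∀ c' ∈ B', MulAut.conj g₁ c' ∈ K := by
      rw [hB'def]; rintro _ ⟨c, hc, rfl⟩
      rw [hg₁n₁]
      exact hgAK c hc
    -- Step 3
    have hKcB : K ≤ centralizer B := hKcP.trans (Subgroup.centralizer_le hBP)
    obtain ⟨e₀, he₀L₃, he₀K, he₀⟩ := ihK (L ⊓ centralizer B) (le_inf hKL hKcB) B' hB'K g₁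
      (Subgroup.mem_inf.mpr ⟨hg₁L, hg₁B⟩) hg₁K
    have he₀L : e₀ ∈ L := (Subgroup.mem_inf.mp he₀L₃).1
    have he₀B : e₀ ∈ centralizer B := (Subgroup.mem_inf.mp he₀L₃).2
    -- Step 4
    have hX₂ : L ⊓ centralizer (K : Set G) ≠ ⊤ := by
      intro h
      apply hZ K hK
      rw [eq_top_iff, ← h]
      exact inf_le_right
    have hPX₂ : (P : Subgroup G) ≤ L ⊓ centralizer (K : Set G) := le_inf hPL hPcK
    obtain ⟨x', hx'X, hx'n⟩ := nhs_frattini (hSol _ hX₂) hPX₂ P.card_coprime_index e₀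
      (fun y hy => Subgroup.mem_inf.mpr ⟨by
        rw [MulAut.conj_apply]
        exact L.mul_mem (L.mul_mem he₀L (hPL hy)) (L.inv_mem he₀L),
        nhs_conj_mem_centralizer he₀K (hPcK hy)⟩)
    have hx'L : x' ∈ L := (Subgroup.mem_inf.mp hx'X).1
    have hx'C : x' ∈ centralizer (K : Set G) := (Subgroup.mem_inf.mp hx'X).2
    obtain ⟨n₂, hn₂def⟩ : ∃ n₂ : G, n₂ = x'⁻¹ * e₀ := ⟨_, rfl⟩
    have hn₂L : n₂ ∈ L := by rw [hn₂def]; exact L.mul_mem (L.inv_mem hx'L) he₀L
    have hn₂P : n₂ ∈ normalizer ((P : Subgroup G) : Set G) := by rw [hn₂def]; exact hx'n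
    have hn₂K : n₂ ∈ normalizer (K : Set G) := by
      rw [hn₂def]
      exact Subgroup.mul_mem _ (Subgroup.inv_mem _ (Subgroup.centralizer_le_normalizer _ hx'C)) he₀K
    have hn₂B' : ∀ c' ∈ B', MulAut.conj n₂ c' = MulAut.conj g₁ c' := by
      intro c' hc'
      rw [hn₂def, map_mul, MulAut.mul_apply, he₀ c' hc']
      exact nhs_conj_fix (Subgroup.inv_mem _ hx'C) (hg₁K c' hc')
    have hn₂B : ∀ b' ∈ B, MulAut.conj n₂ b' = MulAut.conj x'⁻¹ b' := by
      intro b' hb'
      rw [hn₂def, map_mul, MulAut.mul_apply, nhs_conj_fix he₀B hb']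
    -- Step 5
    obtain ⟨n₃, hn₃X, hn₃P, hn₃⟩ := hCP p P (L ⊓ centralizer (K : Set G)) hPX₂ B hBP x'⁻¹
      (Subgroup.inv_mem _ hx'X) (fun b' hb' => by
        rw [← hn₂B b' hb']
        exact nhs_conj_mem_normalizer hn₂P (hBP hb'))
    have hn₃L : n₃ ∈ L := (Subgroup.mem_inf.mp hn₃X).1
    have hn₃C : n₃ ∈ centralizer (K : Set G) := (Subgroup.mem_inf.mp hn₃X).2
    -- Step 6
    obtain ⟨n₄, hn₄def⟩ : ∃ n₄ : G, n₄ = n₃⁻¹ * n₂ := ⟨_, rfl⟩
    have hn₄L : n₄ ∈ L := by rw [hn₄def]; exact L.mul_mem (L.inv_mem hn₃L) hn₂L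
    have hn₄P : n₄ ∈ normalizer ((P : Subgroup G) : Set G) := by
      rw [hn₄def]; exact Subgroup.mul_mem _ (Subgroup.inv_mem _ hn₃P) hn₂P
    have hn₄K : n₄ ∈ normalizer (K : Set G) := by
      rw [hn₄def]
      exact Subgroup.mul_mem _ (Subgroup.inv_mem _ (Subgroup.centralizer_le_normalizer _ hn₃C)) hn₂K
    have hn₄B : ∀ b' ∈ B, MulAut.conj n₄ b' = b' := by
      intro b' hb'
      rw [hn₄def, map_mul, MulAut.mul_apply, hn₂B b' hb', ← hn₃ b' hb', ← MulAut.mul_apply,
        ← map_mul, inv_mul_cancel, map_one, MulAut.one_apply]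
    have hn₄B' : ∀ c' ∈ B', MulAut.conj n₄ c' = MulAut.conj g₁ c' := by
      intro c' hc'
      rw [hn₄def, map_mul, MulAut.mul_apply, hn₂B' c' hc']
      exact nhs_conj_fix (Subgroup.inv_mem _ hn₃C) (hg₁K c' hc')
    -- Step 7
    have hnP : n₄ * n₁ ∈ normalizer ((P : Subgroup G) : Set G) := Subgroup.mul_mem _ hn₄P hn₁P
    have hnK : n₄ * n₁ ∈ normalizer (K : Set G) := Subgroup.mul_mem _ hn₄K hn₁K
    have hsplit : ∀ a : G, a = a * (a ^ e)⁻¹ * a ^ e := fun a => by
      rw [inv_mul_cancel_right]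
    refine ⟨n₄ * n₁, L.mul_mem hn₄L hn₁L, ?_, ?_⟩
    · apply Helper52.BG107.mem_normalizer_of_conj_mem
      intro a ha
      have h1 : MulAut.conj (n₄ * n₁) (a * (a ^ e)⁻¹) ∈ H :=
        hKH (nhs_conj_mem_normalizer hnK (hdec a ha).2)
      have h2 : MulAut.conj (n₄ * n₁) (a ^ e) ∈ H :=
        hPH (nhs_conj_mem_normalizer hnP (hdec a ha).1)
      have h3 := H.mul_mem h1 h2
      rw [← map_mul, ← hsplit a, MulAut.conj_apply] at h3
      exact h3
    · intro a ha
      have h1 : MulAut.conj (n₄ * n₁) (a ^ e) = MulAut.conj g (a ^ e) := by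
        have hb : a ^ e ∈ AP := by rw [hAPdef]; exact ⟨a, ha, rfl⟩
        have hb' : MulAut.conj n₁ (a ^ e) ∈ B := by rw [hBdef]; exact ⟨_, hb, rfl⟩
        rw [map_mul MulAut.conj n₄ n₁, MulAut.mul_apply, hn₄B _ hb', hn₁ _ hb]
      have h2 : MulAut.conj (n₄ * n₁) (a * (a ^ e)⁻¹) = MulAut.conj g (a * (a ^ e)⁻¹) := by
        have hc : a * (a ^ e)⁻¹ ∈ AK := by rw [hAKdef]; exact ⟨a, ha, rfl⟩
        have hc' : MulAut.conj n₁ (a * (a ^ e)⁻¹) ∈ B' := by rw [hB'def]; exact ⟨_, hc, rfl⟩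
        rw [map_mul MulAut.conj n₄ n₁, MulAut.mul_apply, hn₄B' _ hc', hg₁n₁]
      calc MulAut.conj (n₄ * n₁) a
          = MulAut.conj (n₄ * n₁) (a * (a ^ e)⁻¹) * MulAut.conj (n₄ * n₁) (a ^ e) := by
            rw [← map_mul, ← hsplit a]
        _ = MulAut.conj g (a * (a ^ e)⁻¹) * MulAut.conj g (a ^ e) := by rw [h1, h2]
        _ = MulAut.conj g a := by rw [← map_mul, ← hsplit a]

/-- Bender–Glauberman: in a minimal simple group of odd order all of whose proper subgroups
have `p`-length one for every prime `p`, the normalizer of a nilpotent Hall subgroup `H`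
controls fusion in `H`. -/
theorem nhs_control_of_plength {G : Type u} [Group G] [Finite G] (hG : IsMinSimpleOddOrder G)
    (hpl : ∀ (p : ℕ) [Fact p.Prime] (H : Subgroup G), H ≠ ⊤ → PLengthLE p 1 H)
    (H : Subgroup G) (hHn : Group.IsNilpotent H) (hHall : (Nat.card H).Coprime H.index) :
    ∀ x ∈ H, ∀ g : G, g * x * g⁻¹ ∈ H →
      ∃ n ∈ Subgroup.normalizer (H : Set G), n * x * n⁻¹ = g * x * g⁻¹ := by
  intro x hx g hg
  have hZ : ∀ Q : Subgroup G, Q ≠ ⊥ → centralizer (Q : Set G) ≠ ⊤ := by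
    intro Q hQ htop
    have hsimple : IsSimpleGroup G := hG.2.1
    have hQc : Q ≤ center G := by
      intro q hq
      rw [Subgroup.mem_center_iff]
      intro y
      have hy : y ∈ centralizer (Q : Set G) := htop ▸ mem_top y
      exact (Subgroup.mem_centralizer_iff.mp hy q hq).symm
    rcases (Subgroup.Normal.eq_bot_or_eq_top (inferInstance : (center G).Normal)) with h | h
    · exact hQ (le_bot_iff.mp (h ▸ hQc))
    · apply hG.2.2.1
      refine ⟨⟨fun a b => ?_⟩⟩
      have ha : a ∈ center G := h ▸ mem_top a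
      exact (Subgroup.mem_center_iff.mp ha b).symm
  obtain ⟨n, -, hn, hna⟩ := nhs_main (fun p _ P L hPL => nhs_sylow hG (hpl p) P L hPL)
    hG.2.2.2 hZ (Nat.card H) H le_rfl hHn hHall ⊤ le_top {x} (by simpa using hx) g (mem_top g)
    (by simpa [MulAut.conj_apply] using hg)
  exact ⟨n, hn, by simpa [MulAut.conj_apply] using hna x rfl⟩

end Cfsg.Agent.Helper29
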