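import Mathlib
import Cfsg.Prelude.Def_CaseTheorems
import Cfsg.Agent.Helper29.PCube

/-!
# Non-abelian groups of order `p ^ 3`: centre and `p`-th powers; sectional rank (helper29)
-/

set_option autoImplicit false

namespace Cfsg.Agent.Helper29

theorem cube_center {B : Type*} [Group B] [Finite B] {p : ℕ} [Fact p.Prime]
    (hB : Nat.card B = p ^ 3) (hna : ¬ IsMulCommutative B) :
    Nat.card (Subgroup.center B) = p ∧ ∀ b : B, b ^ p ∈ Subgroup.center B := by
  have hp : p.Prime := Fact.out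
  obtain ⟨k, hk0, hk⟩ := IsPGroup.card_center_eq_prime_pow hB (by norm_num : 0 < 3)
  have hk3 : k ≤ 3 := by
    have h1 : p ^ k ∣ p ^ 3 := by rw [← hk, ← hB]; exact Subgroup.card_subgroup_dvd_card _
    exact (Nat.pow_dvd_pow_iff_le_right hp.one_lt).mp h1
  have hQ : Nat.card (B ⧸ Subgroup.center B) * p ^ k = p ^ 3 := by
    rw [← hk, ← hB]; exact (Subgroup.card_eq_card_quotient_mul_card_subgroup _).symm
  have hcyc : IsCyclic (B ⧸ Subgroup.center B) → False := by
    intro hc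
    apply hna
    exact (QuotientGroup.mk' (Subgroup.center B)).isMulCommutative_of_isCyclic_of_ker_le_center
      (by rw [QuotientGroup.ker_mk'])
  have hk1 : k = 1 := by
    have hk' : k = 1 ∨ k = 2 ∨ k = 3 := by omega
    rcases hk' with rfl | rfl | rfl
    · rfl
    · exfalso
      have h1 : Nat.card (B ⧸ Subgroup.center B) = p := by
        have : p ^ 3 = p * p ^ 2 := by ring
        rw [this] at hQ
        exact Nat.eq_of_mul_eq_mul_right (pow_pos hp.pos 2) hQ
      exact hcyc (isCyclic_of_prime_card h1)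
    · exfalso
      have h1 : Nat.card (B ⧸ Subgroup.center B) = 1 := by
        have hQ' : Nat.card (B ⧸ Subgroup.center B) * p ^ 3 = 1 * p ^ 3 := by
          rw [one_mul]; exact hQ
        exact Nat.eq_of_mul_eq_mul_right (pow_pos hp.pos 3) hQ'
      have : Subsingleton (B ⧸ Subgroup.center B) := (Nat.card_eq_one_iff_unique.mp h1).1
      exact hcyc isCyclic_of_subsingleton
  subst hk1
  refine ⟨by rw [hk, pow_one], ?_⟩
  intro b
  have hQ2 : Nat.card (B ⧸ Subgroup.center B) = p ^ 2 := by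
    have : p ^ 3 = p ^ 2 * p ^ 1 := by ring
    rw [this] at hQ
    exact Nat.eq_of_mul_eq_mul_right (pow_pos hp.pos 1) hQ
  have h1 : orderOf (QuotientGroup.mk' (Subgroup.center B) b) ∣ p ^ 2 :=
    hQ2 ▸ orderOf_dvd_natCard _
  obtain ⟨j, hj2, hj⟩ := (Nat.dvd_prime_pow hp).mp h1
  have hj' : j ≠ 2 := by
    rintro rfl
    exact hcyc (isCyclic_of_orderOf_eq_card _ (hj.trans hQ2.symm))
  have h2 : (QuotientGroup.mk' (Subgroup.center B) b) ^ p = 1 := by
    apply orderOf_dvd_iff_pow_eq_one.mp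
    rw [hj]
    have : j = 0 ∨ j = 1 := by omega
    rcases this with rfl | rfl
    · simp
    · simp
  rw [← map_pow] at h2
  exact (QuotientGroup.eq_one_iff _).mp h2

theorem cube_center_sub {X : Type*} [Group X] [Finite X] {p : ℕ} [Fact p.Prime] (B : Subgroup X)
    (hB : Nat.card B = p ^ 3) (hna : ¬ IsMulCommutative B) :
    Nat.card ↥(Subgroup.centralizer (B : Set X) ⊓ B) = p ∧
      ∀ b ∈ B, b ^ p ∈ Subgroup.centralizer (B : Set X) ⊓ B := by
  obtain ⟨h1, h2⟩ := cube_center hB hna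
  have hmap : (Subgroup.center B).map B.subtype = Subgroup.centralizer (B : Set X) ⊓ B := by
    ext x
    constructor
    · rintro ⟨b, hb, rfl⟩
      refine ⟨Subgroup.mem_centralizer_iff.mpr ?_, b.2⟩
      intro c hc
      have := Subgroup.mem_center_iff.mp hb ⟨c, hc⟩
      exact congrArg Subtype.val this
    · rintro ⟨hx1, hx2⟩
      refine ⟨⟨x, hx2⟩, ?_, rfl⟩
      rw [SetLike.mem_coe, Subgroup.mem_center_iff]
      intro c
      apply Subtype.ext
      exact (Subgroup.mem_centralizer_iff.mp hx1) c c.2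
  refine ⟨?_, ?_⟩
  · rw [← hmap, Subgroup.card_map_of_injective B.subtype_injective, h1]
  · intro b hb
    rw [← hmap]
    exact ⟨⟨b, hb⟩ ^ p, h2 ⟨b, hb⟩, by simp⟩

/-- In a `2`-group of sectional rank at most `2`, a non-abelian subgroup of order `8` contains
its centralizer. -/
theorem centralizer_le_of_sectional {S : Type*} [Group S] [Finite S] (h2 : IsPGroup 2 S)
    (hr : Cfsg.SectionalPRankLE 2 2 S) (H : Subgroup S) (hH : Nat.card H = 2 ^ 3)
    (hna : ¬ IsMulCommutative H) : Subgroup.centralizer (H : Set S) ≤ H := by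
  have : Fact (Nat.Prime 2) := ⟨Nat.prime_two⟩
  obtain ⟨hZcard, hsq⟩ := cube_center_sub H hH hna
  set Z := Subgroup.centralizer (H : Set S) ⊓ H with hZ
  by_contra hcon
  obtain ⟨c, hcC, hcH⟩ : ∃ c ∈ Subgroup.centralizer (H : Set S), c ∉ H := by
    by_contra h'
    push Not at h'
    exact hcon h'
  obtain ⟨y, hyC, hyH, hy2⟩ : ∃ y ∈ Subgroup.centralizer (H : Set S), y ∉ H ∧ y ^ 2 ∈ H := by
    have hex : ∃ j : ℕ, c ^ (2 ^ j) ∈ H := by
      obtain ⟨j, hj⟩ := (IsPGroup.iff_orderOf.mp h2) c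
      exact ⟨j, by rw [← hj, pow_orderOf_eq_one]; exact H.one_mem⟩
    classical
    have hj := Nat.find_spec hex
    have hmin := fun m => Nat.find_min hex (m := m)
    set j := Nat.find hex
    have hj0 : j ≠ 0 := by
      intro h0
      rw [h0, pow_zero, pow_one] at hj
      exact hcH hj
    obtain ⟨i, hi⟩ : ∃ i, j = i + 1 := ⟨j - 1, by omega⟩
    refine ⟨c ^ (2 ^ i), Subgroup.pow_mem _ hcC _, hmin i (by omega), ?_⟩
    rw [← pow_mul, ← pow_succ, ← hi]
    exact hj
  have hy2Z : y ^ 2 ∈ Z := ⟨Subgroup.pow_mem _ hyC _, hy2⟩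
  set T : Subgroup S := Subgroup.zpowers y ⊔ H with hT
  have hyN : Subgroup.zpowers y ≤ Subgroup.normalizer (H : Set S) := by
    rw [Subgroup.zpowers_le]
    exact Subgroup.centralizer_le_normalizer _ hyC
  have hTmem : ∀ t ∈ T, ∃ u ∈ Subgroup.zpowers y, ∃ h ∈ H, t = u * h := by
    intro t ht
    have h1 : t ∈ ((Subgroup.zpowers y ⊔ H : Subgroup S) : Set S) := ht
    rw [Subgroup.coe_mul_of_left_le_normalizer_right _ _ hyN] at h1
    obtain ⟨u, hu, h, hh, rfl⟩ := Set.mem_mul.mp h1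
    exact ⟨u, hu, h, hh, rfl⟩
  have hyc : ∀ h ∈ H, Commute y h := fun h hh => ((Subgroup.mem_centralizer_iff.mp hyC) h hh).symm
  have hTsq : ∀ t ∈ T, t ^ 2 ∈ Z := by
    intro t ht
    obtain ⟨u, hu, h, hh, rfl⟩ := hTmem t ht
    obtain ⟨i, rfl⟩ := Subgroup.mem_zpowers_iff.mp hu
    have hcomm : Commute (y ^ i) h := (hyc h hh).zpow_left i
    rw [hcomm.mul_pow]
    apply Z.mul_mem
    · rw [← zpow_natCast, ← zpow_mul, mul_comm, zpow_mul, zpow_natCast]
      exact Z.zpow_mem hy2Z i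
    · exact hsq h hh
  have hZT : Z ≤ T := fun z hz => (le_sup_right : H ≤ T) hz.2
  have hZcent : ∀ t ∈ T, ∀ z ∈ Z, t * z = z * t := by
    intro t ht z hz
    obtain ⟨u, hu, h, hh, rfl⟩ := hTmem t ht
    obtain ⟨i, rfl⟩ := Subgroup.mem_zpowers_iff.mp hu
    have h1 : Commute y z := hyc z hz.2
    have h2 : Commute h z := (Subgroup.mem_centralizer_iff.mp hz.1) h hh
    exact ((h1.zpow_left i).mul_left h2).eq
  have hN : (Z.subgroupOf T).Normal := by
    constructor
    intro n hn t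
    rw [Subgroup.mem_subgroupOf] at hn ⊢
    have h1 := hZcent t t.2 n hn
    have h3 : ((t * n * t⁻¹ : T) : S) = (n : S) := by
      show (t : S) * (n : S) * (t : S)⁻¹ = (n : S)
      rw [h1]; group
    rw [h3]; exact hn
  have hpr := hr T (Z.subgroupOf T)
  have hexp : ∀ a : T ⧸ Z.subgroupOf T, a ^ 2 = 1 := by
    intro a
    obtain ⟨t, rfl⟩ := QuotientGroup.mk_surjective a
    rw [← QuotientGroup.mk_pow, QuotientGroup.eq_one_iff, Subgroup.mem_subgroupOf]
    simpa using hTsq t t.2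
  have hcommQ : ∀ a b : T ⧸ Z.subgroupOf T, a * b = b * a := by
    intro a b
    have h1 : (a * b)⁻¹ = a * b := inv_eq_of_mul_eq_one_left (by rw [← sq]; exact hexp _)
    have h2 : a⁻¹ = a := inv_eq_of_mul_eq_one_left (by rw [← sq]; exact hexp _)
    have h3 : b⁻¹ = b := inv_eq_of_mul_eq_one_left (by rw [← sq]; exact hexp _)
    calc a * b = (a * b)⁻¹ := h1.symm
      _ = b⁻¹ * a⁻¹ := mul_inv_rev a b
      _ = b * a := by rw [h2, h3]
  have hA := hpr ⊤ ⟨⟨fun a b => Subtype.ext (hcommQ a b)⟩⟩ (fun a _ => hexp a)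
  rw [Subgroup.card_top] at hA
  have hcT : Nat.card (T ⧸ Z.subgroupOf T) * Nat.card (Z.subgroupOf T) = Nat.card T :=
    (Subgroup.card_eq_card_quotient_mul_card_subgroup _).symm
  have hcN : Nat.card (Z.subgroupOf T) = 2 := by
    rw [Nat.card_congr (Subgroup.subgroupOfEquivOfLe hZT).toEquiv]; exact hZcard
  have hTcard : 16 ≤ Nat.card T := by
    have hlt : H < T := lt_of_le_of_ne le_sup_right
      (fun h => hyH (h ▸ (le_sup_left : Subgroup.zpowers y ≤ T) (Subgroup.mem_zpowers y)))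
    have h1 := card_lt_card_of_lt' hlt
    obtain ⟨d, hd⟩ := Subgroup.card_dvd_of_le hlt.le
    rw [hH] at h1 hd
    rcases d with _ | _ | d <;> omega
  rw [hcN] at hcT
  norm_num at hA
  omega

end Cfsg.Agent.Helper29
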