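import Mathlib
import Cfsg.Prelude.Def_FusionSystem
import Cfsg.Prelude.Def_Transfer
import Cfsg.Agent.Helper29.Pearl

set_option autoImplicit false

/-!
# PIECE B of CALL S5239 with the exact statement of the call (helper29)
-/

namespace Cfsg.Agent.Helper29

open Cfsg Cfsg.FusionSystem

/-- PIECE B of CALL S5239 (exact statement of the call): a saturated fusion system on a group `S` of
order `27` with an essential elementary abelian subgroup of order `9` forces `S` to have exponent `3`. -/
theorem pearl_order27_exp {Ω : Type*} [Group Ω] {S : Subgroup Ω} [Finite S] (hS : IsPGroup 3 S)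
    (F : Cfsg.FusionSystem S) (hF : F.IsSaturated 3) [Fact (Nat.Prime 3)] (E : Subgroup Ω)
    (hE : F.IsEssential 3 E) (hE9 : Nat.card E = 9) (hE3 : ∀ x ∈ E, x ^ 3 = 1)
    (hS27 : Nat.card S = 27) : ∀ s ∈ S, s ^ 3 = 1 := by
  have hcomm : IsMulCommutative ↥E :=
    IsPGroup.isMulCommutative_of_card_eq_prime_sq (p := 3) (by rw [hE9]; norm_num)
  have h := pearl_order27 hS F hF E hE (Or.inl ⟨hE9, fun x hx => ⟨hE3 x hx, hcomm⟩⟩) hS27
  intro s hs
  have h1 : (⟨s, hs⟩ : ↥S) ^ 3 = 1 := by
    have h2 := Monoid.pow_exponent_eq_one (⟨s, hs⟩ : ↥S)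
    rwa [h.2] at h2
  exact congrArg Subtype.val h1

end Cfsg.Agent.Helper29
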