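import Mathlib
import Cfsg.Agent.Helper87.R2Ctx
import Cfsg.Agent.Helper84.AbIdxC
import Cfsg.Agent.Helper84.FusionAut

set_option autoImplicit false

/-!
# From an essential subgroup to the abstract rank-two context (PIECE F of CALL S5289)

`r2ctx_of_essential`: an essential subgroup `E` of a saturated fusion system over a `p`-group `S`
all of whose elementary abelian subgroups have order at most `p ^ 2` gives an `R2Ctx`:
`A = Aut_F(E)`, `t = c_s` for some `s ∈ N_S(E) ∖ E` with `s ^ p ∈ E`.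
-/

namespace Cfsg.Agent.Helper29

open Cfsg Cfsg.FusionSystem
open scoped commutatorElement

theorem r2ctx_of_essential {Ω : Type*} [Group Ω] {S : Subgroup Ω} [Finite S] (p : ℕ)
    [Fact p.Prime]
    (hS : IsPGroup p S) (F : Cfsg.FusionSystem S) (hF : F.IsSaturated p) (E : Subgroup Ω)
    (hE : F.IsEssential p E)
    (hrank3 : ∀ E' : Subgroup Ω, E' ≤ S → Cfsg.IsElementaryAbelian p E' → Nat.card E' ≤ p ^ 2) :
    ∃ s ∈ S, ∃ hs : s ∈ Subgroup.normalizer (E : Set Ω), s ∉ E ∧ s ^ p ∈ E ∧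
      Helper87.R2Ctx p ↥E (F.autGroup E) (E.normalizerMonoidHom ⟨s, hs⟩) := by
  have hES : E ≤ S := hE.1.1
  have hfinE : Finite E := Helper84.finite_of_le hES
  have hcent : centralizerIn S E ≤ E := hE.1.2 E (Helper84.isConj_refl F hES)
  have hrad := Helper84.essential_radical p hS F E hE
  obtain ⟨M, -, -, t, htS, htI⟩ := Helper84.ess_spe hS F hF hE
  obtain ⟨s0, hs0S, hs0⟩ := (Helper84.mem_autInducedBy_iff S E t).mp htS
  have hs0E : s0 ∉ E := by
    intro h
    apply htI
    refine ⟨⟨s0, h⟩, ?_⟩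
    ext x
    exact (hs0 x).symm
  have hnorm : ∀ n : ℕ, s0 ^ n ∈ Subgroup.normalizer (E : Set Ω) := by
    have h1 : s0 ∈ Subgroup.normalizer (E : Set Ω) := by
      rw [Subgroup.mem_normalizer_iff]
      intro h
      constructor
      · intro hh
        have e1 := hs0 ⟨h, hh⟩
        rw [← e1]; exact (t ⟨h, hh⟩).2
      · intro hh
        have e1 := hs0 (t.symm ⟨_, hh⟩)
        rw [MulEquiv.apply_symm_apply] at e1
        have e2 : h = ((t.symm ⟨_, hh⟩ : ↥E) : Ω) := by
          have e3 := mul_right_cancel e1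
          exact mul_left_cancel e3
        rw [e2]; exact (t.symm ⟨_, hh⟩).2
    intro n; exact Subgroup.pow_mem _ h1 n
  have hex : ∃ n : ℕ, s0 ^ (p ^ n) ∈ E := by
    obtain ⟨n, hn⟩ := hS ⟨s0, hs0S⟩
    refine ⟨n, ?_⟩
    have e1 : s0 ^ (p ^ n) = 1 := by simpa using congrArg Subtype.val hn
    rw [e1]; exact E.one_mem
  classical
  obtain ⟨j, hj⟩ : ∃ j, Nat.find hex = j + 1 := by
    have h0 : Nat.find hex ≠ 0 := by
      intro h0
      have h1 := Nat.find_spec hex
      rw [h0] at h1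
      simp only [pow_zero, pow_one] at h1
      exact hs0E h1
    exact ⟨Nat.find hex - 1, by omega⟩
  have hsE : s0 ^ (p ^ j) ∉ E := Nat.find_min hex (by omega : j < Nat.find hex)
  have hspE : (s0 ^ (p ^ j)) ^ p ∈ E := by
    have h1 := Nat.find_spec hex
    rw [hj, pow_succ, pow_mul] at h1
    exact h1
  have hsS : s0 ^ (p ^ j) ∈ S := S.pow_mem hs0S _
  refine ⟨s0 ^ (p ^ j), hsS, hnorm _, hsE, hspE, ?_⟩
  have key : ∀ (s : Ω) (hsS : s ∈ S) (hsN : s ∈ Subgroup.normalizer (E : Set Ω)) (hsE : s ∉ E)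
      (hspE : s ^ p ∈ E), Helper87.R2Ctx p ↥E (F.autGroup E) (E.normalizerMonoidHom ⟨s, hsN⟩) := by
    intro s hsS hsN hsE hspE
    have hcoe : ∀ x : ↥E, ((E.normalizerMonoidHom ⟨s, hsN⟩ x : ↥E) : Ω) = s * x * s⁻¹ :=
      fun x => rfl
    refine
      { fin := hfinE
        pG := hS.to_le hES
        inn := fun g => Helper84.inn_le_autGroup F hES ⟨g, rfl⟩
        tA := ?_
        tInn := ?_
        tpow := ?_
        tnil := ?_
        rad := ?_
        rank := ?_ }
    · exact Helper84.autInducedBy_le_autGroup F hES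
        ((Helper84.mem_autInducedBy_iff S E _).mpr ⟨s, hsS, hcoe⟩)
    · rintro ⟨e, he⟩
      apply hsE
      have h1 : (e : Ω)⁻¹ * s ∈ centralizerIn S E := by
        refine ⟨S.mul_mem (S.inv_mem (hES e.2)) hsS, ?_⟩
        show (e : Ω)⁻¹ * s ∈ Subgroup.centralizer (E : Set Ω)
        rw [Subgroup.mem_centralizer_iff]
        intro x hx
        have h2 := congrArg (fun f : MulAut ↥E => ((f ⟨x, hx⟩ : ↥E) : Ω)) he
        simp only [hcoe] at h2
        have h3 : (e : Ω) * x * (e : Ω)⁻¹ = s * x * s⁻¹ := h2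
        have h4 : x * ((e : Ω)⁻¹ * s) = (e : Ω)⁻¹ * ((e : Ω) * x * (e : Ω)⁻¹) * s := by group
        rw [h4, h3]; group
      have h5 := E.mul_mem e.2 (hcent h1)
      rwa [mul_inv_cancel_left] at h5
    · refine ⟨⟨s ^ p, hspE⟩, ?_⟩
      rw [← map_pow]
      ext x
      show ((⟨s, hsN⟩ : Subgroup.normalizer (E : Set Ω)) ^ p : Subgroup.normalizer (E : Set Ω)).1
          * (x : Ω) * (((⟨s, hsN⟩ : Subgroup.normalizer (E : Set Ω)) ^ p :
            Subgroup.normalizer (E : Set Ω)).1)⁻¹ = s ^ p * (x : Ω) * (s ^ p)⁻¹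
      rw [Subgroup.coe_pow]
    · intro w
      have hnil : Group.IsNilpotent S := hS.isNilpotent
      obtain ⟨n, hn⟩ := (Subgroup.isNilpotent_iff_lowerCentralSeries S).mp hnil
      refine ⟨n, ?_⟩
      have h1 : ∀ m : ℕ, (((fun u : ↥E => E.normalizerMonoidHom ⟨s, hsN⟩ u * u⁻¹)^[m] w : ↥E) : Ω)
          ∈ S.lowerCentralSeries m := by
        intro m
        induction m with
        | zero => exact hES w.2
        | succ m ih =>
          rw [Function.iterate_succ_apply']
          obtain ⟨u, hu⟩ : ∃ u : ↥E, u = (fun u : ↥E => E.normalizerMonoidHom ⟨s, hsN⟩ u * u⁻¹)^[m] w :=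
            ⟨_, rfl⟩
          rw [← hu] at ih ⊢
          show s * (u : Ω) * s⁻¹ * (u : Ω)⁻¹ ∈ ⁅S.lowerCentralSeries m, S⁆
          have h2 : ⁅(u : Ω), s⁆ ∈ ⁅S.lowerCentralSeries m, S⁆ :=
            Subgroup.commutator_mem_commutator ih hsS
          have h3 : s * (u : Ω) * s⁻¹ * (u : Ω)⁻¹ = ⁅(u : Ω), s⁆⁻¹ := by
            rw [commutatorElement_def]; group
          rw [h3]; exact Subgroup.inv_mem _ h2
      have h2 := h1 n
      rw [hn, Subgroup.mem_bot] at h2
      exact Subtype.ext h2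
    · intro K hKA hKp hKn
      have h1 : K.subgroupOf (F.autGroup E) ≤ pCore p (F.autGroup E) := by
        apply le_sSup
        refine ⟨⟨fun k hk g => ?_⟩, hKp.comap_subtype⟩
        rw [Subgroup.mem_subgroupOf] at hk ⊢
        exact hKn g g.2 k hk
      intro k hk
      have h2 : k ∈ (pCore p (F.autGroup E)).map (F.autGroup E).subtype :=
        ⟨⟨k, hKA hk⟩, h1 (by rw [Subgroup.mem_subgroupOf]; exact hk), rfl⟩
      rw [hrad.2] at h2
      exact h2
    · intro H hab hexp
      have h1 : H.map E.subtype ≤ S := by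
        rintro _ ⟨x, -, rfl⟩
        exact hES x.2
      have h2 : IsElementaryAbelian p (H.map E.subtype) := by
        refine ⟨⟨⟨?_⟩⟩, ?_⟩
        · rintro ⟨_, x, hx, rfl⟩ ⟨_, y, hy, rfl⟩
          apply Subtype.ext
          show (x : Ω) * y = y * x
          exact congrArg Subtype.val (hab x hx y hy)
        · rintro _ ⟨x, hx, rfl⟩
          show (x : Ω) ^ p = 1
          have h3 := congrArg Subtype.val (hexp x hx)
          simpa using h3
      have h3 := hrank3 _ h1 h2
      rwa [Subgroup.card_map_of_injective (Subgroup.subtype_injective E)] at h3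
  exact key _ hsS (hnorm _) hsE hspE

end Cfsg.Agent.Helper29
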