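import Mathlib
import Cfsg.Agent.Helper87.R2Ctx
import Cfsg.Agent.Helper84.FusionSat2
import Cfsg.Agent.Helper84.FusionAut

set_option autoImplicit false

/-!
# Extension of an `F`-automorphism of a fully normalized subgroup (PIECE X of CALL S5289)

`exists_extension_of_conj`: if `E` is fully normalized in the saturated system `F`, `η ∈ Aut_F(E)`,
and `E ≤ N ≤ N_S(E)` is such that `η` conjugates every `c_g`, `g ∈ N`, to some `c_{g'}` with
`g' ∈ N_S(E)`, then `η` extends to a map of the system with source `N`.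
-/

namespace Cfsg.Agent.Helper29

open Cfsg Cfsg.FusionSystem

theorem exists_extension_of_conj {Ω : Type*} [Group Ω] {S : Subgroup Ω} [Finite S] (p : ℕ)
    [Fact p.Prime]
    (hS : IsPGroup p S) (F : Cfsg.FusionSystem S) (hF : F.IsSaturated p) (E : Subgroup Ω)
    (hfn : F.IsFullyNormalized E) (η : MulAut E) (hη : η ∈ F.autGroup E) (N : Subgroup Ω)
    (hEN : E ≤ N) (hNS : N ≤ S) (hNE : N ≤ Subgroup.normalizer (E : Set Ω))
    (hN : ∀ g (hg : g ∈ N), ∃ g' ∈ S, ∃ hg' : g' ∈ Subgroup.normalizer (E : Set Ω),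
      η * E.normalizerMonoidHom ⟨g, hNE hg⟩ * η⁻¹ = E.normalizerMonoidHom ⟨g', hg'⟩) :
    ∃ ψ : N →* Ω, ψ ∈ F.Hom N ∧ ∀ x : E, ψ ⟨x, hEN x.2⟩ = ((η x : E) : Ω) := by
  have hES : E ≤ S := hfn.1
  obtain ⟨-, hrec⟩ := Helper84.saturated_fullyNormalized hS F hF hfn
  have hφ := Helper84.autGroup_hom F hES hη
  have hrange := Helper84.range_subtype_comp_aut E η
  obtain ⟨χ, hχ, hχ'⟩ := hrec.2 E _ hφ hrange
  have hle : N ≤ extender S E (E.subtype.comp η.toMonoidHom) := by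
    intro g hg
    rw [Helper84.mem_extender_iff]
    obtain ⟨g', hg'S, hg'N, hgg'⟩ := hN g hg
    refine ⟨hNS hg, hNE hg, g', hg'S, fun x hx => ?_⟩
    show ((η ⟨g * x * g⁻¹, hx⟩ : ↥E) : Ω) = g' * ((η x : ↥E) : Ω) * g'⁻¹
    have e1 : (⟨g * x * g⁻¹, hx⟩ : ↥E) = E.normalizerMonoidHom ⟨g, hNE hg⟩ x := Subtype.ext rfl
    have e2 : η (E.normalizerMonoidHom ⟨g, hNE hg⟩ x)
        = (η * E.normalizerMonoidHom ⟨g, hNE hg⟩ * η⁻¹) (η x) := by
      simp [MulAut.mul_apply]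
    rw [e1, e2, hgg']
    rfl
  have hθ := Helper84.hom_restrict F hχ hle
  refine ⟨_, hθ, fun x => ?_⟩
  show χ ⟨(x : Ω), hle (hEN x.2)⟩ = _
  rw [hχ' (x : Ω) x.2 (hle (hEN x.2))]
  rfl

end Cfsg.Agent.Helper29
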