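import Mathlib
import Cfsg.Agent.Helper65.SUGDefs

set_option autoImplicit false
set_option linter.unusedSectionVars false
set_option linter.unusedVariables false

namespace Cfsg.Agent.Helper29

open Matrix
open Cfsg.Agent.Helper5 (frobQ frobQ_apply frobQ_frobQ)
open Cfsg.Agent.Helper13
open Cfsg.Agent.Helper65

variable {F : Type*} [Field F] [Fintype F] {q n : ℕ}

theorem sugA_decomp (mu mu' : F) (hne : mu ≠ mu') (x y : Fin n → F) :
    x = (mu' / (mu' - mu)) • (x + mu • y) + (-mu / (mu' - mu)) • (x + mu' • y) := by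
  have h : mu' - mu ≠ 0 := sub_ne_zero.2 (Ne.symm hne)
  funext i
  simp only [Pi.add_apply, Pi.smul_apply, smul_eq_mul]
  field_simp
  ring

theorem sugA_decomp3 (mu mu' : F) (hne : mu ≠ mu') (x y : Fin n → F) :
    y = (1 / (mu - mu')) • (x + mu • y) + (-1 / (mu - mu')) • (x + mu' • y) := by
  have h : mu - mu' ≠ 0 := sub_ne_zero.2 hne
  funext i
  simp only [Pi.add_apply, Pi.smul_apply, smul_eq_mul]
  field_simp
  ring

theorem sugA_comb (h : ↥(Cfsg.SU n F q)) (L c d : F) (a a' : Fin n → F)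
    (ha : uact h a = L • a) (ha' : uact h a' = L • a') :
    uact h (c • a + d • a') = L • (c • a + d • a') := by
  rw [uact_add, uact_smul, uact_smul, ha, ha', smul_add, smul_comm c L, smul_comm d L]

/-- TPOW: a power of the torus element that is scalar on the second plane. -/
theorem sug_torus_pow (hF : Fintype.card F = q ^ 2) (mu mu' lam : F) (hne : mu ≠ mu')
    (hlam : lam ≠ 0) (g : ↥(Cfsg.SU n F q))
    (h2 : uact g (sugE F n 2 + mu • sugE F n 3) = lam • (sugE F n 2 + mu • sugE F n 3))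
    (h3 : uact g (sugE F n 2 + mu' • sugE F n 3)
      = (frobQ hF lam)⁻¹ • (sugE F n 2 + mu' • sugE F n 3))
    (j : ℕ) (hj : lam ^ j * frobQ hF (lam ^ j) = 1) :
    uact (g ^ j) (sugE F n 2) = lam ^ j • sugE F n 2 := by
  have hA := sug_pow_eig g _ _ h2 j
  have hA' := sug_pow_eig g _ _ h3 j
  have hL : (frobQ hF lam)⁻¹ ^ j = lam ^ j := by
    rw [map_pow] at hj
    rw [inv_pow]
    exact inv_eq_of_mul_eq_one_left hj
  rw [hL] at hA'
  have h5 := sugA_comb (g ^ j) (lam ^ j) (mu' / (mu' - mu)) (-mu / (mu' - mu)) _ _ hA hA'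
  rw [← sugA_decomp mu mu' hne (sugE F n 2) (sugE F n 3)] at h5
  exact h5

end Cfsg.Agent.Helper29
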