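import Mathlib
import Cfsg.Agent.Helper65.SUGDefs
import Cfsg.Agent.Helper29.SUGATPOW

set_option autoImplicit false
set_option linter.unusedSectionVars false
set_option linter.unusedVariables false

namespace Cfsg.Agent.Helper29

open Matrix
open Cfsg.Agent.Helper5 (frobQ frobQ_apply frobQ_frobQ)
open Cfsg.Agent.Helper13
open Cfsg.Agent.Helper65

variable {F : Type*} [Field F] [Fintype F] {q n : ℕ}

/-- TORD: the torus element has order dividing `q ^ 2 - 1`. -/
theorem sug_torus_order (hF : Fintype.card F = q ^ 2) (hn : 4 ≤ n) (mu mu' lam xi : F)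
    (hne : mu ≠ mu') (hlam : lam ≠ 0) (hxi : xi ≠ 0) (g : ↥(Cfsg.SU n F q))
    (h0 : uact g (sugE F n 0) = xi • sugE F n 0) (h1 : uact g (sugE F n 1) = xi • sugE F n 1)
    (h2 : uact g (sugE F n 2 + mu • sugE F n 3) = lam • (sugE F n 2 + mu • sugE F n 3))
    (h3 : uact g (sugE F n 2 + mu' • sugE F n 3)
      = (frobQ hF lam)⁻¹ • (sugE F n 2 + mu' • sugE F n 3))
    (h4 : ∀ i : ℕ, 4 ≤ i → uact g (sugE F n i) = sugE F n i) : g ^ (q ^ 2 - 1) = 1 := by
  have hpow : ∀ x : F, x ≠ 0 → x ^ (q ^ 2 - 1) = 1 := by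
    intro x hx
    rw [← hF]
    exact FiniteField.pow_card_sub_one_eq_one x hx
  have hfl : (frobQ hF lam)⁻¹ ≠ 0 := inv_ne_zero ((map_ne_zero _).2 hlam)
  have hA : uact (g ^ (q ^ 2 - 1)) (sugE F n 2 + mu • sugE F n 3)
      = (1 : F) • (sugE F n 2 + mu • sugE F n 3) := by
    rw [sug_pow_eig g _ _ h2, hpow lam hlam]
  have hA' : uact (g ^ (q ^ 2 - 1)) (sugE F n 2 + mu' • sugE F n 3)
      = (1 : F) • (sugE F n 2 + mu' • sugE F n 3) := by
    rw [sug_pow_eig g _ _ h3, hpow _ hfl]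
  have hE2 : uact (g ^ (q ^ 2 - 1)) (sugE F n 2) = sugE F n 2 := by
    have h5 := sugA_comb (g ^ (q ^ 2 - 1)) 1 (mu' / (mu' - mu)) (-mu / (mu' - mu)) _ _ hA hA'
    rw [← sugA_decomp mu mu' hne (sugE F n 2) (sugE F n 3), one_smul] at h5
    exact h5
  have hE3 : uact (g ^ (q ^ 2 - 1)) (sugE F n 3) = sugE F n 3 := by
    have h5 := sugA_comb (g ^ (q ^ 2 - 1)) 1 (1 / (mu - mu')) (-1 / (mu - mu')) _ _ hA hA'
    rw [← sugA_decomp3 mu mu' hne (sugE F n 2) (sugE F n 3), one_smul] at h5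
    exact h5
  apply uact_ext
  intro i
  have hi : (Pi.single i (1 : F) : Fin n → F) = sugE F n i.val := (sugE_eq i.val i.isLt).symm
  rw [uact_one, hi]
  rcases Nat.lt_or_ge i.val 4 with h | h
  · have h6 : i.val = 0 ∨ i.val = 1 ∨ i.val = 2 ∨ i.val = 3 := by omega
    rcases h6 with h' | h' | h' | h'
    · rw [h', sug_pow_eig g _ _ h0, hpow xi hxi, one_smul]
    · rw [h', sug_pow_eig g _ _ h1, hpow xi hxi, one_smul]
    · rw [h']
      exact hE2
    · rw [h']
      exact hE3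
  · have h5 : uact g (sugE F n i.val) = (1 : F) • sugE F n i.val := by
      rw [one_smul]
      exact h4 _ h
    rw [sug_pow_eig g _ _ h5, one_pow, one_smul]

end Cfsg.Agent.Helper29
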