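import Mathlib
import Cfsg.Agent.Helper48.PGroupLemmas

set_option autoImplicit false

namespace Cfsg.Agent.Helper29

open Subgroup

section Util

variable {P : Type*} [Group P]

/-- Relative normalizer growth in a finite `p`-group. -/
theorem exists_mem_normalizer_not_mem [Finite P] {p : ℕ} [Fact p.Prime] (hP : IsPGroup p P)
    (A H : Subgroup P) (hAH : A ≤ H) (hne : A ≠ H) :
    ∃ h ∈ H, h ∈ normalizer (A : Set P) ∧ h ∉ A := by
  have hnil : Group.IsNilpotent ↥H := (hP.to_subgroup H).isNilpotent
  have hlt : A.subgroupOf H < ⊤ := by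
    rw [lt_top_iff_ne_top, Ne, subgroupOf_eq_top]
    intro h
    exact hne (le_antisymm hAH h)
  have hnc := Group.normalizerCondition_of_isNilpotent (G := ↥H) (A.subgroupOf H) hlt
  rw [← subgroupOf_normalizer_eq hAH] at hnc
  obtain ⟨x, hx1, hx2⟩ := SetLike.exists_of_lt hnc
  exact ⟨x.1, x.2, hx1, hx2⟩

/-- Nothing lies strictly between a subgroup and an overgroup of prime relative index. -/
theorem eq_of_relIndex_prime {p : ℕ} (hp : p.Prime) (A K N : Subgroup P) (hAK : A ≤ K)
    (hKN : K ≤ N) (hne : ¬ K ≤ A) (hidx : A.relIndex N = p) : N ≤ K := by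
  have h1 := relIndex_mul_relIndex A K N hAK hKN
  rw [hidx] at h1
  have h2 : A.relIndex K ≠ 1 := by
    rw [Ne, relIndex_eq_one]; exact hne
  have h3 : A.relIndex K ∣ p := Dvd.intro _ h1
  rcases (Nat.dvd_prime hp).mp h3 with h | h
  · exact absurd h h2
  · rw [h] at h1
    have h4 : K.relIndex N = 1 := by
      have hp0 := hp.pos
      nlinarith
    exact relIndex_eq_one.mp h4

theorem card_mul_relIndex_of_le (A K : Subgroup P) (h : A ≤ K) :
    Nat.card A * A.relIndex K = Nat.card K := by
  have h1 := Subgroup.card_mul_index (A.subgroupOf K)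
  rw [Nat.card_congr (subgroupOfEquivOfLe h).toEquiv] at h1
  exact h1

/-- If conjugation by `g` maps the finite subgroup `A` into itself, `g` normalizes `A`. -/
theorem mem_normalizer_of_conj_mem [Finite P] (A : Subgroup P) (g : P)
    (h : ∀ a ∈ A, g * a * g⁻¹ ∈ A) : g ∈ normalizer (A : Set P) := by
  rw [mem_normalizer_iff]
  intro a
  refine ⟨h a, fun ha => ?_⟩
  -- the injective map `A → A`, `a ↦ g a g⁻¹` is surjective
  let f : A → A := fun a => ⟨g * a * g⁻¹, h a a.2⟩
  have hf : Function.Injective f := by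
    intro a b hab
    have := congrArg Subtype.val hab
    simp only [f] at this
    exact Subtype.ext (mul_left_cancel (mul_right_cancel this))
  obtain ⟨b, hb⟩ := (Finite.injective_iff_surjective.mp hf) ⟨g * a * g⁻¹, ha⟩
  have hb' : g * (b : P) * g⁻¹ = g * a * g⁻¹ := congrArg Subtype.val hb
  have : (b : P) = a := mul_left_cancel (mul_right_cancel hb')
  rw [← this]; exact b.2

end Util

/-- A *soft* subgroup: abelian, self-centralizing, of index `p` in its normalizer. -/
structure Soft (p : ℕ) {P : Type*} [Group P] (A : Subgroup P) : Prop where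
  comm : ∀ a ∈ A, ∀ b ∈ A, a * b = b * a
  cent : ∀ g : P, (∀ a ∈ A, g * a = a * g) → g ∈ A
  norm : A.relIndex (normalizer (A : Set P)) = p

namespace Soft

variable {P : Type*} [Group P] [Finite P] {p : ℕ} [hp : Fact p.Prime] {A : Subgroup P}

theorem not_normalizer_le (hA : Soft p A) : ¬ normalizer (A : Set P) ≤ A := by
  intro h
  have := relIndex_eq_one.mpr h
  rw [hA.norm] at this
  exact hp.out.one_lt.ne' this

/-- An overgroup of a soft subgroup is the subgroup itself or contains its normalizer. -/
theorem eq_or_normalizer_le (hP : IsPGroup p P) (hA : Soft p A) (H : Subgroup P) (hAH : A ≤ H) :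
    H = A ∨ normalizer (A : Set P) ≤ H := by
  by_cases hne : A = H
  · left; exact hne.symm
  right
  obtain ⟨h, hH, hN, hnA⟩ := exists_mem_normalizer_not_mem hP A H hAH hne
  have := eq_of_relIndex_prime hp.out A (normalizer (A : Set P) ⊓ H) (normalizer (A : Set P))
    (le_inf le_normalizer hAH) inf_le_left (fun hle => hnA (hle ⟨hN, hH⟩)) hA.norm
  exact this.trans inf_le_right

/-- Key property: a conjugate of an element of `A` lying in `A`, by an element outside the
normalizer, is centralized by the normalizer. -/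
theorem comm_of_conj_mem (hP : IsPGroup p P) (hA : Soft p A) (a g : P) (ha : a ∈ A)
    (hb : g * a * g⁻¹ ∈ A) (hg : g ∉ normalizer (A : Set P)) :
    ∀ n ∈ normalizer (A : Set P), n * (g * a * g⁻¹) = (g * a * g⁻¹) * n := by
  set b := g * a * g⁻¹ with hbdef
  -- the conjugate subgroup
  set A' : Subgroup P := A.map (MulAut.conj g).toMonoidHom with hA'
  have hbA' : b ∈ A' := ⟨a, ha, by simp [hbdef]⟩
  have hA'comm : ∀ x ∈ A', ∀ y ∈ A', x * y = y * x := by
    rintro _ ⟨x, hx, rfl⟩ _ ⟨y, hy, rfl⟩
    rw [← map_mul, ← map_mul, hA.comm x hx y hy]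
  -- the centralizer of `b` contains `A` and `A'`
  have h1 : A ≤ centralizer {b} := by
    intro x hx
    rw [mem_centralizer_singleton_iff]
    exact hA.comm x hx b hb
  have h2 : A' ≤ centralizer {b} := by
    intro x hx
    rw [mem_centralizer_singleton_iff]
    exact hA'comm x hx b hbA'
  have hne : A ⊔ A' ≠ A := by
    intro heq
    have hle : A' ≤ A := by rw [← heq]; exact le_sup_right
    apply hg
    apply mem_normalizer_of_conj_mem
    intro x hx
    exact hle ⟨x, hx, by simp⟩
  rcases hA.eq_or_normalizer_le hP (A ⊔ A') le_sup_left with h | h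
  · exact absurd h hne
  · intro n hn
    have := (sup_le h1 h2) (h hn)
    rw [mem_centralizer_singleton_iff] at this
    exact this

/-- The part of `A` centralized by its normalizer. -/
def zOne (A : Subgroup P) : Subgroup P := A ⊓ centralizer (normalizer (A : Set P) : Set P)

theorem p_mul_card_zOne_le (hP : IsPGroup p P) (hA : Soft p A) :
    p * Nat.card (zOne A) ≤ Nat.card A := by
  have hle : zOne A ≤ A := inf_le_left
  have hne : zOne A ≠ A := by
    intro heq
    apply hA.not_normalizer_le
    intro n hn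
    apply hA.cent
    intro a ha
    have : a ∈ zOne A := by rw [heq]; exact ha
    exact mem_centralizer_iff.mp this.2 n hn
  obtain ⟨k, hk⟩ := (hP.to_subgroup A).exists_card_eq
  obtain ⟨j, hj⟩ := (hP.to_subgroup (zOne A)).exists_card_eq
  have hdvd : Nat.card (zOne A) ∣ Nat.card A := card_dvd_of_le hle
  have hlt : j < k := by
    by_contra hcon
    push Not at hcon
    have h1 : Nat.card A ≤ Nat.card (zOne A) := by
      rw [hk, hj]; exact Nat.pow_le_pow_right hp.out.pos hcon
    exact hne (eq_of_le_of_card_ge hle h1)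
  rw [hk, hj, ← pow_succ']
  exact Nat.pow_le_pow_right hp.out.pos hlt

/-- **Counting lemma.** If a subgroup `D` containing the soft subgroup `A` is normalized by an
overgroup `Q` of the normalizer of `A`, then `D` has index at most `p` in `Q`
(here in the form `|Q| (p - 1) < p² |D|`). -/
theorem card_lt (hP : IsPGroup p P) (hA : Soft p A) (D Q : Subgroup P) (hAD : A ≤ D)
    (hnorm : ∀ q ∈ Q, ∀ d ∈ D, q * d * q⁻¹ ∈ D) :
    Nat.card Q * (p - 1) < p ^ 2 * Nat.card D := by
  classical
  have := Fintype.ofFinite P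
  set N₁ := normalizer (A : Set P) with hN₁
  let sQ : Finset P := Finset.univ.filter (· ∈ Q)
  let sA : Finset P := Finset.univ.filter (· ∈ A)
  let sZ : Finset P := Finset.univ.filter (· ∈ zOne A)
  let sT : Finset P := sA \ sZ
  let sN : Finset P := Finset.univ.filter (· ∈ N₁)
  let sD : Finset P := Finset.univ.filter (· ∈ D)
  let sD' : Finset P := sD.erase 1
  let s : Finset (P × P) := sQ ×ˢ sT
  let f : P × P → P := fun x => x.1 * x.2 * x.1⁻¹
  have hcard : ∀ (H : Subgroup P), (Finset.univ.filter (· ∈ H)).card = Nat.card H := by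
    intro H
    rw [Nat.card_eq_fintype_card, Fintype.card_subtype]
  have hsQ : sQ.card = Nat.card Q := hcard Q
  have hsA : sA.card = Nat.card A := hcard A
  have hsZ : sZ.card = Nat.card (zOne A) := hcard (zOne A)
  have hsN : sN.card = Nat.card N₁ := hcard N₁
  have hsD : sD.card = Nat.card D := hcard D
  have hZA : sZ ⊆ sA := by
    intro x hx
    simp only [sZ, sA, Finset.mem_filter, Finset.mem_univ, true_and] at hx ⊢
    exact hx.1
  have hsT : sT.card = Nat.card A - Nat.card (zOne A) := by
    rw [Finset.card_sdiff_of_subset hZA, hsA, hsZ]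
  have hmemT : ∀ a, a ∈ sT ↔ a ∈ A ∧ a ∉ zOne A := by
    intro a
    simp [sT, sA, sZ]
  have hsD' : sD'.card = Nat.card D - 1 := by
    rw [Finset.card_erase_of_mem (by simp [sD, D.one_mem]), hsD]
  -- the image lies in `D ∖ {1}`
  have himg : s.image f ⊆ sD' := by
    intro b hb
    obtain ⟨⟨q, a⟩, hqa, rfl⟩ := Finset.mem_image.mp hb
    rw [Finset.mem_product] at hqa
    have hq : q ∈ Q := by simpa [sQ] using hqa.1
    have ha := (hmemT a).mp hqa.2
    rw [Finset.mem_erase]
    refine ⟨?_, ?_⟩
    · intro h1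
      have h1' : q * a * q⁻¹ = 1 := h1
      have : a = 1 := by
        have h2 : a = q⁻¹ * (q * a * q⁻¹) * q := by group
        rw [h2, h1']; group
      apply ha.2
      rw [this]; exact (zOne A).one_mem
    · simp only [sD, Finset.mem_filter, Finset.mem_univ, true_and]
      exact hnorm q hq a (hAD ha.1)
  -- the fibres have at most `|N₁|` elements
  have hfib : ∀ b ∈ s.image f, (s.filter fun x => f x = b).card ≤ sN.card := by
    intro b hb
    obtain ⟨⟨q₀, a₀⟩, hqa₀, rfl⟩ := Finset.mem_image.mp hb
    rw [Finset.mem_product] at hqa₀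
    have ha₀ := (hmemT a₀).mp hqa₀.2
    apply Finset.card_le_card_of_injOn (fun x => q₀⁻¹ * x.1)
    · intro x hx
      rw [Finset.mem_coe, Finset.mem_filter, Finset.mem_product] at hx
      obtain ⟨⟨-, hxT⟩, hfx⟩ := hx
      have hxa := (hmemT x.2).mp hxT
      have hfx' : x.1 * x.2 * x.1⁻¹ = q₀ * a₀ * q₀⁻¹ := hfx
      have hconj : (q₀⁻¹ * x.1) * x.2 * (q₀⁻¹ * x.1)⁻¹ = a₀ := by
        have : (q₀⁻¹ * x.1) * x.2 * (q₀⁻¹ * x.1)⁻¹ = q₀⁻¹ * (x.1 * x.2 * x.1⁻¹) * q₀ := by group
        rw [this, hfx']; group
      rw [Finset.mem_coe]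
      simp only [sN, Finset.mem_filter, Finset.mem_univ, true_and]
      by_contra hnot
      have hc := hA.comm_of_conj_mem hP x.2 (q₀⁻¹ * x.1) hxa.1 (by rw [hconj]; exact ha₀.1) hnot
      rw [hconj] at hc
      apply ha₀.2
      refine ⟨ha₀.1, ?_⟩
      show a₀ ∈ centralizer (normalizer (A : Set P) : Set P)
      rw [mem_centralizer_iff]
      intro n hn
      exact hc n hn
    · intro x hx y hy hxy
      rw [Finset.mem_coe, Finset.mem_filter] at hx hy
      have h1 : x.1 = y.1 := mul_left_cancel hxy
      have hfx : x.1 * x.2 * x.1⁻¹ = q₀ * a₀ * q₀⁻¹ := hx.2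
      have hfy : y.1 * y.2 * y.1⁻¹ = q₀ * a₀ * q₀⁻¹ := hy.2
      rw [← hfy, h1] at hfx
      have h2 : x.2 = y.2 := mul_left_cancel (mul_right_cancel hfx)
      exact Prod.ext h1 h2
  have h1 := Finset.card_le_mul_card_image s sN.card hfib
  have h2 : (s.image f).card ≤ sD'.card := Finset.card_le_card himg
  have h3 : s.card = Nat.card Q * (Nat.card A - Nat.card (zOne A)) := by
    rw [Finset.card_product, hsQ, hsT]
  have h4 : Nat.card N₁ = Nat.card A * p := by
    rw [← card_mul_relIndex_of_le A N₁ le_normalizer, hA.norm]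
  rw [h3, hsN, h4] at h1
  have h5 : Nat.card Q * (Nat.card A - Nat.card (zOne A)) ≤ Nat.card A * p * (Nat.card D - 1) :=
    h1.trans (Nat.mul_le_mul_left _ (h2.trans_eq hsD'))
  have hz := hA.p_mul_card_zOne_le hP
  have hApos : 0 < Nat.card A := Nat.card_pos
  have hDpos : 0 < Nat.card D := Nat.card_pos
  have hp1 : 1 ≤ p := hp.out.pos
  -- arithmetic
  obtain ⟨T, hT⟩ : ∃ T, Nat.card A = T + Nat.card (zOne A) :=
    ⟨Nat.card A - Nat.card (zOne A), by
      have : Nat.card (zOne A) ≤ Nat.card A := card_le_of_le inf_le_left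
      omega⟩
  obtain ⟨d, hd⟩ : ∃ d, Nat.card D = d + 1 := ⟨Nat.card D - 1, by omega⟩
  obtain ⟨r, hr⟩ : ∃ r, p = r + 1 := ⟨p - 1, by omega⟩
  have hT' : Nat.card A - Nat.card (zOne A) = T := by omega
  rw [hT', hd, Nat.add_sub_cancel] at h5
  rw [hd, hr, Nat.add_sub_cancel]
  rw [hr] at h5 hz
  -- `(r+1) * z ≤ T + z`, so `r * (T + z) ≤ (r+1) * T`
  have h6 : r * (T + Nat.card (zOne A)) ≤ (r + 1) * T := by nlinarith
  have h7 : Nat.card Q * r * (T + Nat.card (zOne A)) ≤ (r + 1) * (Nat.card Q * T) := by
    calc Nat.card Q * r * (T + Nat.card (zOne A)) = Nat.card Q * (r * (T + Nat.card (zOne A))) := by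
          ring
      _ ≤ Nat.card Q * ((r + 1) * T) := Nat.mul_le_mul_left _ h6
      _ = (r + 1) * (Nat.card Q * T) := by ring
  have h8 : (r + 1) * (Nat.card Q * T) ≤ (r + 1) * ((T + Nat.card (zOne A)) * (r + 1) * d) := by
    rw [← hT]
    exact Nat.mul_le_mul_left _ h5
  have h9 : Nat.card Q * r * (T + Nat.card (zOne A)) <
      (r + 1) ^ 2 * (d + 1) * (T + Nat.card (zOne A)) := by
    have hpos : 0 < T + Nat.card (zOne A) := by rw [← hT]; exact hApos
    calc Nat.card Q * r * (T + Nat.card (zOne A))
        ≤ (r + 1) * ((T + Nat.card (zOne A)) * (r + 1) * d) := h7.trans h8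
      _ < (r + 1) ^ 2 * (d + 1) * (T + Nat.card (zOne A)) := by nlinarith
  have hpos : 0 < T + Nat.card (zOne A) := by rw [← hT]; exact hApos
  exact lt_of_mul_lt_mul_right h9 (Nat.zero_le _)

/-- Consequence of the counting lemma: a subgroup `D ⊇ A` normal in `Q ⊇ D` has relative index
dividing `p`. -/
theorem relIndex_dvd (hP : IsPGroup p P) (hA : Soft p A) (D Q : Subgroup P) (hAD : A ≤ D)
    (hDQ : D ≤ Q) (hnorm : ∀ q ∈ Q, ∀ d ∈ D, q * d * q⁻¹ ∈ D) : D.relIndex Q ∣ p := by
  have h1 := hA.card_lt hP D Q hAD hnorm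
  have h2 := card_mul_relIndex_of_le D Q hDQ
  obtain ⟨k, hk⟩ := (hP.to_subgroup Q).exists_card_eq
  have h3 : D.relIndex Q ∣ p ^ k := by rw [← hk, ← h2]; exact dvd_mul_left _ _
  obtain ⟨e, -, he⟩ := (Nat.dvd_prime_pow hp.out).mp h3
  rw [he]
  rw [← h2, he] at h1
  have hDpos : 0 < Nat.card D := Nat.card_pos
  have hp2 : 2 ≤ p := hp.out.two_le
  have he2 : e < 2 := by
    by_contra hcon
    push Not at hcon
    have h4 : p ^ 2 ≤ p ^ e := Nat.pow_le_pow_right hp.out.pos hcon
    have h5 : 1 ≤ p - 1 := by omega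
    have h6 : p ^ 2 * Nat.card D ≤ Nat.card D * p ^ e * (p - 1) := by
      calc p ^ 2 * Nat.card D = Nat.card D * p ^ 2 * 1 := by ring
        _ ≤ Nat.card D * p ^ e * (p - 1) :=
          Nat.mul_le_mul (Nat.mul_le_mul_left _ h4) h5
    omega
  interval_cases e
  · simp
  · simp

/-- The normalizer tower of `A`. -/
def tower (A : Subgroup P) : ℕ → Subgroup P
  | 0 => A
  | i + 1 => normalizer (tower A i : Set P)

theorem tower_zero (A : Subgroup P) : tower A 0 = A := rfl

theorem tower_succ (A : Subgroup P) (i : ℕ) :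
    tower A (i + 1) = normalizer (tower A i : Set P) := rfl

theorem tower_le_succ (A : Subgroup P) (i : ℕ) : tower A i ≤ tower A (i + 1) := le_normalizer

theorem tower_mono (A : Subgroup P) : Monotone (tower A) :=
  monotone_nat_of_le_succ (tower_le_succ A)

theorem le_tower (A : Subgroup P) (i : ℕ) : A ≤ tower A i := tower_mono A (Nat.zero_le i)

/-- Each proper member of the tower has index `p` in the next one. -/
theorem tower_relIndex (hP : IsPGroup p P) (hA : Soft p A) (i : ℕ) (hi : tower A i ≠ ⊤) :
    (tower A i).relIndex (tower A (i + 1)) = p := by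
  have h1 := hA.relIndex_dvd hP (tower A i) (tower A (i + 1)) (le_tower A i) (tower_le_succ A i)
    (by
      intro q hq d hd
      rw [tower_succ, mem_normalizer_iff] at hq
      exact (hq d).mp hd)
  rcases (Nat.dvd_prime hp.out).mp h1 with h | h
  · exfalso
    rw [relIndex_eq_one] at h
    have hnil : Group.IsNilpotent P := hP.isNilpotent
    have hnc := Group.normalizerCondition_of_isNilpotent (G := P) (tower A i)
      (lt_top_iff_ne_top.mpr hi)
    exact absurd (le_antisymm h (tower_le_succ A i)) hnc.ne'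
  · exact h

/-- Every overgroup of `A` lies below a given proper member of the tower or above the next. -/
theorem le_tower_or_tower_le (hP : IsPGroup p P) (hA : Soft p A) :
    ∀ i : ℕ, tower A i ≠ ⊤ → ∀ H : Subgroup P, A ≤ H → H ≤ tower A i ∨ tower A (i + 1) ≤ H := by
  intro i
  induction i with
  | zero =>
    intro _ H hAH
    rcases hA.eq_or_normalizer_le hP H hAH with h | h
    · left; rw [h]; exact le_rfl
    · right; exact h
  | succ i ih =>
    intro hi H hAH
    have hi' : tower A i ≠ ⊤ := by
      intro h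
      apply hi
      rw [tower_succ, h]
      exact eq_top_iff.mpr le_normalizer
    rcases ih hi' H hAH with h | h
    · left; exact h.trans (tower_le_succ A i)
    · by_cases hne : tower A (i + 1) = H
      · left; rw [hne]
      · right
        obtain ⟨x, hxH, hxN, hxn⟩ := exists_mem_normalizer_not_mem hP (tower A (i + 1)) H h hne
        have := eq_of_relIndex_prime hp.out (tower A (i + 1)) (tower A (i + 2) ⊓ H)
          (tower A (i + 2)) (le_inf (tower_le_succ A (i + 1)) h) inf_le_left
          (fun hle => hxn (hle ⟨hxN, hxH⟩)) (hA.tower_relIndex hP (i + 1) hi)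
        exact this.trans inf_le_right

theorem exists_tower_eq_top (hP : IsPGroup p P) (A : Subgroup P) : ∃ i, tower A i = ⊤ := by
  have key : ∀ i, tower A i = ⊤ ∨ i < Nat.card (tower A i) := by
    intro i
    induction i with
    | zero => right; exact Nat.card_pos
    | succ i ih =>
      rcases ih with h | h
      · left
        rw [tower_succ, h]
        exact eq_top_iff.mpr le_normalizer
      · by_cases hi : tower A i = ⊤
        · left
          rw [tower_succ, hi]
          exact eq_top_iff.mpr le_normalizer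
        · right
          have hnil : Group.IsNilpotent P := hP.isNilpotent
          have hnc := Group.normalizerCondition_of_isNilpotent (G := P) (tower A i)
            (lt_top_iff_ne_top.mpr hi)
          have hlt : Nat.card (tower A i) < Nat.card (tower A (i + 1)) := by
            by_contra hcon
            push Not at hcon
            exact hnc.ne (eq_of_le_of_card_ge (tower_le_succ A i) hcon)
          omega
  rcases key (Nat.card P) with h | h
  · exact ⟨_, h⟩
  · exact absurd (card_le_card_group (tower A (Nat.card P))) (by omega)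

/-- The overgroups of a soft subgroup are exactly the members of its normalizer tower. -/
theorem exists_eq_tower (hP : IsPGroup p P) (hA : Soft p A) (H : Subgroup P) (hAH : A ≤ H) :
    ∃ i, H = tower A i := by
  classical
  have hex : ∃ i, H ≤ tower A i := by
    obtain ⟨i, hi⟩ := exists_tower_eq_top hP A
    exact ⟨i, by rw [hi]; exact le_top⟩
  obtain ⟨i, hi, hmin⟩ : ∃ i, H ≤ tower A i ∧ ∀ j < i, ¬ H ≤ tower A j :=
    ⟨Nat.find hex, Nat.find_spec hex, fun j hj => Nat.find_min hex hj⟩
  rcases i with _ | i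
  · exact ⟨0, le_antisymm hi hAH⟩
  · have hni := hmin i (Nat.lt_succ_self i)
    have hne : tower A i ≠ ⊤ := by
      intro h; apply hni; rw [h]; exact le_top
    rcases hA.le_tower_or_tower_le hP i hne H hAH with h | h
    · exact absurd h hni
    · exact ⟨i + 1, le_antisymm hi h⟩

theorem normal_of_index_eq (hP : IsPGroup p P) (M : Subgroup P) (hM : M.index = p) : M.Normal := by
  apply normal_of_index_eq_minFac_card
  obtain ⟨k, hk⟩ := hP.exists_card_eq
  rw [hM, hk]
  have hk0 : k ≠ 0 := by
    rintro rfl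
    rw [pow_zero] at hk
    have h1 := M.index_dvd_card
    rw [hM, hk] at h1
    exact hp.out.one_lt.ne' (Nat.dvd_one.mp h1)
  exact (hp.out.pow_minFac hk0).symm

/-- A normal subgroup containing the soft subgroup `A` contains the index-`p` overgroup of `A`. -/
theorem le_of_normal (hP : IsPGroup p P) (hA : Soft p A) (M L : Subgroup P) (hAM : A ≤ M)
    (hM : M.index = p) (hL : L.Normal) (hAL : A ≤ L) : M ≤ L := by
  have hMn : M.Normal := normal_of_index_eq hP M hM
  have h1 := hA.relIndex_dvd hP (L ⊓ M) ⊤ (le_inf hAL hAM) le_top (by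
    intro q _ d hd
    exact ⟨hL.conj_mem d hd.1 q, hMn.conj_mem d hd.2 q⟩)
  rw [relIndex_top_right] at h1
  have h2 := relIndex_mul_index (inf_le_right : L ⊓ M ≤ M)
  rw [hM] at h2
  have h3 : (L ⊓ M).relIndex M = 1 := by
    rw [← h2] at h1
    have hp0 := hp.out.pos
    have h4 := Nat.le_of_dvd hp0 h1
    have hr : 0 < (L ⊓ M).relIndex M := by
      apply Nat.pos_of_ne_zero
      intro h
      rw [h, zero_mul] at h2
      exact index_ne_zero_of_finite h2.symm
    nlinarith
  exact (relIndex_eq_one.mp h3).trans inf_le_left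

/-- An element all of whose conjugates lie in `A` centralizes the index-`p` overgroup of `A`. -/
theorem comm_of_forall_conj_mem (hP : IsPGroup p P) (hA : Soft p A) (M : Subgroup P)
    (hAM : A ≤ M) (hM : M.index = p) (w : P) (hw : ∀ g : P, g * w * g⁻¹ ∈ A) :
    ∀ x ∈ M, x * w = w * x := by
  let L : Subgroup P := centralizer (Set.range fun g : P => g * w * g⁻¹)
  have hLn : L.Normal := by
    constructor
    intro x hx u
    rw [mem_centralizer_iff] at hx ⊢
    rintro _ ⟨g, rfl⟩
    have h1 := hx ((u⁻¹ * g) * w * (u⁻¹ * g)⁻¹) ⟨u⁻¹ * g, rfl⟩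
    calc g * w * g⁻¹ * (u * x * u⁻¹) = u * ((u⁻¹ * g) * w * (u⁻¹ * g)⁻¹ * x) * u⁻¹ := by group
      _ = u * (x * ((u⁻¹ * g) * w * (u⁻¹ * g)⁻¹)) * u⁻¹ := by rw [h1]
      _ = u * x * u⁻¹ * (g * w * g⁻¹) := by group
  have hAL : A ≤ L := by
    intro a ha
    rw [mem_centralizer_iff]
    rintro _ ⟨g, rfl⟩
    exact hA.comm _ (hw g) a ha
  have hML := hA.le_of_normal hP M L hAM hM hLn hAL
  intro x hx
  have h1 := mem_centralizer_iff.mp (hML hx) (1 * w * 1⁻¹) ⟨1, rfl⟩
  simpa using h1.symm

end Soft

section Quot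

variable {G G' : Type*} [Group G] [Group G']

theorem soft_map_mem_map_iff (f : G →* G') (H : Subgroup G) (hker : f.ker ≤ H) (y : G) :
    f y ∈ H.map f ↔ y ∈ H := by
  constructor
  · rintro ⟨x, hx, hxy⟩
    have h1 : x⁻¹ * y ∈ f.ker := by
      rw [MonoidHom.mem_ker, map_mul, map_inv, hxy, inv_mul_cancel]
    have h2 := H.mul_mem hx (hker h1)
    simpa using h2
  · intro hy; exact ⟨y, hy, rfl⟩

theorem soft_normalizer_map (f : G →* G') (hf : Function.Surjective f) (H : Subgroup G)
    (hker : f.ker ≤ H) :
    normalizer ((H.map f : Subgroup G') : Set G') = (normalizer (H : Set G)).map f := by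
  have h1 := comap_normalizer_eq_of_surjective (H.map f) hf
  rw [comap_map_eq_self hker] at h1
  rw [← h1, map_comap_eq_self_of_surjective hf]

theorem soft_index_map (f : G →* G') (hf : Function.Surjective f) (H : Subgroup G)
    (hker : f.ker ≤ H) : (H.map f).index = H.index := by
  rw [index_map, sup_eq_left.mpr hker, MonoidHom.range_eq_top.mpr hf, index_top, mul_one]

theorem soft_relIndex_map [Finite G] (f : G →* G') (hf : Function.Surjective f)
    (H K : Subgroup G) (hker : f.ker ≤ H) (hHK : H ≤ K) :
    (H.map f).relIndex (K.map f) = H.relIndex K := by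
  have h1 := relIndex_mul_index hHK
  have h2 := relIndex_mul_index (map_mono hHK : H.map f ≤ K.map f)
  rw [soft_index_map f hf H hker, soft_index_map f hf K (hker.trans hHK), ← h1] at h2
  exact Nat.eq_of_mul_eq_mul_right (Nat.pos_of_ne_zero index_ne_zero_of_finite) h2

theorem comm_mod_iff (Z : Subgroup G) [Z.Normal] (x y : G) :
    x * y * x⁻¹ * y⁻¹ ∈ Z ↔
      QuotientGroup.mk' Z x * QuotientGroup.mk' Z y =
        QuotientGroup.mk' Z y * QuotientGroup.mk' Z x := by
  constructor
  · intro h
    have h1 : QuotientGroup.mk' Z (x * y * x⁻¹ * y⁻¹) = 1 := (QuotientGroup.eq_one_iff _).mpr h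
    simp only [map_mul, map_inv] at h1
    calc QuotientGroup.mk' Z x * QuotientGroup.mk' Z y
        = (QuotientGroup.mk' Z x * QuotientGroup.mk' Z y * (QuotientGroup.mk' Z x)⁻¹ *
            (QuotientGroup.mk' Z y)⁻¹) * (QuotientGroup.mk' Z y * QuotientGroup.mk' Z x) := by
          group
      _ = QuotientGroup.mk' Z y * QuotientGroup.mk' Z x := by rw [h1, one_mul]
  · intro h
    apply (QuotientGroup.eq_one_iff _).mp
    show QuotientGroup.mk' Z (x * y * x⁻¹ * y⁻¹) = 1
    simp only [map_mul, map_inv]
    rw [h]; group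

end Quot

universe u

/-- **Héthelyi.** If `A` is a soft subgroup of the finite `p`-group `P` with `|P : A| = p^(m+1)`,
the subgroup `M` of index `p` containing `A` has nilpotency class exactly `m + 1`. -/
theorem Soft.class_eq {p : ℕ} [hp : Fact p.Prime] : ∀ m : ℕ, ∀ (P : Type u) [Group P] [Finite P],
    IsPGroup p P → ∀ (A M : Subgroup P), Soft p A → A ≤ M → M.index = p →
    A.index = p ^ (m + 1) → Group.nilpotencyClass M = m + 1 := by
  intro m
  induction m with
  | zero =>
    intro P _ _ hP A M hA hAM hM hAi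
    have hMA : M ≤ A := by
      have h1 := relIndex_mul_index hAM
      rw [hM, hAi, zero_add, pow_one] at h1
      have h2 : A.relIndex M = 1 := by
        have hp0 := hp.out.pos
        nlinarith
      exact relIndex_eq_one.mp h2
    have hnil : Group.IsNilpotent ↥M := (hP.to_subgroup M).isNilpotent
    have hcomm : IsMulCommutative ↥M :=
      ⟨⟨fun a b => Subtype.ext (hA.comm a (hMA a.2) b (hMA b.2))⟩⟩
    have h1 : Group.nilpotencyClass ↥M ≤ 1 := Group.IsNilpotent.nilpotencyClass_le_one_iff.mpr hcomm
    have h0 : Group.nilpotencyClass ↥M ≠ 0 := by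
      intro h0
      rw [Group.nilpotencyClass_zero_iff_subsingleton] at h0
      -- then `M` is trivial, so is `A`, hence `P`
      have hA1 : ∀ a ∈ A, a = 1 := by
        intro a ha
        have := h0.elim (⟨a, hAM ha⟩ : M) 1
        exact congrArg Subtype.val this
      have hall : ∀ g : P, g ∈ A := by
        intro g
        apply hA.cent
        intro a ha
        rw [hA1 a ha]; simp
      have htop : M = ⊤ := eq_top_iff.mpr (fun g _ => hAM (hall g))
      rw [htop, index_top] at hM
      exact hp.out.one_lt.ne hM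
    omega
  | succ m ih =>
    intro P _ _ hP A M hA hAM hM hAi
    set N₁ := normalizer (A : Set P) with hN₁
    have hMn : M.Normal := Soft.normal_of_index_eq hP M hM
    have hnilM : Group.IsNilpotent ↥M := (hP.to_subgroup M).isNilpotent
    have hp1 : 1 < p := hp.out.one_lt
    have hAneM : A ≠ M := by
      intro h
      rw [h, hM] at hAi
      have : p ^ 1 < p ^ (m + 1 + 1) := Nat.pow_lt_pow_right hp1 (by omega)
      rw [pow_one] at this
      omega
    have hN₁M : N₁ ≤ M := by
      rcases hA.eq_or_normalizer_le hP M hAM with h | h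
      · exact absurd h.symm hAneM
      · exact h
    -- the centre of `M`, inside `P`
    set Z : Subgroup P := M ⊓ centralizer (M : Set P) with hZ
    have hZn : Z.Normal := by rw [hZ]; infer_instance
    have hZA : Z ≤ A := by
      intro z hz
      apply hA.cent
      intro a ha
      exact (mem_centralizer_iff.mp hz.2 a (hAM ha)).symm
    have hπ : Function.Surjective (QuotientGroup.mk' Z) := QuotientGroup.mk'_surjective Z
    have hker : (QuotientGroup.mk' Z).ker = Z := QuotientGroup.ker_mk' Z
    -- `N₁ / Z` is abelian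
    have hab : ∀ x ∈ N₁, ∀ y ∈ N₁, x * y * x⁻¹ * y⁻¹ ∈ Z := by
      by_contra hcon
      push Not at hcon
      obtain ⟨x₀, hx₀, y₀, hy₀, hxy₀⟩ := hcon
      have hS : ∀ g : P, (∀ a ∈ A, g * a * g⁻¹ * a⁻¹ ∈ Z) → g ∈ A := by
        intro g hg
        by_contra hgA
        have hgN : g ∈ N₁ := mem_normalizer_of_conj_mem A g (fun a ha => by
          have := A.mul_mem (hZA (hg a ha)) ha
          simpa using this)
        let B : P → Subgroup P := fun x => (centralizer {QuotientGroup.mk' Z x}).comap
          (QuotientGroup.mk' Z)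
        have hB : ∀ x y, y ∈ B x ↔ x * y * x⁻¹ * y⁻¹ ∈ Z := by
          intro x y
          rw [comm_mod_iff]
          show QuotientGroup.mk' Z y ∈ centralizer {QuotientGroup.mk' Z x} ↔ _
          rw [mem_centralizer_singleton_iff]
          exact eq_comm
        have hself : ∀ x, x ∈ B x := by
          intro x
          rw [hB]
          have : x * x * x⁻¹ * x⁻¹ = 1 := by group
          rw [this]; exact Z.one_mem
        have h1 : N₁ ≤ B g := by
          have := eq_of_relIndex_prime hp.out A (N₁ ⊓ B g) N₁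
            (le_inf le_normalizer (fun a ha => (hB g a).mpr (hg a ha))) inf_le_left
            (fun hle => hgA (hle ⟨hgN, hself g⟩)) hA.norm
          exact this.trans inf_le_right
        have h2 : ∀ a ∈ A, N₁ ≤ B a := by
          intro a ha
          have hgBa : g ∈ B a := by
            rw [hB]
            have h3 := Z.inv_mem (hg a ha)
            have e : (g * a * g⁻¹ * a⁻¹)⁻¹ = a * g * a⁻¹ * g⁻¹ := by group
            rwa [e] at h3
          have := eq_of_relIndex_prime hp.out A (N₁ ⊓ B a) N₁
            (le_inf le_normalizer (fun b hb => (hB a b).mpr (by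
              have : a * b * a⁻¹ * b⁻¹ = 1 := by
                rw [hA.comm a ha b hb]; group
              rw [this]; exact Z.one_mem))) inf_le_left
            (fun hle => hgA (hle ⟨hgN, hgBa⟩)) hA.norm
          exact this.trans inf_le_right
        have h3 : ∀ x ∈ N₁, N₁ ≤ B x := by
          intro x hx
          by_cases hxA : x ∈ A
          · exact h2 x hxA
          · have hAB : A ≤ B x := by
              intro a ha
              rw [hB]
              have h4 := Z.inv_mem ((hB a x).mp (h2 a ha hx))
              have e : (a * x * a⁻¹ * x⁻¹)⁻¹ = x * a * x⁻¹ * a⁻¹ := by group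
              rwa [e] at h4
            have := eq_of_relIndex_prime hp.out A (N₁ ⊓ B x) N₁
              (le_inf le_normalizer hAB) inf_le_left
              (fun hle => hxA (hle ⟨hx, hself x⟩)) hA.norm
            exact this.trans inf_le_right
        exact hxy₀ ((hB x₀ y₀).mp (h3 x₀ hx₀ hy₀))
      have hMZ : M.map (QuotientGroup.mk' Z) ≠ ⊥ := by
        intro h
        have hMle : M ≤ Z := by
          intro x hx
          have h1 : QuotientGroup.mk' Z x ∈ M.map (QuotientGroup.mk' Z) := ⟨x, hx, rfl⟩
          rw [h, mem_bot] at h1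
          exact (QuotientGroup.eq_one_iff x).mp h1
        exact hAneM (le_antisymm hAM (hMle.trans hZA))
      haveI : (M.map (QuotientGroup.mk' Z)).Normal := hMn.map _ hπ
      obtain ⟨w', hwM', hw1, hwc'⟩ := Cfsg.Agent.Helper48.exists_ne_one_mem_center_of_normal
        (hP.to_quotient Z) (M.map (QuotientGroup.mk' Z)) hMZ
      obtain ⟨w, hwM, rfl⟩ := hwM'
      have hwZ : w ∉ Z := fun h => hw1 ((QuotientGroup.eq_one_iff w).mpr h)
      have hwc : ∀ g : P, g * w * g⁻¹ * w⁻¹ ∈ Z := by
        intro g
        rw [comm_mod_iff]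
        exact mem_center_iff.mp hwc' (QuotientGroup.mk' Z g)
      have hwA : w ∈ A := hS w (fun a ha => by
        have h3 := Z.inv_mem (hwc a)
        have e : (a * w * a⁻¹ * w⁻¹)⁻¹ = w * a * w⁻¹ * a⁻¹ := by group
        rwa [e] at h3)
      have hconj : ∀ g : P, g * w * g⁻¹ ∈ A := by
        intro g
        have := A.mul_mem (hZA (hwc g)) hwA
        simpa using this
      have hcomm := hA.comm_of_forall_conj_mem hP M hAM hM w hconj
      exact hwZ ⟨hwM, mem_centralizer_iff.mpr (fun x hx => hcomm x hx)⟩
    -- `N₁ / Z` is soft in `P / Z`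
    have hkerN : (QuotientGroup.mk' Z).ker ≤ N₁ := by
      rw [hker]; exact hZA.trans le_normalizer
    have hN₁top : N₁ ≠ ⊤ := by
      intro h
      rw [h, top_le_iff] at hN₁M
      rw [hN₁M, index_top] at hM
      exact hp1.ne hM
    have hsoft : Soft p (N₁.map (QuotientGroup.mk' Z)) := by
      refine ⟨?_, ?_, ?_⟩
      · rintro _ ⟨x, hx, rfl⟩ _ ⟨y, hy, rfl⟩
        exact (comm_mod_iff Z x y).mp (hab x hx y hy)
      · intro g' hg'
        obtain ⟨g, rfl⟩ := hπ g'
        refine ⟨g, ?_, rfl⟩
        apply mem_normalizer_of_conj_mem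
        intro a ha
        have h1 : g * a * g⁻¹ * a⁻¹ ∈ Z :=
          (comm_mod_iff Z g a).mpr (hg' _ ⟨a, le_normalizer ha, rfl⟩)
        have := A.mul_mem (hZA h1) ha
        simpa using this
      · rw [soft_normalizer_map _ hπ N₁ hkerN,
          soft_relIndex_map _ hπ N₁ (normalizer (N₁ : Set P)) hkerN le_normalizer]
        exact hA.tower_relIndex hP 1 hN₁top
    have hN₁i : N₁.index = p ^ (m + 1) := by
      have h1 := relIndex_mul_index (le_normalizer : A ≤ N₁)
      rw [hA.norm, hAi, pow_succ' p (m + 1)] at h1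
      exact Nat.eq_of_mul_eq_mul_left hp.out.pos h1
    have hcl := ih (P ⧸ Z) (hP.to_quotient Z) (N₁.map (QuotientGroup.mk' Z))
      (M.map (QuotientGroup.mk' Z)) hsoft (map_mono hN₁M)
      (by rw [soft_index_map _ hπ M (hkerN.trans hN₁M), hM])
      (by rw [soft_index_map _ hπ N₁ hkerN, hN₁i])
    -- transfer the class
    have hnt : Nontrivial ↥M := by
      obtain ⟨x, hx⟩ := SetLike.exists_of_lt (lt_of_le_of_ne hAM hAneM)
      refine ⟨⟨⟨x, hx.1⟩, 1, ?_⟩⟩
      intro h
      apply hx.2
      have : x = 1 := congrArg Subtype.val h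
      rw [this]; exact A.one_mem
    let φ : ↥M →* ↥(M.map (QuotientGroup.mk' Z)) := (QuotientGroup.mk' Z).subgroupMap M
    have hφs : Function.Surjective φ := (QuotientGroup.mk' Z).subgroupMap_surjective M
    have hφ : ∀ x : ↥M, φ x = 1 ↔ (x : P) ∈ Z := by
      intro x
      rw [← QuotientGroup.eq_one_iff, Subtype.ext_iff]
      rfl
    have hker1 : φ.ker ≤ center ↥M := by
      intro x hx
      rw [MonoidHom.mem_ker, hφ] at hx
      rw [mem_center_iff]
      intro g
      exact Subtype.ext (mem_centralizer_iff.mp hx.2 g.1 g.2)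
    have hker2 : center ↥M ≤ φ.ker := by
      intro x hx
      rw [MonoidHom.mem_ker, hφ]
      refine ⟨x.2, mem_centralizer_iff.mpr (fun h hh => ?_)⟩
      exact congrArg Subtype.val (mem_center_iff.mp hx ⟨h, hh⟩)
    haveI : Group.IsNilpotent ↥(M.map (QuotientGroup.mk' Z)) :=
      ((hP.to_quotient Z).to_subgroup _).isNilpotent
    have hle : Group.nilpotencyClass ↥M ≤ Group.nilpotencyClass ↥(M.map (QuotientGroup.mk' Z)) + 1 :=
      Group.nilpotencyClass_le_of_ker_le_center φ hker1
    have hge : Group.nilpotencyClass ↥(M.map (QuotientGroup.mk' Z)) ≤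
        Group.nilpotencyClass (↥M ⧸ center ↥M) :=
      Group.nilpotencyClass_le_of_surjective (QuotientGroup.lift (center ↥M) φ hker2)
        (QuotientGroup.lift_surjective_of_surjective (center ↥M) φ hφs hker2)
    have hq : Group.nilpotencyClass (↥M ⧸ center ↥M) = Group.nilpotencyClass ↥M - 1 :=
      Group.nilpotencyClass_quotient_center
    have h0 : Group.nilpotencyClass ↥M ≠ 0 := by
      intro h0
      rw [Group.nilpotencyClass_zero_iff_subsingleton] at h0
      exact not_subsingleton ↥M h0
    omega

end Cfsg.Agent.Helper29
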