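import Mathlib
import Cfsg.Agent.S1140

/-!
# Field-theoretic lemmas for Suzuki 2-groups (Higman)

Additive endomorphisms of a finite field of characteristic 2 expanded in field automorphisms
(`coef`), the conjugation action of `F^×` (`conjF`), and the structure of irreducible
conjugation-stable subgroups (`suzAlg1_min`, `suzAlg1`, `suzAlg1'`), plus `suzAlg2`, `suzAlg3`.
-/

set_option autoImplicit false

open scoped BigOperators

namespace Cfsg.Agent.Helper29

section SuzAlg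
variable {F : Type*} [Field F] [Fintype F] [CharP F 2]

/-- `x ↦ c * σ x` -/
noncomputable def smulAut (c : F) (σ : F ≃+* F) : F →+ F :=
  (AddMonoidHom.mulLeft c).comp (σ : F →+* F).toAddMonoidHom

omit [Fintype F] [CharP F 2] in
@[simp] theorem smulAut_apply (c : F) (σ : F ≃+* F) (x : F) : smulAut c σ x = c * σ x := rfl

/-- `x ↦ a * f (a⁻¹ * x)` -/
noncomputable def conjF (a : F) (f : F →+ F) : F →+ F :=
  (AddMonoidHom.mulLeft a).comp (f.comp (AddMonoidHom.mulLeft a⁻¹))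

omit [Fintype F] [CharP F 2] in
@[simp] theorem conjF_apply (a : F) (f : F →+ F) (x : F) : conjF a f x = a * f (a⁻¹ * x) := rfl

theorem exists_coef (f : F →+ F) : ∃ c : (F ≃+* F) → F, ∀ x, f x = ∑ σ : F ≃+* F, c σ * σ x := by
  classical
  obtain ⟨s, c, h⟩ := (Cfsg.Agent.S1140.result (F := F)).2.1 f
  refine ⟨fun σ => if σ ∈ s then c σ else 0, fun x => ?_⟩
  rw [h x]
  rw [← Finset.sum_subset (Finset.subset_univ s)]
  · apply Finset.sum_congr rfl
    intro σ hσ
    simp only [if_pos hσ]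
  · intro σ _ hσ
    simp only [if_neg hσ, zero_mul]

theorem coef_unique (c c' : (F ≃+* F) → F)
    (h : ∀ x, ∑ σ : F ≃+* F, c σ * σ x = ∑ σ : F ≃+* F, c' σ * σ x) : c = c' := by
  have hli := (Cfsg.Agent.S1140.result (F := F)).1
  have h1 := Fintype.linearIndependent_iff.1 hli (fun σ => c σ - c' σ) (by
    funext x
    simp only [Finset.sum_apply, Pi.smul_apply, smul_eq_mul, Pi.zero_apply]
    have := h x
    simp only [sub_mul, Finset.sum_sub_distrib]
    simpa [sub_eq_zero] using this)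
  funext σ
  exact sub_eq_zero.1 (h1 σ)

/-- coefficient of `σ` in the expansion of `f` -/
noncomputable def coef (f : F →+ F) : (F ≃+* F) → F := Classical.choose (exists_coef f)

theorem coef_spec (f : F →+ F) (x : F) : f x = ∑ σ : F ≃+* F, coef f σ * σ x :=
  Classical.choose_spec (exists_coef f) x

theorem coef_eq_of (f : F →+ F) (c : (F ≃+* F) → F)
    (h : ∀ x, f x = ∑ σ : F ≃+* F, c σ * σ x) : coef f = c :=
  coef_unique _ _ (fun x => by rw [← coef_spec f x, h x])

theorem coef_add (f g : F →+ F) : coef (f + g) = coef f + coef g := by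
  apply coef_eq_of
  intro x
  simp only [AddMonoidHom.add_apply, Pi.add_apply, add_mul, Finset.sum_add_distrib]
  rw [← coef_spec f x, ← coef_spec g x]

theorem coef_zero : coef (0 : F →+ F) = 0 := by
  apply coef_eq_of
  intro x
  simp

theorem coef_neg (f : F →+ F) : coef (-f) = coef f := by
  have : -f = f := by
    ext x
    simp only [AddMonoidHom.neg_apply]
    exact CharTwo.neg_eq _
  rw [this]

theorem coef_sub (f g : F →+ F) : coef (f - g) = coef f + coef g := by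
  rw [sub_eq_add_neg, coef_add, coef_neg]

open Classical in
theorem coef_smulAut (c : F) (σ : F ≃+* F) :
    coef (smulAut c σ) = fun τ => if τ = σ then c else 0 := by
  apply coef_eq_of
  intro x
  rw [Finset.sum_eq_single σ]
  · simp
  · intro τ _ hτ
    simp [hτ]
  · intro h; exact absurd (Finset.mem_univ σ) h

theorem coef_smulAut_self (c : F) (σ : F ≃+* F) : coef (smulAut c σ) σ = c := by
  rw [coef_smulAut]; simp

theorem coef_smulAut_ne (c : F) (σ τ : F ≃+* F) (h : τ ≠ σ) : coef (smulAut c σ) τ = 0 := by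
  rw [coef_smulAut]; simp [h]

theorem coef_conjF (a : F) (f : F →+ F) (σ : F ≃+* F) :
    coef (conjF a f) σ = a * (σ a)⁻¹ * coef f σ := by
  have : coef (conjF a f) = fun σ => a * (σ a)⁻¹ * coef f σ := by
    apply coef_eq_of
    intro x
    rw [conjF_apply, coef_spec f, Finset.mul_sum]
    apply Finset.sum_congr rfl
    intro τ _
    rw [map_mul, map_inv₀]; ring
  rw [this]

theorem eq_zero_of_coef (f : F →+ F) (h : ∀ σ, coef f σ = 0) : f = 0 := by
  ext x
  rw [coef_spec f x]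
  simp [h]

theorem eq_smulAut_of_coef (f : F →+ F) (σ : F ≃+* F) (h : ∀ τ, τ ≠ σ → coef f τ = 0) :
    f = smulAut (coef f σ) σ := by
  ext x
  rw [coef_spec f x, smulAut_apply, Finset.sum_eq_single σ]
  · intro τ _ hτ
    rw [h τ hτ, zero_mul]
  · intro h; exact absurd (Finset.mem_univ σ) h

omit [Fintype F] [CharP F 2] in
theorem suzAlg3 (α β γ : F →+* F) (h : ∀ a, a * α a = β a * γ a) :
    (∀ a, β a = a) ∨ (∀ a, γ a = a) := by
  have hpol : ∀ x, x + α x = β x + γ x := by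
    intro x
    have h1 := h (x + 1)
    have h2 := h x
    simp only [map_add, map_one] at h1
    linear_combination h1 - h2
  have hdich : ∀ x, β x = x ∨ γ x = x := by
    intro x
    have : (β x - x) * (γ x - x) = 0 := by
      linear_combination (-1 : F) * h x + x * hpol x
    rcases mul_eq_zero.1 this with h1 | h1
    · left; exact sub_eq_zero.1 h1
    · right; exact sub_eq_zero.1 h1
  by_contra hcon
  push Not at hcon
  obtain ⟨⟨x₀, hx₀⟩, ⟨y₀, hy₀⟩⟩ := hcon
  have hx₀' : γ x₀ = x₀ := (hdich x₀).resolve_left hx₀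
  have hy₀' : β y₀ = y₀ := (hdich y₀).resolve_right hy₀
  rcases hdich (x₀ + y₀) with h1 | h1
  · rw [map_add, hy₀'] at h1
    exact hx₀ (add_right_cancel h1)
  · rw [map_add, hx₀'] at h1
    exact hy₀ (add_left_cancel h1)

theorem suzAlg2_aux (σ τ : F ≃+* F) (g : F → F) (hg : ∀ v v', g (v + v') = g v + g v')
    (u₀ : F) (hu₀ : u₀ ≠ 0) (hrel : ∀ v, u₀ * σ (g v) = v * τ (g v)) (hne : ∃ v, g v ≠ 0) :
    ∀ c, σ c = τ c * τ c := by
  classical
  obtain ⟨v₀, hv₀⟩ := hne
  have hg0 : g 0 = 0 := by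
    have := hg 0 0
    rw [add_zero] at this
    exact left_eq_add.mp this
  have hsupp : ∀ v v', g v ≠ 0 → g v' = g v → v' = v := by
    intro v v' hv hvv'
    have h1 := hrel v
    have h2 := hrel v'
    rw [hvv'] at h2
    have h3 : v' * τ (g v) = v * τ (g v) := by rw [← h1, ← h2]
    have h4 : τ (g v) ≠ 0 := by
      intro h; exact hv ((map_eq_zero τ).1 h)
    exact mul_right_cancel₀ h4 h3
  have hker : ∀ w, g w = 0 → w = 0 := by
    intro w hw
    have h1 : g (v₀ + w) = g v₀ := by rw [hg, hw, add_zero]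
    have h2 := hsupp v₀ (v₀ + w) hv₀ h1
    exact add_eq_left.mp h2
  have hinj : Function.Injective g := by
    intro v v' hvv'
    have h1 : g (v + v') = 0 := by rw [hg, hvv', CharTwo.add_self_eq_zero]
    have h2 := hker _ h1
    exact CharTwo.add_eq_zero.1 h2
  have hsurj : Function.Surjective g := Finite.injective_iff_surjective.1 hinj
  have hval : ∀ c, g (u₀ * (σ c * (τ c)⁻¹)) = c := by
    intro c
    by_cases hc : c = 0
    · rw [hc, map_zero, zero_mul, mul_zero, hg0]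
    obtain ⟨v, hv⟩ := hsurj c
    have h1 := hrel v
    rw [hv] at h1
    have h4 : τ c ≠ 0 := by
      intro h; exact hc ((map_eq_zero τ).1 h)
    have h2 : v = u₀ * (σ c * (τ c)⁻¹) := by
      field_simp
      exact h1.symm
    rw [← h2, hv]
  -- ρ is a ring hom
  let ρ : F →+* F :=
    { toFun := fun c => σ c * (τ c)⁻¹
      map_one' := by simp
      map_mul' := by intro x y; simp only [map_mul, mul_inv]; ring
      map_zero' := by simp
      map_add' := by
        intro x y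
        have h1 : g (u₀ * (σ (x + y) * (τ (x + y))⁻¹)) =
            g (u₀ * (σ x * (τ x)⁻¹) + u₀ * (σ y * (τ y)⁻¹)) := by
          rw [hval, hg, hval, hval]
        have h2 := hinj h1
        have h3 : u₀ * (σ (x + y) * (τ (x + y))⁻¹) = u₀ * (σ x * (τ x)⁻¹ + σ y * (τ y)⁻¹) := by
          rw [h2]; ring
        exact mul_left_cancel₀ hu₀ h3 }
  have hρ : ∀ c, ρ c = σ c * (τ c)⁻¹ := fun c => rfl
  have hστ : ∀ c, σ c = ρ c * τ c := by
    intro c
    by_cases hc : c = 0
    · rw [hc]; simp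
    have h4 : τ c ≠ 0 := by
      intro h; exact hc ((map_eq_zero τ).1 h)
    rw [hρ]; field_simp
  have hρτ : ∀ x, ρ x = τ x := by
    intro x
    have h1 := hστ (x + 1)
    have h2 := hστ x
    simp only [map_add, map_one] at h1
    have h5 : ρ x + τ x = 0 := by
      linear_combination h2 - h1
    exact CharTwo.add_eq_zero.1 h5
  intro c
  rw [hστ c, hρτ c]

theorem suzAlg2 (σ τ : F ≃+* F) (hσ : σ ≠ RingEquiv.refl F) (hτ : τ ≠ RingEquiv.refl F)
    (B : F → F → F)
    (hB1 : ∀ u u' v, B (u + u') v = B u v + B u' v)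
    (hB2 : ∀ u v v', B u (v + v') = B u v + B u v')
    (hrel : ∀ u v, u * σ (B u v) = v * τ (B u v)) : ∀ u v, B u v = 0 := by
  by_contra hcon
  push Not at hcon
  obtain ⟨u₀, v₀, h0⟩ := hcon
  have h2 : (2 : F) = 0 := CharTwo.two_eq_zero
  have hB0l : ∀ v, B 0 v = 0 := by
    intro v
    have := hB1 0 0 v
    rw [add_zero] at this
    exact left_eq_add.mp this
  have hB0r : ∀ u, B u 0 = 0 := by
    intro u
    have := hB2 u 0 0
    rw [add_zero] at this
    exact left_eq_add.mp this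
  have hu₀ : u₀ ≠ 0 := by
    rintro rfl; exact h0 (hB0l v₀)
  have hv₀ : v₀ ≠ 0 := by
    rintro rfl; exact h0 (hB0r u₀)
  have e1 : ∀ c, σ c = τ c * τ c :=
    suzAlg2_aux σ τ (fun v => B u₀ v) (fun v v' => hB2 u₀ v v') u₀ hu₀ (fun v => hrel u₀ v) ⟨v₀, h0⟩
  have e2 : ∀ c, τ c = σ c * σ c :=
    suzAlg2_aux τ σ (fun u => B u v₀) (fun u u' => hB1 u u' v₀) v₀ hv₀ (fun u => (hrel u v₀).symm)
      ⟨u₀, h0⟩
  have hx4 : ∀ x : F, x ^ 4 = x := by
    intro x
    obtain ⟨y, rfl⟩ := σ.surjective x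
    have := e1 y
    rw [e2 y] at this
    calc (σ y) ^ 4 = σ y * σ y * (σ y * σ y) := by ring
      _ = σ y := this.symm
  have hquad : ∀ x : F, x ≠ 0 → x ≠ 1 → x ^ 2 + x + 1 = 0 := by
    intro x hx0 hx1
    have h1 : x * (x - 1) * (x ^ 2 + x + 1) = 0 := by
      linear_combination hx4 x
    rcases mul_eq_zero.1 h1 with h | h
    · rcases mul_eq_zero.1 h with h | h
      · exact absurd h hx0
      · exact absurd (sub_eq_zero.1 h) hx1
    · exact h
  obtain ⟨c, hc⟩ : ∃ c, σ c ≠ c := by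
    by_contra hh
    push Not at hh
    exact hσ (RingEquiv.ext hh)
  have hc0 : c ≠ 0 := by
    rintro rfl; exact hc (map_zero σ)
  have hc1 : c ≠ 1 := by
    rintro rfl; exact hc (map_one σ)
  have hcq := hquad c hc0 hc1
  have hroots : ∀ x : F, x ≠ 0 → x ≠ 1 → x = c ∨ x = c + 1 := by
    intro x hx0 hx1
    have hxq := hquad x hx0 hx1
    have : (x - c) * (x - (c + 1)) = 0 := by
      linear_combination hxq - hcq + (-x + c ^ 2 + c - c * x) * h2
    rcases mul_eq_zero.1 this with h | h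
    · left; exact sub_eq_zero.1 h
    · right; exact sub_eq_zero.1 h
  have hd0 : σ c ≠ 0 := by
    intro h; exact hc0 ((map_eq_zero σ).1 h)
  have hd1 : σ c ≠ 1 := by
    intro h
    rw [← map_one σ] at h
    exact hc1 (σ.injective h)
  have hd : σ c = c + 1 := (hroots (σ c) hd0 hd1).resolve_left hc
  have hτc : τ c = c := by
    rw [e2 c, hd]
    linear_combination hcq
  apply hτ
  apply RingEquiv.ext
  intro x
  rw [RingEquiv.refl_apply]
  by_cases hx0 : x = 0
  · rw [hx0, map_zero]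
  by_cases hx1 : x = 1
  · rw [hx1, map_one]
  rcases hroots x hx0 hx1 with h | h
  · rw [h, hτc]
  · rw [h, map_add, map_one, hτc]

/-- the character `a ↦ a / τ a` on units -/
noncomputable def chiAut (τ : F ≃+* F) : Fˣ →* Fˣ :=
  (MonoidHom.id Fˣ) * (Units.map (τ : F →* F))⁻¹

omit [Fintype F] [CharP F 2] in
theorem chiAut_val (τ : F ≃+* F) (a : Fˣ) : ((chiAut τ a : Fˣ) : F) = (a : F) * (τ (a : F))⁻¹ := by
  simp [chiAut]

theorem suzAlg1_min (hF : ∃ a : F, a ≠ 0 ∧ a ≠ 1) (M : AddSubgroup (F →+ F))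
    (hconj : ∀ a : F, a ≠ 0 → ∀ f ∈ M, conjF a f ∈ M)
    (hfree : ∀ a : F, a ≠ 0 → ∀ f ∈ M, f ≠ 0 → conjF a f = f → a = 1)
    (hne : M ≠ ⊥)
    (hmin : ∀ M' : AddSubgroup (F →+ F), M' ≤ M →
      (∀ a : F, a ≠ 0 → ∀ f ∈ M', conjF a f ∈ M') → M' = ⊥ ∨ M' = M) :
    ∃ σ : F ≃+* F, σ ≠ RingEquiv.refl F ∧ ∀ f, f ∈ M ↔ ∃ c, f = smulAut c σ := by
  classical
  obtain ⟨⟨f₀, hf₀M⟩, hf₀'⟩ := (AddSubgroup.ne_bot_iff_exists_ne_zero).1 hne
  have hf₀ : f₀ ≠ 0 := fun h => hf₀' (Subtype.ext h)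
  obtain ⟨σ, hσc⟩ : ∃ σ, coef f₀ σ ≠ 0 := by
    by_contra h
    push Not at h
    exact hf₀ (eq_zero_of_coef f₀ h)
  have pack : ∀ (τ : F ≃+* F) (f₁ : F →+ F), f₁ ∈ M → coef f₁ τ ≠ 0 →
      (∀ f ∈ M, coef f τ = 0 → f = 0) ∧ τ ≠ RingEquiv.refl F ∧
      (∀ b : F, b ≠ 0 → ∃ a : F, a ≠ 0 ∧ a * (τ a)⁻¹ = b) := by
    intro τ f₁ hf₁M hf₁c
    have inj : ∀ f ∈ M, coef f τ = 0 → f = 0 := by
      let M' : AddSubgroup (F →+ F) :=
        { carrier := {f | f ∈ M ∧ coef f τ = 0}
          add_mem' := by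
            intro f g hf hg
            refine ⟨M.add_mem hf.1 hg.1, ?_⟩
            rw [coef_add, Pi.add_apply, hf.2, hg.2, add_zero]
          zero_mem' := ⟨M.zero_mem, by rw [coef_zero]; rfl⟩
          neg_mem' := by
            intro f hf
            exact ⟨M.neg_mem hf.1, by rw [coef_neg]; exact hf.2⟩ }
      have hM'le : M' ≤ M := fun f hf => hf.1
      have hM'conj : ∀ a : F, a ≠ 0 → ∀ f ∈ M', conjF a f ∈ M' := by
        intro a ha f hf
        exact ⟨hconj a ha f hf.1, by rw [coef_conjF, hf.2, mul_zero]⟩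
      rcases hmin M' hM'le hM'conj with h | h
      · intro f hf hc
        have : f ∈ M' := ⟨hf, hc⟩
        rw [h] at this
        exact (AddSubgroup.mem_bot).1 this
      · exfalso
        have : f₁ ∈ M' := by rw [h]; exact hf₁M
        exact hf₁c this.2
    have hf₁ : f₁ ≠ 0 := by
      rintro rfl
      rw [coef_zero] at hf₁c
      exact hf₁c rfl
    have χinj : ∀ a : F, a ≠ 0 → a * (τ a)⁻¹ = 1 → a = 1 := by
      intro a ha h1
      have hg : conjF a f₁ - f₁ ∈ M := M.sub_mem (hconj a ha f₁ hf₁M) hf₁M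
      have hgc : coef (conjF a f₁ - f₁) τ = 0 := by
        rw [coef_sub, Pi.add_apply, coef_conjF, h1, one_mul, CharTwo.add_self_eq_zero]
      have := inj _ hg hgc
      exact hfree a ha f₁ hf₁M hf₁ (sub_eq_zero.1 this)
    have hτ : τ ≠ RingEquiv.refl F := by
      rintro rfl
      obtain ⟨a, ha0, ha1⟩ := hF
      exact ha1 (χinj a ha0 (by rw [RingEquiv.refl_apply]; exact mul_inv_cancel₀ ha0))
    have χsurj : ∀ b : F, b ≠ 0 → ∃ a : F, a ≠ 0 ∧ a * (τ a)⁻¹ = b := by
      have hi : Function.Injective (chiAut τ) := by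
        rw [injective_iff_map_eq_one]
        intro a ha
        have h1 := chiAut_val τ a
        rw [ha, Units.val_one] at h1
        exact Units.ext (χinj (a : F) a.ne_zero h1.symm)
      have hs : Function.Surjective (chiAut τ) := Finite.injective_iff_surjective.1 hi
      intro b hb
      obtain ⟨a, ha⟩ := hs (Units.mk0 b hb)
      refine ⟨(a : F), a.ne_zero, ?_⟩
      rw [← chiAut_val, ha, Units.val_mk0]
    exact ⟨inj, hτ, χsurj⟩
  obtain ⟨inj, hσne, χsurj⟩ := pack σ f₀ hf₀M hσc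
  have surj : ∀ c : F, ∃ f ∈ M, coef f σ = c := by
    intro c
    by_cases hc : c = 0
    · exact ⟨0, M.zero_mem, by rw [coef_zero, hc]; rfl⟩
    · obtain ⟨a, ha, hab⟩ := χsurj (c * (coef f₀ σ)⁻¹) (mul_ne_zero hc (inv_ne_zero hσc))
      refine ⟨conjF a f₀, hconj a ha f₀ hf₀M, ?_⟩
      rw [coef_conjF, hab]
      field_simp
  have uniq : ∀ f ∈ M, ∀ f' ∈ M, coef f σ = coef f' σ → f = f' := by
    intro f hf f' hf' h
    have := inj (f - f') (M.sub_mem hf hf') (by
      rw [coef_sub, Pi.add_apply, h, CharTwo.add_self_eq_zero])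
    exact sub_eq_zero.1 this
  refine ⟨σ, hσne, ?_⟩
  have main : ∀ f ∈ M, ∀ τ : F ≃+* F, τ ≠ σ → coef f τ = 0 := by
    by_contra hcon
    push Not at hcon
    obtain ⟨f₁, hf₁M, τ, hτσ, hf₁c⟩ := hcon
    obtain ⟨injτ, hτne, χsurjτ⟩ := pack τ f₁ hf₁M hf₁c
    let g : F → (F →+ F) := fun c => Classical.choose (surj c)
    have hgM : ∀ c, g c ∈ M := fun c => (Classical.choose_spec (surj c)).1
    have hgc : ∀ c, coef (g c) σ = c := fun c => (Classical.choose_spec (surj c)).2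
    let ψ : F → F := fun c => coef (g c) τ
    have hgadd : ∀ c c', g (c + c') = g c + g c' := by
      intro c c'
      apply uniq _ (hgM _) _ (M.add_mem (hgM c) (hgM c'))
      rw [hgc, coef_add, Pi.add_apply, hgc, hgc]
    have hψadd : ∀ c c', ψ (c + c') = ψ c + ψ c' := by
      intro c c'
      simp only [ψ]
      rw [hgadd, coef_add, Pi.add_apply]
    have hgconj : ∀ a : F, a ≠ 0 → ∀ c, g (a * (σ a)⁻¹ * c) = conjF a (g c) := by
      intro a ha c
      apply uniq _ (hgM _) _ (hconj a ha _ (hgM c))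
      rw [hgc, coef_conjF, hgc]
    have hψconj : ∀ a : F, a ≠ 0 → ∀ c, ψ (a * (σ a)⁻¹ * c) = a * (τ a)⁻¹ * ψ c := by
      intro a ha c
      simp only [ψ]
      rw [hgconj a ha, coef_conjF]
    have hψ0 : ψ 0 = 0 := by
      have := hψadd 0 0
      rw [add_zero] at this
      exact left_eq_add.mp this
    have hψker : ∀ c, ψ c = 0 → c = 0 := by
      intro c hc
      have := injτ (g c) (hgM c) hc
      rw [← hgc c, this, coef_zero]; rfl
    have hψ1 : ψ 1 ≠ 0 := fun h => one_ne_zero (hψker 1 h)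
    have hψb : ∀ a : F, a ≠ 0 → ψ (a * (σ a)⁻¹) * (ψ 1)⁻¹ = a * (τ a)⁻¹ := by
      intro a ha
      have := hψconj a ha 1
      rw [mul_one] at this
      rw [this]; field_simp
    let Ψ : F →+* F :=
      { toFun := fun c => ψ c * (ψ 1)⁻¹
        map_one' := mul_inv_cancel₀ hψ1
        map_mul' := by
          intro b c
          by_cases hb : b = 0
          · rw [hb, zero_mul, hψ0, zero_mul, zero_mul]
          obtain ⟨a, ha, hab⟩ := χsurj b hb
          rw [← hab, hψconj a ha c, hψb a ha]; ring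
        map_zero' := by rw [hψ0, zero_mul]
        map_add' := by intro x y; rw [hψadd]; ring }
    have hΨ : ∀ c, Ψ c = ψ c * (ψ 1)⁻¹ := fun c => rfl
    have hrel : ∀ a : F, a * (Ψ.comp (σ : F →+* F)) a = (τ : F →+* F) a * Ψ a := by
      intro a
      by_cases ha : a = 0
      · rw [ha]; simp
      have h1 := hψb a ha
      rw [← hΨ, map_mul, map_inv₀] at h1
      have hσa : Ψ (σ a) ≠ 0 := by
        intro h
        exact ha ((map_eq_zero σ).1 ((map_eq_zero Ψ).1 h))
      have hτa : τ a ≠ 0 := fun h => ha ((map_eq_zero τ).1 h)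
      simp only [RingHom.comp_apply, RingHom.coe_coe]
      field_simp at h1
      linear_combination h1.symm
    rcases suzAlg3 (Ψ.comp (σ : F →+* F)) (τ : F →+* F) Ψ hrel with h | h
    · exact hτne (RingEquiv.ext (fun x => by simpa using h x))
    · apply hτσ
      apply RingEquiv.ext
      intro a
      by_cases ha : a = 0
      · rw [ha, map_zero, map_zero]
      have h1 := hrel a
      simp only [RingHom.comp_apply, RingHom.coe_coe, h] at h1
      have h2 : a * σ a = a * τ a := by rw [h1]; ring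
      exact (mul_left_cancel₀ ha h2).symm
  intro f
  constructor
  · intro hf
    exact ⟨coef f σ, eq_smulAut_of_coef f σ (main f hf)⟩
  · rintro ⟨c, rfl⟩
    obtain ⟨f', hf', hc⟩ := surj c
    have := eq_smulAut_of_coef f' σ (main f' hf')
    rw [hc] at this
    rw [← this]; exact hf'

theorem suzAlg1 (hF : ∃ a : F, a ≠ 0 ∧ a ≠ 1) (M : AddSubgroup (F →+ F))
    (hconj : ∀ a : F, a ≠ 0 → ∀ f ∈ M, conjF a f ∈ M)
    (hfree : ∀ a : F, a ≠ 0 → ∀ f ∈ M, f ≠ 0 → conjF a f = f → a = 1)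
    (hne : M ≠ ⊥) :
    ∃ σ : F ≃+* F, σ ≠ RingEquiv.refl F ∧ ∀ c, smulAut c σ ∈ M := by
  classical
  haveI : Finite (F →+ F) := Finite.of_injective (fun f : F →+ F => (f : F → F)) DFunLike.coe_injective
  let Pr : AddSubgroup (F →+ F) → Prop := fun M' =>
    M' ≤ M ∧ M' ≠ ⊥ ∧ ∀ a : F, a ≠ 0 → ∀ f ∈ M', conjF a f ∈ M'
  have hPr : ∃ M', Pr M' := ⟨M, le_rfl, hne, hconj⟩
  obtain ⟨M₀, hM₀⟩ := exists_minimalFor_of_wellFoundedLT Pr (fun M' => Nat.card M') hPr
  obtain ⟨⟨hle, hne₀, hconj₀⟩, hmin⟩ := hM₀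
  have hmin' : ∀ M' : AddSubgroup (F →+ F), M' ≤ M₀ →
      (∀ a : F, a ≠ 0 → ∀ f ∈ M', conjF a f ∈ M') → M' = ⊥ ∨ M' = M₀ := by
    intro M' hM' hc
    by_cases hb : M' = ⊥
    · left; exact hb
    right
    have h1 : Pr M' := ⟨hM'.trans hle, hb, hc⟩
    have h2 := hmin h1 (Nat.card_le_card_of_injective (AddSubgroup.inclusion hM')
      (AddSubgroup.inclusion_injective hM'))
    exact AddSubgroup.eq_of_le_of_card_ge hM' h2
  obtain ⟨σ, hσ, hM⟩ := suzAlg1_min hF M₀ hconj₀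
    (fun a ha f hf hf0 h => hfree a ha f (hle hf) hf0 h) hne₀ hmin'
  exact ⟨σ, hσ, fun c => hle ((hM _).2 ⟨c, rfl⟩)⟩

theorem suzAlg1' (hF : ∃ a : F, a ≠ 0 ∧ a ≠ 1) (M : AddSubgroup (F →+ F))
    (hconj : ∀ a : F, a ≠ 0 → ∀ f ∈ M, conjF a f ∈ M)
    (hfree : ∀ a : F, a ≠ 0 → ∀ f ∈ M, f ≠ 0 → conjF a f = f → a = 1)
    (σ : F ≃+* F) (hσ : ∀ c, smulAut c σ ∈ M)
    (f₀ : F →+ F) (hf₀ : f₀ ∈ M) (hf₀' : ∀ c, f₀ ≠ smulAut c σ) :
    ∃ τ : F ≃+* F, τ ≠ RingEquiv.refl F ∧ τ ≠ σ ∧ ∀ c, smulAut c τ ∈ M := by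
  classical
  let M' : AddSubgroup (F →+ F) :=
    { carrier := {f | f ∈ M ∧ coef f σ = 0}
      add_mem' := by
        intro f g hf hg
        refine ⟨M.add_mem hf.1 hg.1, ?_⟩
        rw [coef_add, Pi.add_apply, hf.2, hg.2, add_zero]
      zero_mem' := ⟨M.zero_mem, by rw [coef_zero]; rfl⟩
      neg_mem' := by
        intro f hf
        exact ⟨M.neg_mem hf.1, by rw [coef_neg]; exact hf.2⟩ }
  have hM'le : M' ≤ M := fun f hf => hf.1
  have hM'conj : ∀ a : F, a ≠ 0 → ∀ f ∈ M', conjF a f ∈ M' := by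
    intro a ha f hf
    exact ⟨hconj a ha f hf.1, by rw [coef_conjF, hf.2, mul_zero]⟩
  have hM'ne : M' ≠ ⊥ := by
    intro h
    have h1 : f₀ - smulAut (coef f₀ σ) σ ∈ M' := by
      refine ⟨M.sub_mem hf₀ (hσ _), ?_⟩
      rw [coef_sub, Pi.add_apply, coef_smulAut_self, CharTwo.add_self_eq_zero]
    rw [h] at h1
    exact hf₀' _ (sub_eq_zero.1 ((AddSubgroup.mem_bot).1 h1))
  obtain ⟨τ, hτ, hτM⟩ := suzAlg1 hF M' hM'conj
    (fun a ha f hf hf0 h => hfree a ha f (hM'le hf) hf0 h) hM'ne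
  refine ⟨τ, hτ, ?_, fun c => hM'le (hτM c)⟩
  rintro rfl
  have := (hτM 1).2
  rw [coef_smulAut_self] at this
  exact one_ne_zero this

end SuzAlg
end Cfsg.Agent.Helper29
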