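import Mathlib

/-!
# A counting lemma for Suzuki 2-groups (Higman)

If `G` is a finite 2-group with a central elementary abelian subgroup `Z` containing all squares
and all involutions, and every non-identity element of `Z` has the same number of square roots,
then `|G| ∈ {|Z|, |Z|^2, |Z|^3}`.
-/

set_option autoImplicit false

namespace Cfsg.Agent.Helper29

open scoped BigOperators

theorem suzCount_oddpow (U V s t : ℕ) (hU : Odd U) (hV : Odd V) (h : U * 2 ^ s = V * 2 ^ t) :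
    U = V := by
  wlog hst : s ≤ t generalizing U V s t
  · exact (this V U t s hV hU h.symm (by omega)).symm
  obtain ⟨e, rfl⟩ := Nat.exists_eq_add_of_le hst
  rw [pow_add, ← mul_assoc] at h
  have h2 : U = V * 2 ^ e := by
    have h3 : U * 2 ^ s = (V * 2 ^ e) * 2 ^ s := by rw [h]; ring
    exact Nat.eq_of_mul_eq_mul_right (by positivity) h3
  rcases Nat.eq_zero_or_pos e with he | he
  · rw [he] at h2; simpa using h2
  · exfalso
    have : Even U := by
      rw [h2]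
      exact Even.mul_left (Nat.even_pow.mpr ⟨even_two, by omega⟩) _
    exact (Nat.not_even_iff_odd.mpr hU) this

theorem suzCount_arith (n a b r : ℕ) (hn : 1 ≤ n)
    (hG : 2 ^ a = 2 ^ n + (2 ^ n - 1) * r)
    (hS : ((2 : ℤ) ^ n - r) ^ 2 = 0 ∨ ((2 : ℤ) ^ n - r) ^ 2 = 2 ^ a * 2 ^ b) :
    a = n ∨ a = 2 * n ∨ a = 3 * n := by
  have hq1 : 1 ≤ 2 ^ n := Nat.one_le_two_pow
  have hGz : (2 : ℤ) ^ a = 2 ^ n + (2 ^ n - 1) * r := by
    have := congrArg (Nat.cast : ℕ → ℤ) hG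
    push_cast [Nat.cast_sub hq1] at this
    exact this
  have hoddq : Odd (2 ^ n - 1) := by
    have : Even (2 ^ n) := Nat.even_pow.mpr ⟨even_two, by omega⟩
    exact Nat.Even.sub_odd hq1 this odd_one
  rcases hS with hS | hS
  · right; left
    have hr : (r : ℤ) = 2 ^ n := by
      have := pow_eq_zero_iff (two_ne_zero) |>.mp hS
      linarith
    rw [hr] at hGz
    have h2 : (2 : ℤ) ^ a = 2 ^ (2 * n) := by rw [hGz]; ring
    have h3 : (2 : ℕ) ^ a = 2 ^ (2 * n) := by exact_mod_cast h2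
    exact Nat.pow_right_injective (le_refl 2) h3
  · -- (q-1)^2 * 2^(a+b) = (2^a - q^2)^2
    have key : ((2 : ℤ) ^ n - 1) ^ 2 * (2 ^ a * 2 ^ b) = ((2 : ℤ) ^ a - 2 ^ (2 * n)) ^ 2 := by
      rw [← hS, hGz]; ring
    rcases lt_trichotomy a (2 * n) with hlt | heq | hgt
    · left
      obtain ⟨d, hd⟩ := Nat.exists_eq_add_of_lt hlt
      -- 2n = a + d + 1
      have e1 : (2 : ℤ) ^ (2 * n) = 2 ^ a * 2 ^ (d + 1) := by rw [hd, ← pow_add]; congr 1
      have hodd2 : Odd (2 ^ (d + 1) - 1) := by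
        have : Even (2 ^ (d + 1)) := Nat.even_pow.mpr ⟨even_two, by omega⟩
        exact Nat.Even.sub_odd Nat.one_le_two_pow this odd_one
      have key2 : (2 ^ n - 1) ^ 2 * 2 ^ (a + b) = (2 ^ (d + 1) - 1) ^ 2 * 2 ^ (2 * a) := by
        have hd1 : 1 ≤ 2 ^ (d + 1) := Nat.one_le_two_pow
        have : (((2 ^ n - 1) ^ 2 * 2 ^ (a + b) : ℕ) : ℤ) = (((2 ^ (d + 1) - 1) ^ 2 * 2 ^ (2 * a) : ℕ) : ℤ) := by
          push_cast [Nat.cast_sub hq1, Nat.cast_sub hd1]
          rw [pow_add, key, e1]; ring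
        exact_mod_cast this
      have h4 := suzCount_oddpow _ _ _ _ (hoddq.pow) (hodd2.pow) key2
      have h5 : 2 ^ n - 1 = 2 ^ (d + 1) - 1 := by
        exact Nat.pow_left_injective (by norm_num : 2 ≠ 0) h4
      have h6 : 2 ^ n = 2 ^ (d + 1) := by
        have hd1 : 1 ≤ 2 ^ (d + 1) := Nat.one_le_two_pow
        omega
      have h7 := Nat.pow_right_injective (le_refl 2) h6
      omega
    · right; left; exact heq
    · right; right
      obtain ⟨d, hd⟩ := Nat.exists_eq_add_of_lt hgt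
      have e1 : (2 : ℤ) ^ a = 2 ^ (2 * n) * 2 ^ (d + 1) := by rw [hd, ← pow_add]; congr 1
      have hodd2 : Odd (2 ^ (d + 1) - 1) := by
        have : Even (2 ^ (d + 1)) := Nat.even_pow.mpr ⟨even_two, by omega⟩
        exact Nat.Even.sub_odd Nat.one_le_two_pow this odd_one
      have key2 : (2 ^ n - 1) ^ 2 * 2 ^ (a + b) = (2 ^ (d + 1) - 1) ^ 2 * 2 ^ (4 * n) := by
        have hd1 : 1 ≤ 2 ^ (d + 1) := Nat.one_le_two_pow
        have : (((2 ^ n - 1) ^ 2 * 2 ^ (a + b) : ℕ) : ℤ) = (((2 ^ (d + 1) - 1) ^ 2 * 2 ^ (4 * n) : ℕ) : ℤ) := by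
          push_cast [Nat.cast_sub hq1, Nat.cast_sub hd1]
          rw [pow_add, key, e1]
          have : (2 : ℤ) ^ (4 * n) = (2 ^ (2 * n)) ^ 2 := by rw [← pow_mul]; congr 1; ring
          rw [this]; ring
        exact_mod_cast this
      have h4 := suzCount_oddpow _ _ _ _ (hoddq.pow) (hodd2.pow) key2
      have h5 : 2 ^ n - 1 = 2 ^ (d + 1) - 1 := by
        exact Nat.pow_left_injective (by norm_num : 2 ≠ 0) h4
      have h6 : 2 ^ n = 2 ^ (d + 1) := by
        have hd1 : 1 ≤ 2 ^ (d + 1) := Nat.one_le_two_pow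
        omega
      have h7 := Nat.pow_right_injective (le_refl 2) h6
      omega

theorem suzCount_sq {G : Type*} [Group G] [Fintype G] (Z : Subgroup G)
    (hZc : ∀ z ∈ Z, ∀ g : G, g * z = z * g)
    (hsq : ∀ g : G, g * g ∈ Z) (hZ2 : ∀ z ∈ Z, z * z = 1)
    (ε : G → ℤ) (hε1 : ∀ g, ε g = 1 ∨ ε g = -1)
    (hεm : ∀ z ∈ Z, ∀ z' ∈ Z, ε (z * z') = ε z * ε z') :
    ∃ R : Subgroup G, (∑ g : G, ε (g * g)) ^ 2 = 0 ∨
      (∑ g : G, ε (g * g)) ^ 2 = (Fintype.card G : ℤ) * (Nat.card R : ℤ) := by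
  classical
  have hεone : ε 1 = 1 := by
    have h := hεm 1 Z.one_mem 1 Z.one_mem
    rw [mul_one] at h
    rcases hε1 1 with h1 | h1
    · exact h1
    · rw [h1] at h; norm_num at h
  have hκ : ∀ x w : G, x * w * x⁻¹ * w⁻¹ ∈ Z := by
    intro x w
    have hc := hZc (x⁻¹ * x⁻¹) (hsq x⁻¹) w
    have e : x * w * x⁻¹ * w⁻¹ = (x * w) * (x * w) * (x⁻¹ * x⁻¹) * (w⁻¹ * w⁻¹) := by
      calc x * w * x⁻¹ * w⁻¹ = x * w * x * ((x⁻¹ * x⁻¹) * w) * (w⁻¹ * w⁻¹) := by group
        _ = x * w * x * (w * (x⁻¹ * x⁻¹)) * (w⁻¹ * w⁻¹) := by rw [hc]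
        _ = (x * w) * (x * w) * (x⁻¹ * x⁻¹) * (w⁻¹ * w⁻¹) := by group
    rw [e]
    exact Z.mul_mem (Z.mul_mem (hsq (x * w)) (hsq x⁻¹)) (hsq w⁻¹)
  have hinvZ : ∀ z ∈ Z, z⁻¹ = z := by
    intro z hz
    have := hZ2 z hz
    exact inv_eq_of_mul_eq_one_left this
  -- key identity
  have hkey : ∀ x w : G, ε (x * x) * ε ((x⁻¹ * w) * (x⁻¹ * w)) = ε (x * w * x⁻¹ * w⁻¹) * ε (w * w) := by
    intro x w
    rw [← hεm _ (hsq x) _ (hsq _), ← hεm _ (hκ x w) _ (hsq w)]
    congr 1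
    group
  have hκmul : ∀ x₀ x w : G, (x₀ * x) * w * (x₀ * x)⁻¹ * w⁻¹ =
      (x * w * x⁻¹ * w⁻¹) * (x₀ * w * x₀⁻¹ * w⁻¹) := by
    intro x₀ x w
    have hc := hZc _ (hκ x w) x₀
    calc (x₀ * x) * w * (x₀ * x)⁻¹ * w⁻¹ = (x₀ * (x * w * x⁻¹ * w⁻¹)) * (w * x₀⁻¹ * w⁻¹) := by group
      _ = ((x * w * x⁻¹ * w⁻¹) * x₀) * (w * x₀⁻¹ * w⁻¹) := by rw [hc]
      _ = _ := by group
  let R : Subgroup G :=
    { carrier := {w | ∀ x : G, ε (x * w * x⁻¹ * w⁻¹) = 1}
      one_mem' := by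
        intro x
        have : x * 1 * x⁻¹ * (1 : G)⁻¹ = 1 := by group
        rw [this]; exact hεone
      mul_mem' := by
        intro w w' hw hw' x
        have hc := hZc _ (hκ x w') w
        have e : x * (w * w') * x⁻¹ * (w * w')⁻¹ = (x * w * x⁻¹ * w⁻¹) * (x * w' * x⁻¹ * w'⁻¹) := by
          calc x * (w * w') * x⁻¹ * (w * w')⁻¹
              = (x * w * x⁻¹ * w⁻¹) * (w * (x * w' * x⁻¹ * w'⁻¹)) * w⁻¹ := by group
            _ = (x * w * x⁻¹ * w⁻¹) * ((x * w' * x⁻¹ * w'⁻¹) * w) * w⁻¹ := by rw [hc]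
            _ = _ := by group
        rw [e, hεm _ (hκ x w) _ (hκ x w'), hw x, hw' x]; norm_num
      inv_mem' := by
        intro w hw x
        have hz := hκ x w
        have hc := hZc _ hz w⁻¹
        have e : x * w⁻¹ * x⁻¹ * w⁻¹⁻¹ = x * w * x⁻¹ * w⁻¹ := by
          calc x * w⁻¹ * x⁻¹ * w⁻¹⁻¹ = w⁻¹ * (x * w * x⁻¹ * w⁻¹)⁻¹ * w := by group
            _ = w⁻¹ * (x * w * x⁻¹ * w⁻¹) * w := by rw [hinvZ _ hz]
            _ = (x * w * x⁻¹ * w⁻¹) * w⁻¹ * w := by rw [hc]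
            _ = _ := by group
        rw [e]; exact hw x }
  refine ⟨R, ?_⟩
  have hmemR : ∀ w, w ∈ R ↔ ∀ x : G, ε (x * w * x⁻¹ * w⁻¹) = 1 := fun w => Iff.rfl
  -- inner sums
  have hinner : ∀ w : G, ∑ x : G, ε (x * w * x⁻¹ * w⁻¹) = if w ∈ R then (Fintype.card G : ℤ) else 0 := by
    intro w
    split_ifs with hw
    · rw [Finset.sum_congr rfl (fun x _ => (hmemR w).1 hw x)]
      simp
    · rw [hmemR] at hw
      push Not at hw
      obtain ⟨x₀, hx₀⟩ := hw
      have hx₀' : ε (x₀ * w * x₀⁻¹ * w⁻¹) = -1 := by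
        rcases hε1 (x₀ * w * x₀⁻¹ * w⁻¹) with h | h
        · exact absurd h hx₀
        · exact h
      have h1 : ∑ x : G, ε (x * w * x⁻¹ * w⁻¹) = ∑ x : G, ε ((x₀ * x) * w * (x₀ * x)⁻¹ * w⁻¹) :=
        (Equiv.sum_comp (Equiv.mulLeft x₀) (fun x => ε (x * w * x⁻¹ * w⁻¹))).symm
      have h2 : ∑ x : G, ε ((x₀ * x) * w * (x₀ * x)⁻¹ * w⁻¹) = - ∑ x : G, ε (x * w * x⁻¹ * w⁻¹) := by
        rw [← Finset.sum_neg_distrib]
        apply Finset.sum_congr rfl
        intro x _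
        rw [hκmul, hεm _ (hκ x w) _ (hκ x₀ w), hx₀']; ring
      linarith
  have hS2 : (∑ g : G, ε (g * g)) ^ 2 =
      (Fintype.card G : ℤ) * ∑ w : R, ε ((w : G) * (w : G)) := by
    have e1 : (∑ g : G, ε (g * g)) ^ 2 = ∑ x : G, ∑ w : G, ε (x * w * x⁻¹ * w⁻¹) * ε (w * w) := by
      rw [sq, Finset.sum_mul_sum]
      apply Finset.sum_congr rfl
      intro x _
      rw [← Equiv.sum_comp (Equiv.mulLeft x⁻¹) (fun y => ε (x * x) * ε (y * y))]
      apply Finset.sum_congr rfl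
      intro w _
      exact hkey x w
    rw [e1, Finset.sum_comm]
    have e2 : ∀ w : G, ∑ x : G, ε (x * w * x⁻¹ * w⁻¹) * ε (w * w) =
        (Fintype.card G : ℤ) * (if w ∈ R then ε (w * w) else 0) := by
      intro w
      rw [← Finset.sum_mul, hinner w]
      split_ifs <;> ring
    rw [Finset.sum_congr rfl (fun w _ => e2 w), ← Finset.mul_sum]
    congr 1
    rw [← Finset.sum_filter]
    exact (Finset.sum_subtype (Finset.univ.filter (fun w => w ∈ R)) (by simp) (fun w => ε (w * w)))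
  by_cases hall : ∀ w : R, ε ((w : G) * (w : G)) = 1
  · right
    rw [hS2, Finset.sum_congr rfl (fun w _ => hall w)]
    simp [Nat.card_eq_fintype_card]
  · left
    push Not at hall
    obtain ⟨w₀, hw₀⟩ := hall
    have hw₀' : ε ((w₀ : G) * (w₀ : G)) = -1 := by
      rcases hε1 ((w₀ : G) * (w₀ : G)) with h | h
      · exact absurd h hw₀
      · exact h
    have h1 : ∑ w : R, ε ((w : G) * (w : G)) = ∑ w : R, ε (((w₀ * w : R) : G) * ((w₀ * w : R) : G)) :=
      (Equiv.sum_comp (Equiv.mulLeft w₀) (fun w : R => ε ((w : G) * (w : G)))).symm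
    have h2 : ∑ w : R, ε (((w₀ * w : R) : G) * ((w₀ * w : R) : G)) = - ∑ w : R, ε ((w : G) * (w : G)) := by
      rw [← Finset.sum_neg_distrib]
      apply Finset.sum_congr rfl
      intro w _
      have hwR := (hmemR (w : G)).1 w.2 (w₀ : G)⁻¹
      have e : ((w₀ * w : R) : G) * ((w₀ * w : R) : G) =
          ((w₀ : G) * (w₀ : G)) * ((w₀ : G)⁻¹ * (w : G) * (w₀ : G)⁻¹⁻¹ * (w : G)⁻¹) * ((w : G) * (w : G)) := by
        rw [Subgroup.coe_mul]; group
      rw [e, hεm _ (Z.mul_mem (hsq _) (hκ _ _)) _ (hsq _), hεm _ (hsq _) _ (hκ _ _), hw₀', hwR]; ring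
    have h3 : ∑ w : R, ε ((w : G) * (w : G)) = 0 := by linarith
    rw [hS2, h3]; simp

theorem suzCount {G : Type*} [Group G] [Finite G] (hG : IsPGroup 2 G) (Z : Subgroup G)
    (hZc : ∀ z ∈ Z, ∀ g : G, g * z = z * g)
    (hsq : ∀ g : G, g * g ∈ Z) (hinv : ∀ g : G, g * g = 1 → g ∈ Z) (hZ2 : ∀ z ∈ Z, z * z = 1)
    (hZnt : Z ≠ ⊥)
    (r : ℕ) (hconst : ∀ z ∈ Z, z ≠ 1 → Nat.card {g : G // g * g = z} = r) :
    Nat.card G = Nat.card Z ∨ Nat.card G = Nat.card Z ^ 2 ∨ Nat.card G = Nat.card Z ^ 3 := by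
  classical
  haveI : Fintype G := Fintype.ofFinite G
  haveI : Fact (Nat.Prime 2) := ⟨Nat.prime_two⟩
  obtain ⟨n, hn⟩ := (hG.to_subgroup Z).exists_card_eq
  obtain ⟨a, ha⟩ := hG.exists_card_eq
  have hn1 : 1 ≤ n := by
    rcases Nat.eq_zero_or_pos n with h | h
    · exfalso
      rw [h, pow_zero] at hn
      exact hZnt (Subgroup.card_eq_one.mp hn)
    · exact h
  -- index two subgroup
  have hdvd : 2 ^ (n - 1) ∣ Nat.card Z := by
    rw [hn]; exact pow_dvd_pow 2 (by omega)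
  obtain ⟨H', hH'⟩ := Sylow.exists_subgroup_card_pow_prime 2 hdvd
  have hidx : H'.index = 2 := by
    have h1 := H'.card_mul_index
    rw [hH', hn] at h1
    have h2 : (2 : ℕ) ^ n = 2 ^ (n - 1) * 2 := by
      rw [← pow_succ]; congr 1; omega
    rw [h2] at h1
    exact Nat.eq_of_mul_eq_mul_left (by positivity) h1
  let ε : G → ℤ := fun g => if h : g ∈ Z then (if (⟨g, h⟩ : Z) ∈ H' then 1 else -1) else 1
  have hε1 : ∀ g, ε g = 1 ∨ ε g = -1 := by
    intro g
    simp only [ε]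
    split_ifs <;> simp
  have hεZ : ∀ z : Z, ε (z : G) = if z ∈ H' then 1 else -1 := by
    intro z
    simp only [ε, dif_pos z.2]
  have hεm : ∀ z ∈ Z, ∀ z' ∈ Z, ε (z * z') = ε z * ε z' := by
    intro z hz z' hz'
    have h1 := hεZ ⟨z, hz⟩
    have h2 := hεZ ⟨z', hz'⟩
    have h3 := hεZ (⟨z, hz⟩ * ⟨z', hz'⟩)
    have h4 := Subgroup.mul_mem_iff_of_index_two hidx (a := (⟨z, hz⟩ : Z)) (b := ⟨z', hz'⟩)
    simp only [Subgroup.coe_mul] at h3
    simp only at h1 h2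
    rw [h1, h2, h3]
    simp only [h4]
    by_cases ha : (⟨z, hz⟩ : Z) ∈ H' <;> by_cases hb : (⟨z', hz'⟩ : Z) ∈ H' <;>
      simp [ha, hb]
  have hεsum : ∑ z : Z, ε (z : G) = 0 := by
    rw [Finset.sum_congr rfl (fun z _ => hεZ z), Finset.sum_ite]
    simp only [Finset.sum_const, nsmul_eq_mul, mul_one, mul_neg]
    have hc1 : (Finset.univ.filter (fun z : Z => z ∈ H')).card = 2 ^ (n - 1) := by
      rw [← hH', Nat.card_eq_fintype_card, Fintype.card_subtype]
    have hc2 := Finset.card_filter_add_card_filter_not (s := (Finset.univ : Finset Z))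
      (fun z : Z => z ∈ H')
    rw [hc1, Finset.card_univ, ← Nat.card_eq_fintype_card, hn] at hc2
    have h2 : (2 : ℕ) ^ n = 2 ^ (n - 1) * 2 := by
      rw [← pow_succ]; congr 1; omega
    have hc3 : (Finset.univ.filter (fun z : Z => ¬ z ∈ H')).card = 2 ^ (n - 1) := by omega
    rw [hc1, hc3]; simp
  -- fibers
  let φ : G → Z := fun g => ⟨g * g, hsq g⟩
  let c : Z → ℕ := fun z => (Finset.univ.filter (fun g : G => φ g = z)).card
  have hc1 : c 1 = 2 ^ n := by
    simp only [c]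
    rw [← hn, Nat.card_eq_fintype_card, Fintype.card_subtype]
    congr 1
    ext g
    simp only [Finset.mem_filter, Finset.mem_univ, true_and, φ]
    constructor
    · intro h
      have := congrArg Subtype.val h
      exact hinv g this
    · intro h
      exact Subtype.ext (hZ2 g h)
  have hcr : ∀ z : Z, z ≠ 1 → c z = r := by
    intro z hz
    have hz1 : (z : G) ≠ 1 := fun h => hz (Subtype.ext h)
    rw [← hconst z z.2 hz1]
    simp only [c]
    rw [Nat.card_eq_fintype_card, Fintype.card_subtype]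
    congr 1
    ext g
    simp only [Finset.mem_filter, Finset.mem_univ, true_and, φ]
    exact Subtype.ext_iff
  have hcardZ : (Finset.univ : Finset Z).card = 2 ^ n := by
    rw [Finset.card_univ, ← Nat.card_eq_fintype_card, hn]
  have hS : ∑ g : G, ε (g * g) = (2 : ℤ) ^ n - r := by
    have e1 : ∑ g : G, ε (g * g) = ∑ z : Z, (c z : ℤ) * ε (z : G) := by
      rw [← Finset.sum_fiberwise (Finset.univ : Finset G) φ (fun g => ε (g * g))]
      apply Finset.sum_congr rfl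
      intro z _
      have : ∀ g ∈ Finset.univ.filter (fun g : G => φ g = z), ε (g * g) = ε (z : G) := by
        intro g hg
        rw [Finset.mem_filter] at hg
        rw [← hg.2]
      rw [Finset.sum_congr rfl this, Finset.sum_const, nsmul_eq_mul]
    rw [e1, ← Finset.add_sum_erase Finset.univ _ (Finset.mem_univ (1 : Z))]
    have e2 : ∑ z ∈ (Finset.univ : Finset Z).erase 1, (c z : ℤ) * ε (z : G) =
        (r : ℤ) * ∑ z ∈ (Finset.univ : Finset Z).erase 1, ε (z : G) := by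
      rw [Finset.mul_sum]
      apply Finset.sum_congr rfl
      intro z hz
      rw [hcr z (Finset.ne_of_mem_erase hz)]
    have e3 : ∑ z ∈ (Finset.univ : Finset Z).erase 1, ε (z : G) = -1 := by
      have := Finset.add_sum_erase Finset.univ (fun z : Z => ε (z : G)) (Finset.mem_univ (1 : Z))
      rw [hεsum] at this
      have h1 : ε ((1 : Z) : G) = 1 := by
        rw [hεZ]; simp [H'.one_mem]
      rw [h1] at this
      linarith
    have h1 : ε ((1 : Z) : G) = 1 := by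
      rw [hεZ]; simp [H'.one_mem]
    rw [e2, e3, hc1, h1]; push_cast; ring
  have hGc : 2 ^ a = 2 ^ n + (2 ^ n - 1) * r := by
    have e1 : Fintype.card G = ∑ z : Z, c z := by
      rw [← Finset.card_univ]
      exact Finset.card_eq_sum_card_fiberwise (f := φ) (fun x _ => Finset.mem_univ _)
    rw [← ha, Nat.card_eq_fintype_card, e1,
      ← Finset.add_sum_erase Finset.univ _ (Finset.mem_univ (1 : Z)), hc1]
    congr 1
    rw [Finset.sum_congr rfl (fun z hz => hcr z (Finset.ne_of_mem_erase hz)), Finset.sum_const,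
      Finset.card_erase_of_mem (Finset.mem_univ _), hcardZ, smul_eq_mul]
  obtain ⟨R, hR⟩ := suzCount_sq Z hZc hsq hZ2 ε hε1 hεm
  obtain ⟨b, hb⟩ := (hG.to_subgroup R).exists_card_eq
  have hR' : ((2 : ℤ) ^ n - r) ^ 2 = 0 ∨ ((2 : ℤ) ^ n - r) ^ 2 = 2 ^ a * 2 ^ b := by
    rw [hS] at hR
    rcases hR with h | h
    · left; exact h
    · right
      rw [h, hb, ← Nat.card_eq_fintype_card, ha]; push_cast; ring
  rcases suzCount_arith n a b r hn1 hGc hR' with h | h | h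
  · left; rw [ha, hn, h]
  · right; left; rw [ha, hn, h, pow_mul']
  · right; right; rw [ha, hn, h, pow_mul']

end Cfsg.Agent.Helper29
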