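import Mathlib

/-!
# Field coordinates for Suzuki 2-groups

A regular abelian group of automorphisms of an elementary abelian 2-group `Z` makes `Z` the
additive group of a finite field (`exists_suzCoord`).
-/


set_option autoImplicit false

namespace Cfsg.Agent.Helper29

universe u

/-- Coordinates on a central elementary abelian subgroup `Z` on which an abelian group `K` of
automorphisms acts regularly: `Z` is the additive group of a field `F`, and `K` acts through
multiplication by the nonzero elements of `F`. -/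
structure SuzCoord (P : Type*) [Group P] (Z : Subgroup P) (K : Subgroup (MulAut P))
    (F : Type*) [Field F] where
  e : F → P
  e_mem : ∀ a, e a ∈ Z
  e_add : ∀ a b, e (a + b) = e a * e b
  e_inj : Function.Injective e
  e_surj : ∀ z ∈ Z, ∃ a, e a = z
  u : K → F
  u_ne : ∀ k, u k ≠ 0
  u_surj : ∀ a : F, a ≠ 0 → ∃ k, u k = a
  e_act : ∀ (k : K) (a : F), (k : MulAut P) (e a) = e (u k * a)

theorem exists_suzCoord {P : Type u} [Group P] [Finite P] (Z : Subgroup P)
    (K : Subgroup (MulAut P))
    (hKc : ∀ a b : K, a * b = b * a)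
    (hZcomm : ∀ z ∈ Z, ∀ z' ∈ Z, z * z' = z' * z)
    (hZ2 : ∀ z ∈ Z, z * z = 1)
    (hKZ : ∀ k : K, ∀ z ∈ Z, (k : MulAut P) z ∈ Z)
    (z₀ : P) (hz₀ : z₀ ∈ Z) (hz₀1 : z₀ ≠ 1)
    (htr : ∀ z ∈ Z, z ≠ 1 → ∃ k : K, (k : MulAut P) z₀ = z) :
    ∃ (F : Type u) (_ : Field F) (_ : Fintype F) (_ : CharP F 2),
      Nonempty (SuzCoord P Z K F) := by
  classical
  letI : CommGroup ↥Z :=
    { (inferInstance : Group ↥Z) with
      mul_comm := fun a b => Subtype.ext (hZcomm a a.2 b b.2) }
  let resZ : K → (↥Z →* ↥Z) := fun k =>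
    { toFun := fun z => ⟨(k : MulAut P) z, hKZ k z z.2⟩
      map_one' := Subtype.ext (by simp)
      map_mul' := fun a b => Subtype.ext (by simp) }
  let rk : K → AddMonoid.End (Additive ↥Z) := fun k => MonoidHom.toAdditive (resZ k)
  have hrk : ∀ (k : K) (z : ↥Z), rk k (Additive.ofMul z) = Additive.ofMul (resZ k z) := fun k z => rfl
  have hresZ : ∀ (k : K) (z : ↥Z), ((resZ k z : ↥Z) : P) = (k : MulAut P) z := fun k z => rfl
  have hrk_mul : ∀ k k' : K, rk k * rk k' = rk (k * k') := by
    intro k k'
    exact DFunLike.ext _ _ (fun x => rfl)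
  have hrk_one : rk 1 = 1 := DFunLike.ext _ _ (fun x => rfl)
  have hrk_comm : ∀ k k' : K, rk k * rk k' = rk k' * rk k := by
    intro k k'
    rw [hrk_mul, hrk_mul, hKc]
  let a₀ : Additive ↥Z := Additive.ofMul ⟨z₀, hz₀⟩
  have ha₀ : a₀ ≠ 0 := by
    intro h
    have : (⟨z₀, hz₀⟩ : ↥Z) = 1 := h
    exact hz₀1 (congrArg Subtype.val this)
  have hcover : ∀ x : Additive ↥Z, x = 0 ∨ ∃ k : K, x = rk k a₀ := by
    intro x
    by_cases hx : x = 0
    · left; exact hx
    right
    have hx1 : ((Additive.toMul x : ↥Z) : P) ≠ 1 := by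
      intro h
      apply hx
      have : (Additive.toMul x : ↥Z) = 1 := Subtype.ext h
      exact this
    obtain ⟨k, hk⟩ := htr _ (Additive.toMul x).2 hx1
    refine ⟨k, ?_⟩
    have : (Additive.toMul x : ↥Z) = resZ k ⟨z₀, hz₀⟩ := Subtype.ext hk.symm
    exact congrArg Additive.ofMul this
  have hrk_ne : ∀ (k : K) (x : Additive ↥Z), x ≠ 0 → rk k x ≠ 0 := by
    intro k x hx h
    apply hx
    have h1 : rk k⁻¹ (rk k x) = x := by
      have := hrk_mul k⁻¹ k
      rw [inv_mul_cancel, hrk_one] at this
      have h2 := congrArg (fun f : AddMonoid.End (Additive ↥Z) => f x) this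
      exact h2
    rw [h, map_zero] at h1
    exact h1.symm
  have hdouble : ∀ x : Additive ↥Z, x + x = 0 := by
    intro x
    have : (Additive.toMul x : ↥Z) * (Additive.toMul x : ↥Z) = 1 :=
      Subtype.ext (hZ2 _ (Additive.toMul x).2)
    exact this
  -- an endomorphism commuting with all `rk k` is determined by its value at `a₀`
  have hdet : ∀ f g : AddMonoid.End (Additive ↥Z), (∀ k, f * rk k = rk k * f) →
      (∀ k, g * rk k = rk k * g) → f a₀ = g a₀ → f = g := by
    intro f g hf hg h
    refine DFunLike.ext _ _ (fun x => ?_)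
    rcases hcover x with hx | ⟨k, hx⟩
    · rw [hx, map_zero, map_zero]
    · rw [hx]
      have h1 : f (rk k a₀) = rk k (f a₀) :=
        congrArg (fun φ : AddMonoid.End (Additive ↥Z) => φ a₀) (hf k)
      have h2 : g (rk k a₀) = rk k (g a₀) :=
        congrArg (fun φ : AddMonoid.End (Additive ↥Z) => φ a₀) (hg k)
      rw [h1, h2, h]
  have hadd : ∀ k k' : K, rk k + rk k' = 0 ∨ ∃ k'' : K, rk k + rk k' = rk k'' := by
    intro k k'
    have hc : ∀ k₁, (rk k + rk k') * rk k₁ = rk k₁ * (rk k + rk k') := by
      intro k₁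
      rw [add_mul, mul_add, hrk_comm k k₁, hrk_comm k' k₁]
    rcases hcover ((rk k + rk k') a₀) with hw | ⟨k₂, hw⟩
    · left
      apply hdet _ _ hc (fun k₁ => by rw [zero_mul, mul_zero])
      rw [hw]; rfl
    · right
      exact ⟨k₂, hdet _ _ hc (fun k₁ => hrk_comm k₂ k₁) hw⟩
  let S : Subring (AddMonoid.End (Additive ↥Z)) :=
    { carrier := {f | f = 0 ∨ ∃ k : K, f = rk k}
      mul_mem' := by
        rintro f g (rfl | ⟨k, rfl⟩) (rfl | ⟨k', rfl⟩)
        · left; rw [mul_zero]
        · left; rw [zero_mul]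
        · left; rw [mul_zero]
        · right; exact ⟨k * k', hrk_mul k k'⟩
      one_mem' := Or.inr ⟨1, hrk_one.symm⟩
      add_mem' := by
        rintro f g (rfl | ⟨k, rfl⟩) (rfl | ⟨k', rfl⟩)
        · left; rw [add_zero]
        · right; exact ⟨k', by rw [zero_add]⟩
        · right; exact ⟨k, by rw [add_zero]⟩
        · rcases hadd k k' with h | ⟨k'', h⟩
          · left; exact h
          · right; exact ⟨k'', h⟩
      zero_mem' := Or.inl rfl
      neg_mem' := by
        intro f hf
        have : -f = f := by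
          refine DFunLike.ext _ _ (fun x => ?_)
          have := hdouble (f x)
          exact neg_eq_of_add_eq_zero_left this
        rw [this]; exact hf }
  have hS : ∀ f : S, (f : AddMonoid.End (Additive ↥Z)) = 0 ∨ ∃ k : K, (f : AddMonoid.End (Additive ↥Z)) = rk k :=
    fun f => f.2
  let uu : K → S := fun k => ⟨rk k, Or.inr ⟨k, rfl⟩⟩
  have huu_ne : ∀ k, uu k ≠ 0 := by
    intro k h
    have h1 : rk k = 0 := congrArg Subtype.val h
    have h2 := hrk_ne k a₀ ha₀
    rw [h1] at h2
    exact h2 rfl
  have hfld : IsField S :=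
    { exists_pair_ne := ⟨0, 1, by
        intro h
        have h1 : (0 : AddMonoid.End (Additive ↥Z)) = 1 := congrArg Subtype.val h
        have h2 := congrArg (fun φ : AddMonoid.End (Additive ↥Z) => φ a₀) h1
        exact ha₀ h2.symm⟩
      mul_comm := by
        intro f g
        apply Subtype.ext
        rw [Subring.coe_mul, Subring.coe_mul]
        rcases hS f with h | ⟨k, h⟩ <;> rcases hS g with h' | ⟨k', h'⟩
        · rw [h, h']
        · rw [h, zero_mul, mul_zero]
        · rw [h', zero_mul, mul_zero]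
        · rw [h, h', hrk_comm]
      mul_inv_cancel := by
        intro f hf
        rcases hS f with h | ⟨k, h⟩
        · exact absurd (Subtype.ext h) hf
        · refine ⟨uu k⁻¹, Subtype.ext ?_⟩
          rw [Subring.coe_mul, h]
          show rk k * rk k⁻¹ = 1
          rw [hrk_mul, mul_inv_cancel, hrk_one] }
  letI instF : Field S := hfld.toField
  haveI : Finite (AddMonoid.End (Additive ↥Z)) :=
    Finite.of_injective (fun f : AddMonoid.End (Additive ↥Z) => (f : Additive ↥Z → Additive ↥Z))
      DFunLike.coe_injective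
  letI instFin : Fintype S := Fintype.ofFinite S
  have h2 : (2 : S) = 0 := by
    apply Subtype.ext
    refine DFunLike.ext _ _ (fun x => ?_)
    have : ((2 : S) : AddMonoid.End (Additive ↥Z)) = 1 + 1 := by
      rw [← one_add_one_eq_two]; rfl
    rw [this]
    exact hdouble x
  haveI instChar : CharP S 2 := CharTwo.of_one_ne_zero_of_two_eq_zero one_ne_zero h2
  refine ⟨S, instF, instFin, instChar, ⟨?_⟩⟩
  exact
    { e := fun f => ((Additive.toMul ((f : AddMonoid.End (Additive ↥Z)) a₀) : ↥Z) : P)
      e_mem := fun f => (Additive.toMul ((f : AddMonoid.End (Additive ↥Z)) a₀)).2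
      e_add := by
        intro f g
        rfl
      e_inj := by
        intro f g h
        apply Subtype.ext
        have hfc : ∀ f : S, ∀ k, (f : AddMonoid.End (Additive ↥Z)) * rk k = rk k * f := by
          intro f k
          rcases hS f with h | ⟨k', h⟩
          · rw [h, zero_mul, mul_zero]
          · rw [h, hrk_comm]
        apply hdet _ _ (hfc f) (hfc g)
        have h1 : (Additive.toMul ((f : AddMonoid.End (Additive ↥Z)) a₀) : ↥Z) =
            Additive.toMul ((g : AddMonoid.End (Additive ↥Z)) a₀) := Subtype.ext h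
        exact h1
      e_surj := by
        intro z hz
        by_cases hz1 : z = 1
        · exact ⟨0, by rw [hz1]; rfl⟩
        · obtain ⟨k, hk⟩ := htr z hz hz1
          exact ⟨uu k, hk⟩
      u := uu
      u_ne := huu_ne
      u_surj := by
        intro f hf
        rcases hS f with h | ⟨k, h⟩
        · exact absurd (Subtype.ext h) hf
        · exact ⟨k, Subtype.ext h.symm⟩
      e_act := by
        intro k f
        rfl }

namespace SuzCoord

variable {P : Type*} [Group P] {Z : Subgroup P} {K : Subgroup (MulAut P)} {F : Type*} [Field F]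
  (co : SuzCoord P Z K F)

theorem e_zero : co.e 0 = 1 := by
  have := co.e_add 0 0
  rw [add_zero] at this
  exact left_eq_mul.mp this

theorem u_one : co.u 1 = 1 := by
  have h := co.e_act 1 1
  simp only [OneMemClass.coe_one, MulAut.one_apply, mul_one] at h
  exact (co.e_inj h).symm

theorem u_mul (k k' : K) : co.u (k * k') = co.u k * co.u k' := by
  have h := co.e_act (k * k') 1
  have h1 := co.e_act k' 1
  have h2 := co.e_act k (co.u k' * 1)
  simp only [Subgroup.coe_mul, MulAut.mul_apply, mul_one] at h h1 h2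
  rw [h1, h2] at h
  exact (co.e_inj h).symm

open Classical in
/-- inverse of `e` (junk outside `Z`) -/
noncomputable def lg (z : P) : F := if h : ∃ a, co.e a = z then Classical.choose h else 0

theorem e_lg {z : P} (hz : z ∈ Z) : co.e (co.lg z) = z := by
  have h := co.e_surj z hz
  simp only [lg, dif_pos h]
  exact Classical.choose_spec h

theorem lg_e (a : F) : co.lg (co.e a) = a :=
  co.e_inj (co.e_lg (co.e_mem a))

theorem lg_one : co.lg 1 = 0 := by
  rw [← co.e_zero, co.lg_e]

theorem lg_mul {z z' : P} (hz : z ∈ Z) (hz' : z' ∈ Z) : co.lg (z * z') = co.lg z + co.lg z' := by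
  apply co.e_inj
  rw [co.e_lg (Z.mul_mem hz hz'), co.e_add, co.e_lg hz, co.e_lg hz']

theorem lg_eq_zero {z : P} (hz : z ∈ Z) : co.lg z = 0 ↔ z = 1 := by
  constructor
  · intro h
    rw [← co.e_lg hz, h, co.e_zero]
  · rintro rfl
    exact co.lg_one

theorem lg_act (k : K) {z : P} (hz : z ∈ Z) : co.lg ((k : MulAut P) z) = co.u k * co.lg z := by
  apply co.e_inj
  rw [← co.e_act, co.e_lg hz]
  have : (k : MulAut P) z ∈ Z := by
    rw [← co.e_lg hz, co.e_act]; exact co.e_mem _
  rw [co.e_lg this]

include co in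
theorem act_mem (k : K) {z : P} (hz : z ∈ Z) : (k : MulAut P) z ∈ Z := by
  rw [← co.e_lg hz, co.e_act]; exact co.e_mem _

theorem lg_inj {z z' : P} (hz : z ∈ Z) (hz' : z' ∈ Z) (h : co.lg z = co.lg z') : z = z' := by
  rw [← co.e_lg hz, ← co.e_lg hz', h]

end SuzCoord

end Cfsg.Agent.Helper29
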