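import Mathlib
import Cfsg.Prelude.Def_LieRecognition
import Cfsg.Agent.Helper29.SuzCount
import Cfsg.Agent.Helper29.SuzAlg
import Cfsg.Agent.Helper29.SuzField
import Cfsg.Agent.Helper50.Suzuki
import Cfsg.Agent.Helper48.PGroupLemmas

set_option autoImplicit false

namespace Cfsg.Agent.Helper29

open Subgroup

universe u

/-- Hypotheses of Higman's theorem in a convenient form: `K` is an abelian group of automorphisms
acting regularly on the involutions, and the centre consists of the involutions and `1`. -/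
structure SuzHyp (P : Type*) [Group P] (K : Subgroup (MulAut P)) : Prop where
  pgrp : IsPGroup 2 P
  kcomm : ∀ a b : K, a * b = b * a
  cent : ∀ z : P, z ∈ Subgroup.center P ↔ z * z = 1
  trans : ∀ x y : P, x ≠ 1 → x * x = 1 → y ≠ 1 → y * y = 1 → ∃ k : K, (k : MulAut P) x = y
  free : ∀ k : K, k ≠ 1 → ∀ x : P, (k : MulAut P) x = x → x = 1
  two : ∃ x y : P, x ≠ y ∧ x ≠ 1 ∧ x * x = 1 ∧ y ≠ 1 ∧ y * y = 1
  na : ∃ x y : P, x * y ≠ y * x
  gen : ∃ ξ : MulAut P, ξ ∈ K ∧ Cfsg.Agent.Helper50.SuzTrans P ξ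

theorem suzHyp_of_isSuzukiTwoGroup {P : Type u} [Group P] (hP : Cfsg.IsSuzukiTwoGroup P) :
    Finite P ∧ ∃ K : Subgroup (MulAut P), SuzHyp P K := by
  obtain ⟨hfin, hp, hna, htwo, K, hcyc, hreg⟩ := hP
  haveI := hfin
  refine ⟨hfin, K, ?_⟩
  obtain ⟨g, hg⟩ := hcyc.exists_generator
  have htr : Cfsg.Agent.Helper50.SuzTrans P (g : MulAut P) := by
    intro x y hx1 hx2 hy1 hy2
    obtain ⟨k, hk, -⟩ := hreg x y hx1 hx2 hy1 hy2
    have hkg : k ∈ Submonoid.powers g := (mem_powers_iff_mem_zpowers).2 (hg k)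
    obtain ⟨j, rfl⟩ := hkg
    exact ⟨j, by simpa using hk⟩
  refine ⟨hp, ?_, Cfsg.Agent.Helper50.suz_center hp hna htwo _ htr, ?_, ?_, htwo, hna,
    ⟨(g : MulAut P), g.2, htr⟩⟩
  · intro a b
    obtain ⟨i, rfl⟩ := Subgroup.mem_zpowers_iff.1 (hg a)
    obtain ⟨j, rfl⟩ := Subgroup.mem_zpowers_iff.1 (hg b)
    rw [← zpow_add, ← zpow_add, add_comm]
  · intro x y hx1 hx2 hy1 hy2
    exact (hreg x y hx1 hx2 hy1 hy2).exists
  · intro k hk x hx
    by_contra hx1
    obtain ⟨m, hm1, hm2⟩ := Cfsg.Agent.Helper50.exists_pow_invol hp hx1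
    have h1 : (k : MulAut P) (x ^ m) = x ^ m := by rw [map_pow, hx]
    obtain ⟨k₀, -, huniq⟩ := hreg (x ^ m) (x ^ m) hm1 hm2 hm1 hm2
    have e1 := huniq k h1
    have e2 := huniq 1 (by simp)
    exact hk (e1.trans e2.symm)

section general

variable {P : Type*} [Group P]

/-- Preimage of `Ω₁(Z(P/Z(P)))`. -/
def suzT (P : Type*) [Group P] : Subgroup P where
  carrier := {x | x * x ∈ center P ∧ ∀ g : P, x⁻¹ * g⁻¹ * x * g ∈ center P}
  one_mem' := by
    refine ⟨by simp, fun g => ?_⟩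
    have : (1 : P)⁻¹ * g⁻¹ * 1 * g = 1 := by group
    rw [this]; exact Subgroup.one_mem _
  mul_mem' := by
    rintro x y ⟨hx2, hxc⟩ ⟨hy2, hyc⟩
    refine ⟨?_, fun g => ?_⟩
    · have e : x * y * (x * y) = (x * x) * (x⁻¹ * (y⁻¹)⁻¹ * x * y⁻¹) * (y * y) := by group
      rw [e]
      exact Subgroup.mul_mem _ (Subgroup.mul_mem _ hx2 (hxc y⁻¹)) hy2
    · have hc := Subgroup.mem_center_iff.1 (hxc g) y⁻¹
      have e : (x * y)⁻¹ * g⁻¹ * (x * y) * g = (x⁻¹ * g⁻¹ * x * g) * (y⁻¹ * g⁻¹ * y * g) := by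
        calc (x * y)⁻¹ * g⁻¹ * (x * y) * g = (y⁻¹ * (x⁻¹ * g⁻¹ * x * g)) * (g⁻¹ * y * g) := by group
          _ = ((x⁻¹ * g⁻¹ * x * g) * y⁻¹) * (g⁻¹ * y * g) := by rw [hc]
          _ = _ := by group
      rw [e]
      exact Subgroup.mul_mem _ (hxc g) (hyc g)
  inv_mem' := by
    rintro x ⟨hx2, hxc⟩
    refine ⟨?_, fun g => ?_⟩
    · have e : x⁻¹ * x⁻¹ = (x * x)⁻¹ := by group
      rw [e]; exact Subgroup.inv_mem _ hx2
    · have hc := Subgroup.mem_center_iff.1 (Subgroup.inv_mem _ (hxc g)) x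
      have e : x⁻¹⁻¹ * g⁻¹ * x⁻¹ * g = (x⁻¹ * g⁻¹ * x * g)⁻¹ := by
        calc x⁻¹⁻¹ * g⁻¹ * x⁻¹ * g = (x * (x⁻¹ * g⁻¹ * x * g)⁻¹) * x⁻¹ := by group
          _ = ((x⁻¹ * g⁻¹ * x * g)⁻¹ * x) * x⁻¹ := by rw [hc]
          _ = _ := by group
      rw [e]; exact Subgroup.inv_mem _ (hxc g)

theorem mem_suzT {x : P} :
    x ∈ suzT P ↔ x * x ∈ center P ∧ ∀ g : P, x⁻¹ * g⁻¹ * x * g ∈ center P := Iff.rfl

theorem center_le_suzT : center P ≤ suzT P := by
  intro z hz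
  refine ⟨Subgroup.mul_mem _ hz hz, fun g => ?_⟩
  have hc := Subgroup.mem_center_iff.1 hz g⁻¹
  have e : z⁻¹ * g⁻¹ * z * g = 1 := by
    calc z⁻¹ * g⁻¹ * z * g = z⁻¹ * (g⁻¹ * z) * g := by group
      _ = z⁻¹ * (z * g⁻¹) * g := by rw [hc]
      _ = 1 := by group
  rw [e]; exact Subgroup.one_mem _

instance suzT_normal : (suzT P).Normal := by
  constructor
  intro x hx g
  have e : g * x * g⁻¹ = x * (x⁻¹ * (g⁻¹)⁻¹ * x * g⁻¹) := by group
  rw [e]
  exact Subgroup.mul_mem _ hx (center_le_suzT (hx.2 g⁻¹))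

theorem suzT_act (k : MulAut P) {x : P} (hx : x ∈ suzT P) : k x ∈ suzT P := by
  refine ⟨?_, fun g => ?_⟩
  · rw [← map_mul]; exact Cfsg.Agent.Helper50.mulAut_mem_center k hx.1
  · have e : (k x)⁻¹ * g⁻¹ * k x * g = k (x⁻¹ * (k⁻¹ g)⁻¹ * x * (k⁻¹ g)) := by
      simp [map_mul, map_inv]
    rw [e]; exact Cfsg.Agent.Helper50.mulAut_mem_center k (hx.2 _)

theorem suzT_sq_comm (hZ2 : ∀ z ∈ center P, z * z = 1) {x : P} (hx : x ∈ suzT P) (g : P) :
    x * (g * g) = (g * g) * x := by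
  have hc := hx.2 g
  have hcc := Subgroup.mem_center_iff.1 hc g
  have e : x * g = g * x * (x⁻¹ * g⁻¹ * x * g) := by group
  calc x * (g * g) = (x * g) * g := by group
    _ = g * x * (x⁻¹ * g⁻¹ * x * g) * g := by rw [e]
    _ = g * x * (g * (x⁻¹ * g⁻¹ * x * g)) := by rw [hcc]; group
    _ = g * (x * g) * (x⁻¹ * g⁻¹ * x * g) := by group
    _ = g * (g * x * (x⁻¹ * g⁻¹ * x * g)) * (x⁻¹ * g⁻¹ * x * g) := by rw [← e]
    _ = g * g * x * ((x⁻¹ * g⁻¹ * x * g) * (x⁻¹ * g⁻¹ * x * g)) := by group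
    _ = g * g * x := by rw [hZ2 _ hc, mul_one]

theorem exists_pow_not_mem_sq_mem [Finite P] (hP : IsPGroup 2 P) (H : Subgroup P) (y : P)
    (hy : y ∉ H) : ∃ m : ℕ, y ^ m ∉ H ∧ y ^ m * y ^ m ∈ H := by
  classical
  obtain ⟨n, hn⟩ := hP y
  have hex : ∃ j : ℕ, y ^ (2 ^ j) ∈ H := ⟨n, by rw [hn]; exact H.one_mem⟩
  have hj0 : Nat.find hex ≠ 0 := by
    intro h
    have := Nat.find_spec hex
    rw [h, pow_zero, pow_one] at this
    exact hy this
  obtain ⟨j, hj⟩ := Nat.exists_eq_succ_of_ne_zero hj0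
  refine ⟨2 ^ j, ?_, ?_⟩
  · exact Nat.find_min hex (by omega)
  · have := Nat.find_spec hex
    rw [hj, pow_succ, pow_mul, pow_two] at this
    exact this

/-- second centre -/
def suzZ2 (P : Type*) [Group P] : Subgroup P :=
  (center (P ⧸ center P)).comap (QuotientGroup.mk' (center P))

theorem mem_suzZ2 {x : P} : x ∈ suzZ2 P ↔ ∀ g : P, x⁻¹ * g⁻¹ * x * g ∈ center P := by
  rw [suzZ2, Subgroup.mem_comap, Subgroup.mem_center_iff]
  constructor
  · intro h g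
    have := h (QuotientGroup.mk' (center P) g)
    rw [← map_mul, ← map_mul, QuotientGroup.mk'_apply, QuotientGroup.mk'_apply,
      QuotientGroup.eq] at this
    have e : x⁻¹ * g⁻¹ * x * g = (g * x)⁻¹ * (x * g) := by group
    rw [e]; exact this
  · intro h g'
    obtain ⟨g, rfl⟩ := QuotientGroup.mk'_surjective (center P) g'
    rw [← map_mul, ← map_mul, QuotientGroup.mk'_apply, QuotientGroup.mk'_apply,
      QuotientGroup.eq]
    have e : (g * x)⁻¹ * (x * g) = x⁻¹ * g⁻¹ * x * g := by group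
    rw [e]; exact h g

theorem exists_suzT_of_normal [Finite P] (hP : IsPGroup 2 P) (C : Subgroup P) [C.Normal]
    (hC : ¬ C ≤ center P) : ∃ c ∈ C, c ∈ suzT P ∧ c ∉ center P := by
  haveI : Fact (Nat.Prime 2) := ⟨Nat.prime_two⟩
  have hC' : C.map (QuotientGroup.mk' (center P)) ≠ ⊥ := by
    intro h
    apply hC
    intro c hc
    have : QuotientGroup.mk' (center P) c ∈ C.map (QuotientGroup.mk' (center P)) :=
      Subgroup.mem_map_of_mem _ hc
    rw [h, Subgroup.mem_bot, QuotientGroup.mk'_apply, QuotientGroup.eq_one_iff] at this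
    exact this
  haveI : (C.map (QuotientGroup.mk' (center P))).Normal :=
    Subgroup.Normal.map inferInstance _ (QuotientGroup.mk'_surjective _)
  obtain ⟨z, hzC, hz1, hzc⟩ := Cfsg.Agent.Helper48.exists_ne_one_mem_center_of_normal
    (hP.to_quotient (center P)) (C.map (QuotientGroup.mk' (center P))) hC'
  obtain ⟨c, hcC, rfl⟩ := Subgroup.mem_map.1 hzC
  have hcZ : c ∉ center P := by
    intro h
    apply hz1
    rw [QuotientGroup.mk'_apply, QuotientGroup.eq_one_iff]; exact h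
  have hc2 : c ∈ suzZ2 P := hzc
  obtain ⟨m, hm1, hm2⟩ := exists_pow_not_mem_sq_mem hP (center P) c hcZ
  refine ⟨c ^ m, Subgroup.pow_mem _ hcC m, ⟨hm2, ?_⟩, hm1⟩
  exact mem_suzZ2.1 (Subgroup.pow_mem _ hc2 m)

end general

section main

variable {P : Type u} [Group P] [Finite P] {K : Subgroup (MulAut P)}

omit [Finite P] in
theorem SuzHyp.sq_one (hH : SuzHyp P K) {z : P} (hz : z ∈ center P) : z * z = 1 :=
  (hH.cent z).1 hz

omit [Finite P] in
theorem SuzHyp.inv_eq (hH : SuzHyp P K) {z : P} (hz : z ∈ center P) : z⁻¹ = z :=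
  inv_eq_of_mul_eq_one_left (hH.sq_one hz)

/-- Branch A: if `T` is nonabelian then all squares are central. -/
theorem suz_branchA (hH : SuzHyp P K)
    (hT : ∃ s ∈ suzT P, ∃ t ∈ suzT P, s * t ≠ t * s) : ∀ g : P, g * g ∈ center P := by
  have A1 : ∀ c ∈ suzT P, (∀ t ∈ suzT P, c * t = t * c) → c ∈ center P := by
    intro c hcT hcc
    by_contra hcZ
    have hc2 : c * c ≠ 1 := fun h => hcZ ((hH.cent c).2 h)
    have hc2Z : c * c ∈ center P := hcT.1
    have hab : ∀ t ∈ suzT P, ∀ s ∈ suzT P, t * s = s * t := by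
      intro t ht s hs
      by_cases htZ : t ∈ center P
      · exact (Subgroup.mem_center_iff.1 htZ s).symm
      have ht2 : t * t ≠ 1 := fun h => htZ ((hH.cent t).2 h)
      obtain ⟨k, hk⟩ := hH.trans (c * c) (t * t) hc2 (hH.sq_one hc2Z) ht2 (hH.sq_one ht.1)
      have hc'T : (k : MulAut P) c ∈ suzT P := suzT_act _ hcT
      have hc'c : ∀ s ∈ suzT P, (k : MulAut P) c * s = s * (k : MulAut P) c := by
        intro s hs
        have h1 := hcc ((k : MulAut P)⁻¹ s) (suzT_act _ hs)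
        have h2 := congrArg (k : MulAut P) h1
        simpa [map_mul] using h2
      have hc'2 : (k : MulAut P) c * (k : MulAut P) c = t * t := by rw [← map_mul, hk]
      have hw : (t * ((k : MulAut P) c)⁻¹) * (t * ((k : MulAut P) c)⁻¹) = 1 := by
        have h1 := hc'c t ht
        have h1' : ((k : MulAut P) c)⁻¹ * t = t * ((k : MulAut P) c)⁻¹ := by
          rw [eq_mul_inv_iff_mul_eq, mul_assoc, ← h1, inv_mul_cancel_left]
        calc (t * ((k : MulAut P) c)⁻¹) * (t * ((k : MulAut P) c)⁻¹)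
            = t * (((k : MulAut P) c)⁻¹ * t) * ((k : MulAut P) c)⁻¹ := by group
          _ = t * (t * ((k : MulAut P) c)⁻¹) * ((k : MulAut P) c)⁻¹ := by rw [h1']
          _ = (t * t) * ((k : MulAut P) c * (k : MulAut P) c)⁻¹ := by group
          _ = 1 := by rw [hc'2, mul_inv_cancel]
      have hwZ : t * ((k : MulAut P) c)⁻¹ ∈ center P := (hH.cent _).2 hw
      have hwc := Subgroup.mem_center_iff.1 hwZ s
      have h2 := hc'c s hs
      calc t * s = (t * ((k : MulAut P) c)⁻¹) * ((k : MulAut P) c * s) := by group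
        _ = (t * ((k : MulAut P) c)⁻¹) * (s * (k : MulAut P) c) := by rw [h2]
        _ = (s * (t * ((k : MulAut P) c)⁻¹)) * (k : MulAut P) c := by rw [hwc]; group
        _ = s * t := by group
    obtain ⟨s, hs, t, ht, hst⟩ := hT
    exact hst (hab s hs t ht)
  have A2 : ∀ g, g ∈ centralizer (suzT P : Set P) → g ∈ center P := by
    by_contra hcon
    push Not at hcon
    obtain ⟨g, hgC, hgZ⟩ := hcon
    have hC : ¬ centralizer (suzT P : Set P) ≤ center P := fun h => hgZ (h hgC)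
    obtain ⟨c, hcC, hcT, hcZ⟩ := exists_suzT_of_normal hH.pgrp (centralizer (suzT P : Set P)) hC
    apply hcZ
    apply A1 c hcT
    intro t ht
    exact ((Subgroup.mem_centralizer_iff.1 hcC) t ht).symm
  intro g
  apply A2
  rw [Subgroup.mem_centralizer_iff]
  intro t ht
  exact suzT_sq_comm (fun z hz => hH.sq_one hz) ht g

/-- restriction of an automorphism to an invariant subgroup -/
def resAut (ξ : MulAut P) (D : Subgroup P) (h : ∀ d ∈ D, ξ d ∈ D) (h' : ∀ d ∈ D, ξ⁻¹ d ∈ D) :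
    MulAut ↥D where
  toFun := fun d => ⟨ξ d, h d d.2⟩
  invFun := fun d => ⟨ξ⁻¹ d, h' d d.2⟩
  left_inv := fun d => Subtype.ext (by simp)
  right_inv := fun d => Subtype.ext (by simp)
  map_mul' := fun a b => Subtype.ext (by simp)

omit [Finite P] in
theorem resAut_pow (ξ : MulAut P) (D : Subgroup P) (h : ∀ d ∈ D, ξ d ∈ D)
    (h' : ∀ d ∈ D, ξ⁻¹ d ∈ D) (j : ℕ) (d : ↥D) :
    (((resAut ξ D h h') ^ j) d : P) = (ξ ^ j) (d : P) := by
  induction j generalizing d with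
  | zero => simp
  | succ j ih =>
    rw [pow_succ, pow_succ, MulAut.mul_apply, MulAut.mul_apply, ih]
    rfl

/-- A `K`-invariant subgroup containing a central (in it) element of order 4 is abelian. -/
theorem suz_sub_abelian (hH : SuzHyp P K) (D : Subgroup P)
    (hDK : ∀ k : K, ∀ d ∈ D, (k : MulAut P) d ∈ D) (hZD : center P ≤ D)
    (t₁ : P) (ht₁D : t₁ ∈ D) (ht₁c : ∀ d ∈ D, t₁ * d = d * t₁) (ht₁ : t₁ * t₁ ≠ 1) :
    ∀ a ∈ D, ∀ b ∈ D, a * b = b * a := by
  by_contra hcon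
  push Not at hcon
  obtain ⟨a, ha, b, hb, hab⟩ := hcon
  obtain ⟨ξ, hξK, hξ⟩ := hH.gen
  have h1 : ∀ d ∈ D, ξ d ∈ D := fun d hd => hDK ⟨ξ, hξK⟩ d hd
  have h2 : ∀ d ∈ D, ξ⁻¹ d ∈ D := fun d hd => hDK ⟨ξ⁻¹, K.inv_mem hξK⟩ d hd
  have htr : Cfsg.Agent.Helper50.SuzTrans ↥D (resAut ξ D h1 h2) := by
    intro x y hx1 hx2 hy1 hy2
    have hx1' : (x : P) ≠ 1 := fun h => hx1 (Subtype.ext h)
    have hy1' : (y : P) ≠ 1 := fun h => hy1 (Subtype.ext h)
    have hx2' : (x : P) * (x : P) = 1 := congrArg Subtype.val hx2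
    have hy2' : (y : P) * (y : P) = 1 := congrArg Subtype.val hy2
    obtain ⟨j, hj⟩ := hξ x y hx1' hx2' hy1' hy2'
    exact ⟨j, Subtype.ext (by rw [resAut_pow]; exact hj)⟩
  have hna : ∃ x y : ↥D, x * y ≠ y * x :=
    ⟨⟨a, ha⟩, ⟨b, hb⟩, fun h => hab (congrArg Subtype.val h)⟩
  have htwo : ∃ x y : ↥D, x ≠ y ∧ x ≠ 1 ∧ x * x = 1 ∧ y ≠ 1 ∧ y * y = 1 := by
    obtain ⟨x, y, hxy, hx1, hx2, hy1, hy2⟩ := hH.two
    refine ⟨⟨x, hZD ((hH.cent x).2 hx2)⟩, ⟨y, hZD ((hH.cent y).2 hy2)⟩, ?_, ?_, ?_, ?_, ?_⟩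
    · intro h; exact hxy (congrArg Subtype.val h)
    · intro h; exact hx1 (congrArg Subtype.val h)
    · exact Subtype.ext hx2
    · intro h; exact hy1 (congrArg Subtype.val h)
    · exact Subtype.ext hy2
  have hcen := Cfsg.Agent.Helper50.suz_center (hH.pgrp.to_subgroup D) hna htwo _ htr ⟨t₁, ht₁D⟩
  have h3 : (⟨t₁, ht₁D⟩ : ↥D) ∈ center ↥D := by
    rw [Subgroup.mem_center_iff]
    intro d
    exact Subtype.ext (ht₁c d d.2).symm
  exact ht₁ (congrArg Subtype.val (hcen.1 h3))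

/-- fixed-point-free automorphisms act freely on the cosets of an invariant subgroup -/
theorem suz_free_coset (hH : SuzHyp P K) (D : Subgroup P)
    (hDK : ∀ k : K, ∀ d ∈ D, (k : MulAut P) d ∈ D) (k : K) (hk : k ≠ 1) (x : P)
    (hx : (k : MulAut P) x * x⁻¹ ∈ D) : x ∈ D := by
  have key : ∀ a b : P, (k : MulAut P) a * a⁻¹ = (k : MulAut P) b * b⁻¹ → a = b := by
    intro a b h
    have h1 : (k : MulAut P) (b⁻¹ * a) = b⁻¹ * a := by
      rw [map_mul, map_inv]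
      calc ((k : MulAut P) b)⁻¹ * (k : MulAut P) a
          = ((k : MulAut P) b)⁻¹ * ((k : MulAut P) a * a⁻¹) * a := by group
        _ = ((k : MulAut P) b)⁻¹ * ((k : MulAut P) b * b⁻¹) * a := by rw [h]
        _ = b⁻¹ * a := by group
    have h2 := hH.free k hk _ h1
    calc a = b * (b⁻¹ * a) := by group
      _ = b := by rw [h2, mul_one]
  let L : ↥D → ↥D := fun d => ⟨(k : MulAut P) d * (d : P)⁻¹,
    D.mul_mem (hDK k d d.2) (D.inv_mem d.2)⟩
  have hL : Function.Injective L := by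
    intro a b h
    exact Subtype.ext (key a b (congrArg Subtype.val h))
  have hLs : Function.Surjective L := Finite.injective_iff_surjective.1 hL
  obtain ⟨d, hd⟩ := hLs ⟨_, hx⟩
  have := key d x (congrArg Subtype.val hd)
  rw [← this]; exact d.2

end main

end Cfsg.Agent.Helper29
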