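import Mathlib
import Cfsg.Agent.Helper29.SuzMain

set_option autoImplicit false

namespace Cfsg.Agent.Helper29

open Subgroup

universe u

section branchB

variable {P : Type u} [Group P] [Finite P] {K : Subgroup (MulAut P)} {F : Type*} [Field F]
  [Fintype F] [CharP F 2]

omit [Finite P] in
theorem suzB_comm_mul {s : P} (hs : s ∈ suzT P) (t x : P) :
    (s * t)⁻¹ * x⁻¹ * (s * t) * x = (s⁻¹ * x⁻¹ * s * x) * (t⁻¹ * x⁻¹ * t * x) := by
  have hc := Subgroup.mem_center_iff.1 (hs.2 x) t⁻¹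
  calc (s * t)⁻¹ * x⁻¹ * (s * t) * x = (t⁻¹ * (s⁻¹ * x⁻¹ * s * x)) * (x⁻¹ * t * x) := by group
    _ = ((s⁻¹ * x⁻¹ * s * x) * t⁻¹) * (x⁻¹ * t * x) := by rw [hc]
    _ = _ := by group

omit [Finite P] in
theorem suzB_comm_center {z : P} (hz : z ∈ center P) (x : P) : z⁻¹ * x⁻¹ * z * x = 1 := by
  have hc := Subgroup.mem_center_iff.1 hz x⁻¹
  calc z⁻¹ * x⁻¹ * z * x = z⁻¹ * (x⁻¹ * z) * x := by group
    _ = z⁻¹ * (z * x⁻¹) * x := by rw [hc]
    _ = 1 := by group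

omit [Finite P] in
theorem suzB_comm_mul' {t : P} (ht : t ∈ suzT P) (x y : P) :
    t⁻¹ * (x * y)⁻¹ * t * (x * y) = (t⁻¹ * x⁻¹ * t * x) * (t⁻¹ * y⁻¹ * t * y) := by
  have hc := Subgroup.mem_center_iff.1 (ht.2 x) y
  calc t⁻¹ * (x * y)⁻¹ * t * (x * y) = t⁻¹ * y⁻¹ * t * ((t⁻¹ * x⁻¹ * t * x) * y) := by group
    _ = t⁻¹ * y⁻¹ * t * (y * (t⁻¹ * x⁻¹ * t * x)) := by rw [hc]
    _ = (t⁻¹ * y⁻¹ * t * y) * (t⁻¹ * x⁻¹ * t * x) := by group
    _ = _ := Subgroup.mem_center_iff.1 (ht.2 x) _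

omit [Finite P] in
theorem suzB_D_act (k : MulAut P) {d : P} (hd : d ∈ centralizer (suzT P : Set P)) :
    k d ∈ centralizer (suzT P : Set P) := by
  rw [Subgroup.mem_centralizer_iff] at hd ⊢
  intro t ht
  have h1 := hd (k⁻¹ t) (suzT_act _ ht)
  have h2 := congrArg k h1
  simpa [map_mul] using h2

variable (hH : SuzHyp P K) (co : SuzCoord P (center P) K F)
  (hTab : ∀ s ∈ suzT P, ∀ t ∈ suzT P, s * t = t * s)

include hTab in
omit [Finite P] in
theorem suzB_tau_add {s t : P} (hs : s ∈ suzT P) (ht : t ∈ suzT P) :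
    co.lg ((s * t) * (s * t)) = co.lg (s * s) + co.lg (t * t) := by
  have e : (s * t) * (s * t) = (s * s) * (t * t) := by
    calc (s * t) * (s * t) = s * (t * s) * t := by group
      _ = s * (s * t) * t := by rw [hTab t ht s hs]
      _ = _ := by group
  rw [e, co.lg_mul hs.1 ht.1]

include hH in
omit [Finite P] in
theorem suzB_tau_zero {t : P} (ht : t ∈ suzT P) : co.lg (t * t) = 0 ↔ t ∈ center P := by
  rw [co.lg_eq_zero ht.1]
  exact (hH.cent t).symm

omit [Finite P] in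
theorem suzB_tau_act (k : K) {t : P} (ht : t ∈ suzT P) :
    co.lg ((k : MulAut P) t * (k : MulAut P) t) = co.u k * co.lg (t * t) := by
  rw [← map_mul, co.lg_act k ht.1]

include hH in
theorem suzB_exists_t1 : ∃ t₁ ∈ suzT P, t₁ ∉ center P := by
  have hna : ¬ (⊤ : Subgroup P) ≤ center P := by
    intro h
    obtain ⟨x, y, hxy⟩ := hH.na
    exact hxy (Subgroup.mem_center_iff.1 (h (Subgroup.mem_top y)) x)
  obtain ⟨t₁, -, ht₁T, ht₁Z⟩ := exists_suzT_of_normal hH.pgrp ⊤ hna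
  exact ⟨t₁, ht₁T, ht₁Z⟩

include hH in
theorem suzB_tau_surj (a : F) : ∃ t ∈ suzT P, co.lg (t * t) = a := by
  by_cases ha : a = 0
  · exact ⟨1, (suzT P).one_mem, by rw [ha, mul_one, co.lg_one]⟩
  obtain ⟨t₁, ht₁T, ht₁Z⟩ := suzB_exists_t1 hH
  have h1 : t₁ * t₁ ≠ 1 := fun h => ht₁Z ((hH.cent t₁).2 h)
  have h2 : co.e a ≠ 1 := by
    intro h
    apply ha
    rw [← co.lg_e a, h, co.lg_one]
  obtain ⟨k, hk⟩ := hH.trans (t₁ * t₁) (co.e a) h1 (hH.sq_one ht₁T.1) h2 (hH.sq_one (co.e_mem a))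
  refine ⟨(k : MulAut P) t₁, suzT_act _ ht₁T, ?_⟩
  rw [← map_mul, hk, co.lg_e]

include hH hTab in
omit [Finite P] in
theorem suzB_tau_inj {s t : P} (hs : s ∈ suzT P) (ht : t ∈ suzT P)
    (h : co.lg (s * s) = co.lg (t * t)) : s⁻¹ * t ∈ center P := by
  rw [hH.cent]
  have h1 : s * s = t * t := co.lg_inj hs.1 ht.1 h
  have h2 := hTab s⁻¹ ((suzT P).inv_mem hs) t ht
  calc s⁻¹ * t * (s⁻¹ * t) = s⁻¹ * (t * s⁻¹) * t := by group
    _ = s⁻¹ * (s⁻¹ * t) * t := by rw [← h2]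
    _ = (s * s)⁻¹ * (t * t) := by group
    _ = 1 := by rw [h1]; group

include hH hTab in
theorem suzB_exists_f : ∃ f : P → (F →+ F), ∀ x : P, ∀ t ∈ suzT P,
    f x (co.lg (t * t)) = co.lg (t⁻¹ * x⁻¹ * t * x) := by
  classical
  choose sec hsecT hsec using suzB_tau_surj hH co
  have key : ∀ x : P, ∀ s ∈ suzT P, ∀ t ∈ suzT P, co.lg (s * s) = co.lg (t * t) →
      s⁻¹ * x⁻¹ * s * x = t⁻¹ * x⁻¹ * t * x := by
    intro x s hs t ht h
    have hz := suzB_tau_inj hH co hTab hs ht h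
    obtain ⟨z, hz', rfl⟩ : ∃ z ∈ center P, t = s * z := ⟨s⁻¹ * t, hz, by group⟩
    rw [suzB_comm_mul hs, suzB_comm_center hz', mul_one]
  refine ⟨fun x => AddMonoidHom.mk' (fun a => co.lg ((sec a)⁻¹ * x⁻¹ * sec a * x)) ?_, ?_⟩
  · intro a b
    have h1 : co.lg (sec (a + b) * sec (a + b)) = co.lg ((sec a * sec b) * (sec a * sec b)) := by
      rw [suzB_tau_add co hTab (hsecT a) (hsecT b), hsec, hsec, hsec]
    rw [key x _ (hsecT (a + b)) _ ((suzT P).mul_mem (hsecT a) (hsecT b)) h1,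
      suzB_comm_mul (hsecT a), co.lg_mul ((hsecT a).2 x) ((hsecT b).2 x)]
  · intro x t ht
    show co.lg ((sec (co.lg (t * t)))⁻¹ * x⁻¹ * sec (co.lg (t * t)) * x) = _
    rw [key x _ (hsecT _) t ht (hsec _)]

variable (f : P → (F →+ F))
  (hf : ∀ x : P, ∀ t ∈ suzT P, f x (co.lg (t * t)) = co.lg (t⁻¹ * x⁻¹ * t * x))

include hH hf in
theorem suzB_f_mul (x y : P) : f (x * y) = f x + f y := by
  refine DFunLike.ext _ _ (fun a => ?_)
  obtain ⟨t, ht, rfl⟩ := suzB_tau_surj hH co a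
  rw [AddMonoidHom.add_apply, hf _ t ht, hf _ t ht, hf _ t ht, suzB_comm_mul' ht,
    co.lg_mul (ht.2 x) (ht.2 y)]

include hH hf in
theorem suzB_f_zero (x : P) : f x = 0 ↔ x ∈ centralizer (suzT P : Set P) := by
  rw [Subgroup.mem_centralizer_iff]
  constructor
  · intro h t ht
    have h1 := hf x t ht
    rw [h, AddMonoidHom.zero_apply] at h1
    have h2 := (co.lg_eq_zero (ht.2 x)).1 h1.symm
    calc t * x = x * t * (t⁻¹ * x⁻¹ * t * x) := by group
      _ = x * t := by rw [h2, mul_one]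
  · intro h
    refine DFunLike.ext _ _ (fun a => ?_)
    obtain ⟨t, ht, rfl⟩ := suzB_tau_surj hH co a
    rw [hf x t ht, AddMonoidHom.zero_apply, co.lg_eq_zero (ht.2 x)]
    have := h t ht
    calc t⁻¹ * x⁻¹ * t * x = t⁻¹ * x⁻¹ * (t * x) := by group
      _ = t⁻¹ * x⁻¹ * (x * t) := by rw [this]
      _ = 1 := by group

include hH hf in
theorem suzB_f_act (k : K) (x : P) : f ((k : MulAut P) x) = conjF (co.u k) (f x) := by
  refine DFunLike.ext _ _ (fun a => ?_)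
  obtain ⟨s, hs, hsa⟩ := suzB_tau_surj hH co ((co.u k)⁻¹ * a)
  have ha : a = co.lg ((k : MulAut P) s * (k : MulAut P) s) := by
    rw [suzB_tau_act co k hs, hsa, mul_inv_cancel_left₀ (co.u_ne k)]
  rw [conjF_apply, ← hsa, hf x s hs, ha, hf _ _ (suzT_act _ hs)]
  have e : ((k : MulAut P) s)⁻¹ * ((k : MulAut P) x)⁻¹ * (k : MulAut P) s * (k : MulAut P) x
      = (k : MulAut P) (s⁻¹ * x⁻¹ * s * x) := by
    simp [map_mul, map_inv]
  rw [e, co.lg_act k (hs.2 x)]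

include hTab in
omit [Finite P] in
theorem suzB_T_le_D : suzT P ≤ centralizer (suzT P : Set P) := by
  intro t ht
  rw [Subgroup.mem_centralizer_iff]
  intro s hs
  exact hTab s hs t ht

include hH in
omit [Finite P] in
theorem suzB_sq_mem_D (x : P) : x * x ∈ centralizer (suzT P : Set P) := by
  rw [Subgroup.mem_centralizer_iff]
  intro t ht
  exact suzT_sq_comm (fun z hz => hH.sq_one hz) ht x

include hH hTab in
theorem suzB_D_abelian : ∀ a ∈ centralizer (suzT P : Set P),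
    ∀ b ∈ centralizer (suzT P : Set P), a * b = b * a := by
  obtain ⟨t₁, ht₁T, ht₁Z⟩ := suzB_exists_t1 hH
  have h1 : t₁ * t₁ ≠ 1 := fun h => ht₁Z ((hH.cent t₁).2 h)
  refine suz_sub_abelian hH (centralizer (suzT P : Set P)) (fun k d hd => suzB_D_act _ hd) ?_ t₁
    (suzB_T_le_D hTab ht₁T) ?_ h1
  · intro z hz; exact suzB_T_le_D hTab (center_le_suzT hz)
  · intro d hd
    exact Subgroup.mem_centralizer_iff.1 hd t₁ ht₁T

include hH hTab in
theorem suzB_D_T {d : P} (hd : d ∈ centralizer (suzT P : Set P)) (hd2 : d * d ∈ center P) :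
    d ∈ suzT P := by
  refine ⟨hd2, fun g => ?_⟩
  rw [hH.cent]
  have hD := suzB_D_abelian hH hTab
  have hgd : g⁻¹ * d * g ∈ centralizer (suzT P : Set P) := by
    have := (inferInstance : (centralizer (suzT P : Set P)).Normal).conj_mem d hd g⁻¹
    simpa using this
  have hdi : d⁻¹ ∈ centralizer (suzT P : Set P) := Subgroup.inv_mem _ hd
  have h1 := hD _ hgd _ hdi
  have h2 := Subgroup.mem_center_iff.1 hd2 g
  calc d⁻¹ * g⁻¹ * d * g * (d⁻¹ * g⁻¹ * d * g)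
      = d⁻¹ * ((g⁻¹ * d * g) * d⁻¹) * (g⁻¹ * d * g) := by group
    _ = d⁻¹ * (d⁻¹ * (g⁻¹ * d * g)) * (g⁻¹ * d * g) := by rw [h1]
    _ = d⁻¹ * d⁻¹ * g⁻¹ * (d * d * g) := by group
    _ = d⁻¹ * d⁻¹ * g⁻¹ * (g * (d * d)) := by rw [h2]
    _ = 1 := by group

include hH co in
omit [Finite P] [Fintype F] [CharP F 2] in
theorem suzB_hF : ∃ a : F, a ≠ 0 ∧ a ≠ 1 := by
  obtain ⟨x, y, hxy, hx1, hx2, hy1, hy2⟩ := hH.two
  have hxZ : x ∈ center P := (hH.cent x).2 hx2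
  have hyZ : y ∈ center P := (hH.cent y).2 hy2
  have hx0 : co.lg x ≠ 0 := fun h => hx1 ((co.lg_eq_zero hxZ).1 h)
  have hy0 : co.lg y ≠ 0 := fun h => hy1 ((co.lg_eq_zero hyZ).1 h)
  by_cases h : co.lg x = 1
  · exact ⟨co.lg y, hy0, fun h' => hxy (co.lg_inj hxZ hyZ (h.trans h'.symm))⟩
  · exact ⟨co.lg x, hx0, h⟩

omit [Finite P] [Fintype F] [CharP F 2] in
/-- the range of `f` -/
def suzB_M (f : P → (F →+ F)) (hmul : ∀ x y, f (x * y) = f x + f y) : AddSubgroup (F →+ F) where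
  carrier := Set.range f
  add_mem' := by
    rintro _ _ ⟨x, rfl⟩ ⟨y, rfl⟩
    exact ⟨x * y, hmul x y⟩
  zero_mem' := ⟨1, by have := hmul 1 1; rw [mul_one] at this; exact left_eq_add.mp this⟩
  neg_mem' := by
    rintro _ ⟨x, rfl⟩
    refine ⟨x⁻¹, ?_⟩
    have h0 : f 1 = 0 := by have := hmul 1 1; rw [mul_one] at this; exact left_eq_add.mp this
    have h1 := hmul x⁻¹ x
    rw [inv_mul_cancel, h0] at h1
    exact eq_neg_of_add_eq_zero_left h1.symm

include hH hf in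
theorem suzB_f_one : f 1 = 0 := by
  have := suzB_f_mul hH co f hf 1 1
  rw [mul_one] at this
  exact left_eq_add.mp this

include hH hf in
theorem suzB_f_inv (x : P) : f x⁻¹ = f x := by
  have h := suzB_f_mul hH co f hf x⁻¹ x
  rw [inv_mul_cancel, suzB_f_one hH co f hf] at h
  refine DFunLike.ext _ _ (fun a => ?_)
  have h' := DFunLike.congr_fun h a
  rw [AddMonoidHom.zero_apply, AddMonoidHom.add_apply] at h'
  exact CharTwo.add_eq_zero.1 h'.symm

include hH hTab hf in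
theorem suzB_sigma : ∃ σ : F ≃+* F, σ ≠ RingEquiv.refl F ∧ ∀ c, ∃ x, f x = smulAut c σ := by
  have hmul := suzB_f_mul hH co f hf
  have hconj : ∀ a : F, a ≠ 0 → ∀ g ∈ suzB_M f hmul, conjF a g ∈ suzB_M f hmul := by
    rintro a ha _ ⟨x, rfl⟩
    obtain ⟨k, rfl⟩ := co.u_surj a ha
    exact ⟨(k : MulAut P) x, suzB_f_act hH co f hf k x⟩
  have hfree : ∀ a : F, a ≠ 0 → ∀ g ∈ suzB_M f hmul, g ≠ 0 → conjF a g = g → a = 1 := by
    rintro a ha _ ⟨x, rfl⟩ hx0 hfix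
    obtain ⟨k, rfl⟩ := co.u_surj a ha
    by_contra h1
    have hk : k ≠ 1 := by
      rintro rfl
      exact h1 co.u_one
    have h2 : f ((k : MulAut P) x * x⁻¹) = 0 := by
      rw [hmul, suzB_f_act hH co f hf k x, hfix, suzB_f_inv hH co f hf x]
      refine DFunLike.ext _ _ (fun b => ?_)
      simp [CharTwo.add_self_eq_zero]
    have h3 := (suzB_f_zero hH co f hf _).1 h2
    have h4 := suz_free_coset hH _ (fun k d hd => suzB_D_act _ hd) k hk x h3
    exact hx0 ((suzB_f_zero hH co f hf x).2 h4)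
  have hne : suzB_M f hmul ≠ ⊥ := by
    intro hbot
    obtain ⟨x, y, hxy⟩ := hH.na
    have hall : ∀ x : P, x ∈ centralizer (suzT P : Set P) := by
      intro x
      rw [← suzB_f_zero hH co f hf]
      have : f x ∈ suzB_M f hmul := ⟨x, rfl⟩
      rw [hbot] at this
      exact this
    exact hxy (suzB_D_abelian hH hTab x (hall x) y (hall y))
  obtain ⟨σ, hσ, h⟩ := suzAlg1 (suzB_hF hH co) (suzB_M f hmul) hconj hfree hne
  exact ⟨σ, hσ, fun c => h c⟩

include hH hTab hf in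
theorem suzB_conj_a {a : P} (haD : a ∈ centralizer (suzT P : Set P)) (ha2 : a * a ∈ suzT P)
    {x : P} {c : F} (σ : F ≃+* F) (hc : c ≠ 0) (hx : f x = smulAut c σ) :
    ∃ z ∈ center P, x⁻¹ * a * x = a * (a * a) * z := by
  obtain ⟨cc, hcc⟩ : ∃ cc, cc = a⁻¹ * x⁻¹ * a * x := ⟨_, rfl⟩
  have hD := suzB_D_abelian hH hTab
  have hxa : x⁻¹ * a * x ∈ centralizer (suzT P : Set P) := by
    have := (inferInstance : (centralizer (suzT P : Set P)).Normal).conj_mem a haD x⁻¹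
    simpa using this
  have hai : a⁻¹ ∈ centralizer (suzT P : Set P) := Subgroup.inv_mem _ haD
  have hccD : cc ∈ centralizer (suzT P : Set P) := by
    have e : cc = a⁻¹ * (x⁻¹ * a * x) := by rw [hcc]; group
    rw [e]; exact Subgroup.mul_mem _ hai hxa
  have h1 : cc * cc = (a * a)⁻¹ * x⁻¹ * (a * a) * x := by
    have := hD _ hxa _ hai
    calc cc * cc = a⁻¹ * ((x⁻¹ * a * x) * a⁻¹) * (x⁻¹ * a * x) := by rw [hcc]; group
      _ = a⁻¹ * (a⁻¹ * (x⁻¹ * a * x)) * (x⁻¹ * a * x) := by rw [this]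
      _ = _ := by group
  have h1Z : cc * cc ∈ center P := by rw [h1]; exact ha2.2 x
  have hccT : cc ∈ suzT P := suzB_D_T hH hTab hccD h1Z
  have h2 : (x * x) * a = a * (x * x) := hD _ (suzB_sq_mem_D hH x) _ haD
  have h3 : cc⁻¹ * x⁻¹ * cc * x = cc * cc := by
    have h4 : x⁻¹ * cc * x = cc⁻¹ := by
      have e1 : x⁻¹ * cc * x = (x⁻¹ * a * x)⁻¹ * (x⁻¹ * x⁻¹ * (a * (x * x))) := by
        rw [hcc]; group
      rw [e1, ← h2, hcc]; group
    calc cc⁻¹ * x⁻¹ * cc * x = cc⁻¹ * (x⁻¹ * cc * x) := by group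
      _ = cc⁻¹ * cc⁻¹ := by rw [h4]
      _ = (cc * cc)⁻¹ := by group
      _ = cc * cc := hH.inv_eq h1Z
  have h5 := hf x cc hccT
  have h6 := hf x (a * a) ha2
  rw [h3] at h5
  rw [← h1] at h6
  rw [hx, smulAut_apply] at h5 h6
  have h7 : co.lg (cc * cc) = co.lg ((a * a) * (a * a)) :=
    σ.injective (mul_left_cancel₀ hc (h5.trans h6.symm))
  have h8 := suzB_tau_inj hH co hTab ha2 hccT h7.symm
  refine ⟨(a * a)⁻¹ * cc, h8, ?_⟩
  rw [hcc]; group

include hH hTab hf in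
theorem suzB_D_le_T : ∀ d ∈ centralizer (suzT P : Set P), d ∈ suzT P := by
  by_contra hcon
  push Not at hcon
  obtain ⟨d, hdD, hdT⟩ := hcon
  obtain ⟨m, hm1, hm2⟩ := exists_pow_not_mem_sq_mem hH.pgrp (suzT P) d hdT
  obtain ⟨a, ha⟩ : ∃ a, a = d ^ m := ⟨_, rfl⟩
  rw [← ha] at hm1 hm2
  have haD : a ∈ centralizer (suzT P : Set P) := ha ▸ Subgroup.pow_mem _ hdD m
  have haZ : a * a ∉ center P := fun h => hm1 (suzB_D_T hH hTab haD h)
  obtain ⟨σ, hσ, hM⟩ := suzB_sigma hH co hTab f hf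
  obtain ⟨c₂, hc0, hc1⟩ := suzB_hF hH co
  obtain ⟨x₁, hx₁⟩ := hM 1
  obtain ⟨x₂, hx₂⟩ := hM c₂
  have hx₃ : f (x₁ * x₂) = smulAut (1 + c₂) σ := by
    rw [suzB_f_mul hH co f hf, hx₁, hx₂]
    refine DFunLike.ext _ _ (fun b => ?_)
    simp [add_mul]
  have hc3 : (1 : F) + c₂ ≠ 0 := by
    intro h
    exact hc1 (CharTwo.add_eq_zero.1 h).symm
  obtain ⟨z₁, hz₁, e₁⟩ := suzB_conj_a hH co hTab f hf haD hm2 σ one_ne_zero hx₁
  obtain ⟨z₂, hz₂, e₂⟩ := suzB_conj_a hH co hTab f hf haD hm2 σ hc0 hx₂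
  obtain ⟨z₃, hz₃, e₃⟩ := suzB_conj_a hH co hTab f hf haD hm2 σ hc3 hx₃
  have hπ : ∀ z ∈ center P, QuotientGroup.mk' (center P) z = 1 := by
    intro z hz
    rw [QuotientGroup.mk'_apply, QuotientGroup.eq_one_iff]; exact hz
  have E₁ := congrArg (QuotientGroup.mk' (center P)) e₁
  have E₂ := congrArg (QuotientGroup.mk' (center P)) e₂
  have E₃ := congrArg (QuotientGroup.mk' (center P)) e₃
  have E₄ := hπ _ hm2.1
  simp only [map_mul, map_inv, hπ _ hz₁, hπ _ hz₂, hπ _ hz₃, mul_one] at E₁ E₂ E₃ E₄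
  obtain ⟨α, hα⟩ : ∃ α, α = QuotientGroup.mk' (center P) a := ⟨_, rfl⟩
  obtain ⟨ξ₁, hξ₁⟩ : ∃ ξ₁, ξ₁ = QuotientGroup.mk' (center P) x₁ := ⟨_, rfl⟩
  obtain ⟨ξ₂, hξ₂⟩ : ∃ ξ₂, ξ₂ = QuotientGroup.mk' (center P) x₂ := ⟨_, rfl⟩
  rw [← hα, ← hξ₁, ← hξ₂] at E₃
  rw [← hα, ← hξ₁] at E₁
  rw [← hα, ← hξ₂] at E₂
  rw [← hα] at E₄
  have h9 : α * (α * α) = (α * (α * α)) * (α * (α * α)) * (α * (α * α)) := by
    calc α * (α * α) = (ξ₁ * ξ₂)⁻¹ * α * (ξ₁ * ξ₂) := E₃.symm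
      _ = ξ₂⁻¹ * (ξ₁⁻¹ * α * ξ₁) * ξ₂ := by group
      _ = ξ₂⁻¹ * (α * (α * α)) * ξ₂ := by rw [E₁]
      _ = (ξ₂⁻¹ * α * ξ₂) * ((ξ₂⁻¹ * α * ξ₂) * (ξ₂⁻¹ * α * ξ₂)) := by group
      _ = _ := by rw [E₂]; group
  have h10 : α * α = 1 := by
    calc α * α = (α * α * (α * α)) * (α * α) := by rw [E₄, one_mul]
      _ = (α * (α * α)) * (α * (α * α)) := by simp only [mul_assoc]
      _ = (α * (α * α))⁻¹ * ((α * (α * α)) * (α * (α * α)) * (α * (α * α))) :=
        (fun β : P ⧸ center P => (by group : β * β = β⁻¹ * (β * β * β))) _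
      _ = (α * (α * α))⁻¹ * (α * (α * α)) := by rw [← h9]
      _ = 1 := inv_mul_cancel _
  apply haZ
  rw [hα, ← map_mul, QuotientGroup.mk'_apply, QuotientGroup.eq_one_iff] at h10
  exact h10

include hH hf in
theorem suzB_sq_of_smul (hDT : ∀ d ∈ centralizer (suzT P : Set P), d ∈ suzT P) {x : P} {c : F}
    {ρ : F ≃+* F} (hx : f x = smulAut c ρ) : x * x ∈ center P := by
  have hx2 : x * x ∈ suzT P := hDT _ (suzB_sq_mem_D hH x)
  have h1 := hf x (x * x) hx2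
  have e : (x * x)⁻¹ * x⁻¹ * (x * x) * x = 1 := by group
  rw [e, co.lg_one, hx, smulAut_apply] at h1
  rcases mul_eq_zero.1 h1 with h | h
  · have h0 : f x = 0 := by
      rw [hx, h]
      exact DFunLike.ext _ _ (fun b => by simp)
    exact (hDT x ((suzB_f_zero hH co f hf x).1 h0)).1
  · have h0 : co.lg (x * x * (x * x)) = 0 := by simpa using h
    exact (suzB_tau_zero hH co hx2).1 h0

omit [Finite P] [Fintype F] [CharP F 2] in
theorem suzB_smulAut_add (c c' : F) (σ : F ≃+* F) :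
    smulAut (c + c') σ = smulAut c σ + smulAut c' σ := by
  refine DFunLike.ext _ _ (fun b => ?_)
  simp [add_mul]

omit [Finite P] [Fintype F] [CharP F 2] in
theorem suzB_smulAut_zero (σ : F ≃+* F) : smulAut (0 : F) σ = 0 := by
  refine DFunLike.ext _ _ (fun b => ?_)
  simp

/-- `x⁻¹ y x y⁻¹` -/
def suzW (x y : P) : P := x⁻¹ * y * x * y⁻¹

include hH in
omit [Finite P] [Fintype F] [CharP F 2] in
theorem suzB_tau_center {z : P} (hz : z ∈ center P) : co.lg (z * z) = 0 := by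
  rw [hH.sq_one hz, co.lg_one]

include hH in
omit [Finite P] in
theorem suzB_w_mem (hDT : ∀ d ∈ centralizer (suzT P : Set P), d ∈ suzT P) {x y : P}
    (hx : x * x ∈ center P) (hy : y * y ∈ center P) : suzW x y ∈ suzT P := by
  have e : suzW x y = (x * x)⁻¹ * ((x * y) * (x * y)) * (y * y)⁻¹ := by unfold suzW; group
  rw [e]
  exact Subgroup.mul_mem _ (Subgroup.mul_mem _ (Subgroup.inv_mem _ (center_le_suzT hx))
    (hDT _ (suzB_sq_mem_D hH _))) (Subgroup.inv_mem _ (center_le_suzT hy))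

include hH hTab in
omit [Finite P] in
theorem suzB_w_mul_left {x₁ x₂ y : P} (h₁ : suzW x₁ y ∈ suzT P) (h₂ : suzW x₂ y ∈ suzT P) :
    suzW (x₁ * x₂) y ∈ suzT P ∧ co.lg (suzW (x₁ * x₂) y * suzW (x₁ * x₂) y) =
      co.lg (suzW x₁ y * suzW x₁ y) + co.lg (suzW x₂ y * suzW x₂ y) := by
  have hz : (suzW x₁ y)⁻¹ * x₂⁻¹ * suzW x₁ y * x₂ ∈ center P := h₁.2 x₂
  have e : suzW (x₁ * x₂) y
      = suzW x₁ y * ((suzW x₁ y)⁻¹ * x₂⁻¹ * suzW x₁ y * x₂) * suzW x₂ y := by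
    unfold suzW; group
  have hT1 : suzW x₁ y * ((suzW x₁ y)⁻¹ * x₂⁻¹ * suzW x₁ y * x₂) ∈ suzT P :=
    Subgroup.mul_mem _ h₁ (center_le_suzT hz)
  rw [e]
  refine ⟨Subgroup.mul_mem _ hT1 h₂, ?_⟩
  rw [suzB_tau_add co hTab hT1 h₂, suzB_tau_add co hTab h₁ (center_le_suzT hz),
    suzB_tau_center hH co hz, add_zero]

include hH hTab in
omit [Finite P] in
theorem suzB_w_mul_right {x y₁ y₂ : P} (h₁ : suzW x y₁ ∈ suzT P) (h₂ : suzW x y₂ ∈ suzT P) :
    suzW x (y₁ * y₂) ∈ suzT P ∧ co.lg (suzW x (y₁ * y₂) * suzW x (y₁ * y₂)) =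
      co.lg (suzW x y₁ * suzW x y₁) + co.lg (suzW x y₂ * suzW x y₂) := by
  have hz : (suzW x y₂)⁻¹ * (y₁⁻¹)⁻¹ * suzW x y₂ * y₁⁻¹ ∈ center P := h₂.2 y₁⁻¹
  have e : suzW x (y₁ * y₂)
      = suzW x y₁ * (suzW x y₂ * ((suzW x y₂)⁻¹ * (y₁⁻¹)⁻¹ * suzW x y₂ * y₁⁻¹)) := by
    unfold suzW; group
  have hT2 : suzW x y₂ * ((suzW x y₂)⁻¹ * (y₁⁻¹)⁻¹ * suzW x y₂ * y₁⁻¹) ∈ suzT P :=
    Subgroup.mul_mem _ h₂ (center_le_suzT hz)
  rw [e]
  refine ⟨Subgroup.mul_mem _ h₁ hT2, ?_⟩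
  rw [suzB_tau_add co hTab h₁ hT2, suzB_tau_add co hTab h₂ (center_le_suzT hz),
    suzB_tau_center hH co hz, add_zero]

omit [Finite P] in
theorem suzB_w_T_left {d : P} (hd : d ∈ suzT P) (y : P) : suzW d y ∈ center P := by
  have e : suzW d y = d⁻¹ * (y⁻¹)⁻¹ * d * y⁻¹ := by unfold suzW; group
  rw [e]; exact hd.2 y⁻¹

omit [Finite P] in
theorem suzB_w_T_right {d : P} (hd : d ∈ suzT P) (x : P) : suzW x d ∈ center P := by
  have e : suzW x d = ((d⁻¹)⁻¹ * x⁻¹ * d⁻¹ * x)⁻¹ := by unfold suzW; group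
  rw [e]; exact Subgroup.inv_mem _ (((suzT P).inv_mem hd).2 x)

include hH hf in
theorem suzB_f_eq_mem (hDT : ∀ d ∈ centralizer (suzT P : Set P), d ∈ suzT P) {x y : P}
    (h : f x = f y) : x⁻¹ * y ∈ suzT P := by
  apply hDT
  rw [← suzB_f_zero hH co f hf, suzB_f_mul hH co f hf, suzB_f_inv hH co f hf, h]
  refine DFunLike.ext _ _ (fun b => ?_)
  simp [CharTwo.add_self_eq_zero]

include hH hTab hf in
theorem suzB_w_congr_left (hDT : ∀ d ∈ centralizer (suzT P : Set P), d ∈ suzT P) {x x' y : P}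
    (hw : suzW x y ∈ suzT P) (h : f x = f x') :
    suzW x' y ∈ suzT P ∧ co.lg (suzW x' y * suzW x' y) = co.lg (suzW x y * suzW x y) := by
  have hd := suzB_f_eq_mem hH co f hf hDT h
  have hz := suzB_w_T_left hd y
  have e : x * (x⁻¹ * x') = x' := by group
  have A := suzB_w_mul_left hH co hTab hw (center_le_suzT hz)
  rw [e, suzB_tau_center hH co hz, add_zero] at A
  exact A

include hH hTab hf in
theorem suzB_w_congr_right (hDT : ∀ d ∈ centralizer (suzT P : Set P), d ∈ suzT P) {x y y' : P}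
    (hw : suzW x y ∈ suzT P) (h : f y = f y') :
    suzW x y' ∈ suzT P ∧ co.lg (suzW x y' * suzW x y') = co.lg (suzW x y * suzW x y) := by
  have hd := suzB_f_eq_mem hH co f hf hDT h
  have hz := suzB_w_T_right hd x
  have e : y * (y⁻¹ * y') = y' := by group
  have A := suzB_w_mul_right hH co hTab hw (center_le_suzT hz)
  rw [e, suzB_tau_center hH co hz, add_zero] at A
  exact A

include hH hTab hf in
theorem suzB_w_center (hDT : ∀ d ∈ centralizer (suzT P : Set P), d ∈ suzT P)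
    (σ τ : F ≃+* F) (hσ : σ ≠ RingEquiv.refl F) (hτ : τ ≠ RingEquiv.refl F)
    (hMσ : ∀ c, ∃ x, f x = smulAut c σ) (hMτ : ∀ c, ∃ x, f x = smulAut c τ)
    {x y : P} {u v : F} (hx : f x = smulAut u σ) (hy : f y = smulAut v τ) :
    suzW x y ∈ center P := by
  choose X hX using hMσ
  choose Y hY using hMτ
  have hXsq : ∀ c, X c * X c ∈ center P := fun c => suzB_sq_of_smul hH co f hf hDT (hX c)
  have hYsq : ∀ c, Y c * Y c ∈ center P := fun c => suzB_sq_of_smul hH co f hf hDT (hY c)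
  have hwT : ∀ c c', suzW (X c) (Y c') ∈ suzT P := fun c c' =>
    suzB_w_mem hH hDT (hXsq c) (hYsq c')
  have hB1 : ∀ u u' v, co.lg (suzW (X (u + u')) (Y v) * suzW (X (u + u')) (Y v))
      = co.lg (suzW (X u) (Y v) * suzW (X u) (Y v))
        + co.lg (suzW (X u') (Y v) * suzW (X u') (Y v)) := by
    intro u u' v
    have hfe : f (X u * X u') = f (X (u + u')) := by
      rw [suzB_f_mul hH co f hf, hX, hX, hX, suzB_smulAut_add]
    have A := suzB_w_mul_left hH co hTab (hwT u v) (hwT u' v)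
    have B := suzB_w_congr_left hH co hTab f hf hDT A.1 hfe
    exact B.2.trans A.2
  have hB2 : ∀ u v v', co.lg (suzW (X u) (Y (v + v')) * suzW (X u) (Y (v + v')))
      = co.lg (suzW (X u) (Y v) * suzW (X u) (Y v))
        + co.lg (suzW (X u) (Y v') * suzW (X u) (Y v')) := by
    intro u v v'
    have hfe : f (Y v * Y v') = f (Y (v + v')) := by
      rw [suzB_f_mul hH co f hf, hY, hY, hY, suzB_smulAut_add]
    have A := suzB_w_mul_right hH co hTab (hwT u v) (hwT u v')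
    have B := suzB_w_congr_right hH co hTab f hf hDT A.1 hfe
    exact B.2.trans A.2
  have hrel : ∀ u v, u * σ (co.lg (suzW (X u) (Y v) * suzW (X u) (Y v)))
      = v * τ (co.lg (suzW (X u) (Y v) * suzW (X u) (Y v))) := by
    intro u v
    have hxy : (X u * Y v) * (X u * Y v) ∈ suzT P := hDT _ (suzB_sq_mem_D hH _)
    have e : (X u * Y v) * (X u * Y v) = (X u * X u) * suzW (X u) (Y v) * (Y v * Y v) := by
      unfold suzW; group
    have h1 := hf (X u * Y v) _ hxy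
    have e1 : ((X u * Y v) * (X u * Y v))⁻¹ * (X u * Y v)⁻¹ * ((X u * Y v) * (X u * Y v))
        * (X u * Y v) = 1 := by group
    rw [e1, co.lg_one] at h1
    have h2 : co.lg ((X u * Y v) * (X u * Y v) * ((X u * Y v) * (X u * Y v)))
        = co.lg (suzW (X u) (Y v) * suzW (X u) (Y v)) := by
      rw [e, suzB_tau_add co hTab (Subgroup.mul_mem _ (center_le_suzT (hXsq u)) (hwT u v))
        (center_le_suzT (hYsq v)), suzB_tau_add co hTab (center_le_suzT (hXsq u)) (hwT u v),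
        suzB_tau_center hH co (hXsq u), suzB_tau_center hH co (hYsq v), zero_add, add_zero]
    rw [h2, suzB_f_mul hH co f hf, hX, hY, AddMonoidHom.add_apply, smulAut_apply,
      smulAut_apply] at h1
    exact CharTwo.add_eq_zero.1 h1
  have hB0 := suzAlg2 σ τ hσ hτ
    (fun u v => co.lg (suzW (X u) (Y v) * suzW (X u) (Y v))) hB1 hB2 hrel
  have C1 := suzB_w_congr_left hH co hTab f hf hDT (hwT u v) ((hX u).trans hx.symm)
  have C2 := suzB_w_congr_right hH co hTab f hf hDT C1.1 ((hY v).trans hy.symm)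
  exact (suzB_tau_zero hH co C2.1).1 (C2.2.trans (C1.2.trans (hB0 u v)))

include hH hTab hf in
theorem suzB_G_sq (hDT : ∀ d ∈ centralizer (suzT P : Set P), d ∈ suzT P)
    (σ τ : F ≃+* F) (hσ : σ ≠ RingEquiv.refl F) (hτ : τ ≠ RingEquiv.refl F)
    (hMσ : ∀ c, ∃ x, f x = smulAut c σ) (hMτ : ∀ c, ∃ x, f x = smulAut c τ)
    {g : P} {c c' : F} (hg : f g = smulAut c σ + smulAut c' τ) : g * g ∈ center P := by
  obtain ⟨x, hx⟩ := hMσ c
  obtain ⟨y, hy⟩ := hMτ c'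
  have hw := suzB_w_center hH co hTab f hf hDT σ τ hσ hτ hMσ hMτ hx hy
  have hxx := suzB_sq_of_smul hH co f hf hDT hx
  have hyy := suzB_sq_of_smul hH co f hf hDT hy
  have hh : (x * y) * (x * y) ∈ center P := by
    have e : (x * y) * (x * y) = (x * x) * suzW x y * (y * y) := by unfold suzW; group
    rw [e]; exact Subgroup.mul_mem _ (Subgroup.mul_mem _ hxx hw) hyy
  have hd : (x * y)⁻¹ * g ∈ suzT P :=
    suzB_f_eq_mem hH co f hf hDT (by rw [suzB_f_mul hH co f hf, hx, hy, hg])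
  obtain ⟨h, hh'⟩ : ∃ h, h = x * y := ⟨_, rfl⟩
  rw [← hh'] at hh hd
  obtain ⟨d, hd'⟩ : ∃ d, d = h⁻¹ * g := ⟨_, rfl⟩
  rw [← hd'] at hd
  have hg' : g = h * d := by rw [hd']; group
  have hcomm : d⁻¹ * h⁻¹ * d * h ∈ center P := hd.2 h
  have hcd := Subgroup.mem_center_iff.1 hcomm d
  have e : g * g = (h * h) * ((d * (d⁻¹ * h⁻¹ * d * h)) * d) := by rw [hg']; group
  rw [e, hcd, mul_assoc (d⁻¹ * h⁻¹ * d * h) d d]
  exact Subgroup.mul_mem _ hh (Subgroup.mul_mem _ hcomm hd.1)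

/-- Counting in a `K`-invariant subgroup all of whose squares are central. -/
theorem suz_count_sub (hH : SuzHyp P K) (G : Subgroup P)
    (hGK : ∀ k : K, ∀ g ∈ G, (k : MulAut P) g ∈ G) (hZG : center P ≤ G)
    (hsq : ∀ g ∈ G, g * g ∈ center P) :
    Nat.card G = Nat.card (center P) ∨ Nat.card G = Nat.card (center P) ^ 2 ∨
      Nat.card G = Nat.card (center P) ^ 3 := by
  obtain ⟨z₀, -, -, hz₀1, hz₀2, -, -⟩ := hH.two
  have hz₀Z : z₀ ∈ center P := (hH.cent z₀).2 hz₀2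
  have hcardZ : Nat.card ((center P).subgroupOf G) = Nat.card (center P) :=
    Nat.card_congr (Subgroup.subgroupOfEquivOfLe hZG).toEquiv
  rw [← hcardZ]
  refine suzCount (hH.pgrp.to_subgroup G) ((center P).subgroupOf G) ?_ ?_ ?_ ?_ ?_
    (Nat.card {g : ↥G // g * g = ⟨z₀, hZG hz₀Z⟩}) ?_
  · intro z hz g
    exact Subtype.ext (Subgroup.mem_center_iff.1 (Subgroup.mem_subgroupOf.1 hz) g)
  · intro g
    rw [Subgroup.mem_subgroupOf]
    exact hsq g g.2
  · intro g hg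
    rw [Subgroup.mem_subgroupOf, hH.cent]
    exact congrArg Subtype.val hg
  · intro z hz
    exact Subtype.ext (hH.sq_one (Subgroup.mem_subgroupOf.1 hz))
  · intro hbot
    have : (⟨z₀, hZG hz₀Z⟩ : ↥G) ∈ (center P).subgroupOf G := Subgroup.mem_subgroupOf.2 hz₀Z
    rw [hbot, Subgroup.mem_bot] at this
    exact hz₀1 (congrArg Subtype.val this)
  · intro z hz hz1
    have hzZ : (z : P) ∈ center P := Subgroup.mem_subgroupOf.1 hz
    have hz1' : (z : P) ≠ 1 := fun h => hz1 (Subtype.ext h)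
    obtain ⟨k, hk⟩ := hH.trans z₀ z hz₀1 hz₀2 hz1' (hH.sq_one hzZ)
    have h1 : ∀ d ∈ G, (k : MulAut P) d ∈ G := hGK k
    have h2 : ∀ d ∈ G, (k : MulAut P)⁻¹ d ∈ G := hGK ⟨(k : MulAut P)⁻¹, K.inv_mem k.2⟩
    symm
    refine Nat.card_congr (Equiv.subtypeEquiv (resAut (k : MulAut P) G h1 h2).toEquiv ?_)
    intro g
    constructor
    · intro h
      apply Subtype.ext
      have h' : (g : P) * (g : P) = z₀ := congrArg Subtype.val h
      show (k : MulAut P) g * (k : MulAut P) g = z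
      rw [← map_mul, h', hk]
    · intro h
      apply Subtype.ext
      have h' : (k : MulAut P) g * (k : MulAut P) g = z := congrArg Subtype.val h
      show (g : P) * (g : P) = z₀
      apply (k : MulAut P).injective
      rw [map_mul, hk]; exact h'

omit [Finite P] [Fintype F] [CharP F 2] in
/-- `G = f⁻¹(Fσ + Fτ)` -/
def suzB_G (f : P → (F →+ F)) (hmul : ∀ x y, f (x * y) = f x + f y)
    (hinv : ∀ x, f x⁻¹ = f x) (σ τ : F ≃+* F) : Subgroup P where
  carrier := {g | ∃ c c', f g = smulAut c σ + smulAut c' τ}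
  mul_mem' := by
    rintro x y ⟨c₁, c₁', h₁⟩ ⟨c₂, c₂', h₂⟩
    refine ⟨c₁ + c₂, c₁' + c₂', ?_⟩
    rw [hmul, h₁, h₂, suzB_smulAut_add, suzB_smulAut_add]; abel
  one_mem' := by
    have h0 : f 1 = 0 := by have := hmul 1 1; rw [mul_one] at this; exact left_eq_add.mp this
    exact ⟨0, 0, by rw [h0, suzB_smulAut_zero, suzB_smulAut_zero, add_zero]⟩
  inv_mem' := by
    rintro x ⟨c, c', h⟩
    exact ⟨c, c', by rw [hinv, h]⟩

omit [Finite P] [Fintype F] [CharP F 2] in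
theorem suzCoord_card {Z : Subgroup P} (co : SuzCoord P Z K F) : Nat.card Z = Nat.card F := by
  symm
  refine Nat.card_congr (Equiv.ofBijective (fun a : F => (⟨co.e a, co.e_mem a⟩ : ↥Z)) ⟨?_, ?_⟩)
  · intro a b h
    exact co.e_inj (congrArg Subtype.val h)
  · intro z
    obtain ⟨a, ha⟩ := co.e_surj z z.2
    exact ⟨a, Subtype.ext ha⟩

include hH hTab hf in
theorem suzB_two_false (hDT : ∀ d ∈ centralizer (suzT P : Set P), d ∈ suzT P)
    (σ τ : F ≃+* F) (hσ : σ ≠ RingEquiv.refl F) (hτ : τ ≠ RingEquiv.refl F) (hστ : τ ≠ σ)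
    (hMσ : ∀ c, ∃ x, f x = smulAut c σ) (hMτ : ∀ c, ∃ x, f x = smulAut c τ) : False := by
  have hmul := suzB_f_mul hH co f hf
  have hinv := suzB_f_inv hH co f hf
  have hfT : ∀ t ∈ suzT P, f t = 0 := fun t ht =>
    (suzB_f_zero hH co f hf t).2 (suzB_T_le_D hTab ht)
  have hcount := suz_count_sub hH (suzB_G f hmul hinv σ τ) (by
      rintro k g ⟨c, c', hg⟩
      refine ⟨co.u k * (σ (co.u k))⁻¹ * c, co.u k * (τ (co.u k))⁻¹ * c', ?_⟩
      rw [suzB_f_act hH co f hf, hg]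
      refine DFunLike.ext _ _ (fun b => ?_)
      simp only [conjF_apply, AddMonoidHom.add_apply, smulAut_apply, map_mul, map_inv₀]
      ring) (by
      intro z hz
      refine ⟨0, 0, ?_⟩
      rw [suzB_smulAut_zero, suzB_smulAut_zero, add_zero]
      exact hfT z (center_le_suzT hz)) (by
      rintro g ⟨c, c', hg⟩
      exact suzB_G_sq hH co hTab f hf hDT σ τ hσ hτ hMσ hMτ hg)
  choose X hX using hMσ
  choose Y hY using hMτ
  choose sec hsecT hsec using suzB_tau_surj hH co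
  have hmem : ∀ p : (F × F) × (F × F),
      X p.2.1 * Y p.2.2 * sec p.1.1 * co.e p.1.2 ∈ suzB_G f hmul hinv σ τ := by
    intro p
    refine ⟨p.2.1, p.2.2, ?_⟩
    rw [hmul, hmul, hmul, hX, hY, hfT _ (hsecT _), hfT _ (center_le_suzT (co.e_mem _)), add_zero,
      add_zero]
  have hψ : Function.Injective (fun p : (F × F) × (F × F) =>
      (⟨X p.2.1 * Y p.2.2 * sec p.1.1 * co.e p.1.2, hmem p⟩ : ↥(suzB_G f hmul hinv σ τ))) := by
    rintro ⟨⟨a, b⟩, ⟨c, c'⟩⟩ ⟨⟨a₁, b₁⟩, ⟨c₁, c₁'⟩⟩ h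
    have h0 : X c * Y c' * sec a * co.e b = X c₁ * Y c₁' * sec a₁ * co.e b₁ :=
      congrArg Subtype.val h
    have hf0 := congrArg f h0
    rw [hmul, hmul, hmul, hmul, hmul, hmul, hX, hY, hX, hY, hfT _ (hsecT _), hfT _ (hsecT _),
      hfT _ (center_le_suzT (co.e_mem _)), hfT _ (center_le_suzT (co.e_mem _)), add_zero, add_zero,
      add_zero, add_zero] at hf0
    have hc : c = c₁ := by
      have := congrArg (fun g => coef g σ) hf0
      simp only [coef_add, Pi.add_apply, coef_smulAut_self, coef_smulAut_ne _ τ σ hστ.symm,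
        add_zero] at this
      exact this
    have hc' : c' = c₁' := by
      have := congrArg (fun g => coef g τ) hf0
      simp only [coef_add, Pi.add_apply, coef_smulAut_self, coef_smulAut_ne _ σ τ hστ,
        zero_add] at this
      exact this
    subst hc hc'
    have h1 : sec a * co.e b = sec a₁ * co.e b₁ := by
      rw [mul_assoc, mul_assoc (X c * Y c')] at h0
      exact mul_left_cancel h0
    have ha : a = a₁ := by
      have h2 : co.lg (sec a * co.e b * (sec a * co.e b))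
          = co.lg (sec a₁ * co.e b₁ * (sec a₁ * co.e b₁)) := by rw [h1]
      rw [suzB_tau_add co hTab (hsecT a) (center_le_suzT (co.e_mem b)),
        suzB_tau_add co hTab (hsecT a₁) (center_le_suzT (co.e_mem b₁)), hsec, hsec,
        suzB_tau_center hH co (co.e_mem b), suzB_tau_center hH co (co.e_mem b₁), add_zero,
        add_zero] at h2
      exact h2
    subst ha
    have hb : b = b₁ := co.e_inj (mul_left_cancel h1)
    subst hb
    rfl
  have hle := Nat.card_le_card_of_injective _ hψ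
  have hq : Nat.card (center P) = Fintype.card F := by
    rw [suzCoord_card co, Nat.card_eq_fintype_card]
  have hq4 : Nat.card ((F × F) × (F × F)) = Fintype.card F ^ 4 := by
    rw [Nat.card_prod, Nat.card_prod, Nat.card_eq_fintype_card]; ring
  have hq1 : 1 < Fintype.card F := Fintype.one_lt_card
  rw [hq4] at hle
  rw [hq] at hcount
  have l1 : Fintype.card F ^ 1 < Fintype.card F ^ 4 := Nat.pow_lt_pow_right hq1 (by norm_num)
  have l2 : Fintype.card F ^ 2 < Fintype.card F ^ 4 := Nat.pow_lt_pow_right hq1 (by norm_num)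
  have l3 : Fintype.card F ^ 3 < Fintype.card F ^ 4 := Nat.pow_lt_pow_right hq1 (by norm_num)
  rw [pow_one] at l1
  rcases hcount with h | h | h <;> omega

include hH co hTab in
/-- Branch B: if `T` is abelian then all squares are central. -/
theorem suz_branchB_aux : ∀ x : P, x * x ∈ center P := by
  obtain ⟨f, hf⟩ := suzB_exists_f hH co hTab
  have hDT := suzB_D_le_T hH co hTab f hf
  obtain ⟨σ, hσ, hMσ⟩ := suzB_sigma hH co hTab f hf
  by_cases hall : ∀ x, ∃ c, f x = smulAut c σ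
  · intro x
    obtain ⟨c, hc⟩ := hall x
    exact suzB_sq_of_smul hH co f hf hDT hc
  exfalso
  push Not at hall
  obtain ⟨x₀, hx₀⟩ := hall
  have hmul := suzB_f_mul hH co f hf
  have hconj : ∀ a : F, a ≠ 0 → ∀ g ∈ suzB_M f hmul, conjF a g ∈ suzB_M f hmul := by
    rintro a ha _ ⟨x, rfl⟩
    obtain ⟨k, rfl⟩ := co.u_surj a ha
    exact ⟨(k : MulAut P) x, suzB_f_act hH co f hf k x⟩
  have hfree : ∀ a : F, a ≠ 0 → ∀ g ∈ suzB_M f hmul, g ≠ 0 → conjF a g = g → a = 1 := by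
    rintro a ha _ ⟨x, rfl⟩ hx0 hfix
    obtain ⟨k, rfl⟩ := co.u_surj a ha
    by_contra h1
    have hk : k ≠ 1 := by
      rintro rfl
      exact h1 co.u_one
    have h2 : f ((k : MulAut P) x * x⁻¹) = 0 := by
      rw [hmul, suzB_f_act hH co f hf k x, hfix, suzB_f_inv hH co f hf x]
      refine DFunLike.ext _ _ (fun b => ?_)
      simp [CharTwo.add_self_eq_zero]
    have h3 := (suzB_f_zero hH co f hf _).1 h2
    have h4 := suz_free_coset hH _ (fun k d hd => suzB_D_act _ hd) k hk x h3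
    exact hx0 ((suzB_f_zero hH co f hf x).2 h4)
  obtain ⟨τ, hτ, hτσ, hMτ⟩ := suzAlg1' (suzB_hF hH co) (suzB_M f hmul) hconj hfree σ
    (fun c => hMσ c) (f x₀) ⟨x₀, rfl⟩ hx₀
  exact suzB_two_false hH co hTab f hf hDT σ τ hσ hτ hτσ hMσ (fun c => hMτ c)

end branchB

section final

variable {P : Type u} [Group P] [Finite P] {K : Subgroup (MulAut P)}

theorem suz_sq_central (hH : SuzHyp P K) : ∀ x : P, x * x ∈ center P := by
  by_cases hT : ∃ s ∈ suzT P, ∃ t ∈ suzT P, s * t ≠ t * s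
  · exact suz_branchA hH hT
  push Not at hT
  obtain ⟨z₀, -, -, hz₀1, hz₀2, -, -⟩ := hH.two
  obtain ⟨F, _, _, _, ⟨co⟩⟩ := exists_suzCoord (center P) K hH.kcomm
    (fun z hz z' _ => (Subgroup.mem_center_iff.1 hz z').symm)
    (fun z hz => hH.sq_one hz)
    (fun k z hz => Cfsg.Agent.Helper50.mulAut_mem_center _ hz)
    z₀ ((hH.cent z₀).2 hz₀2) hz₀1
    (fun z hz hz1 => hH.trans z₀ z hz₀1 hz₀2 hz1 (hH.sq_one hz))
  exact suz_branchB_aux hH co hT

/-- **Higman's theorem** on Suzuki 2-groups. -/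
theorem suz_higman {P : Type u} [Group P] (hP : Cfsg.IsSuzukiTwoGroup P) :
    (∀ x : P, x * x ∈ center P) ∧ (∀ x y : P, x⁻¹ * y⁻¹ * x * y ∈ center P) ∧
      (Nat.card P = Nat.card (center P) ^ 2 ∨ Nat.card P = Nat.card (center P) ^ 3) ∧
      Monoid.exponent P = 4 := by
  obtain ⟨hfin, K, hH⟩ := suzHyp_of_isSuzukiTwoGroup hP
  haveI := hfin
  have hsq := suz_sq_central hH
  have hcomm : ∀ x y : P, x⁻¹ * y⁻¹ * x * y ∈ center P := by
    intro x y
    have e : x⁻¹ * y⁻¹ * x * y = (x⁻¹ * x⁻¹) * ((x * y⁻¹) * (x * y⁻¹)) * (y * y) := by group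
    rw [e]
    exact Subgroup.mul_mem _ (Subgroup.mul_mem _ (hsq x⁻¹) (hsq _)) (hsq y)
  have hd : Monoid.exponent P ∣ 4 := by
    apply Monoid.exponent_dvd_of_forall_pow_eq_one
    intro x
    have := hH.sq_one (hsq x)
    calc x ^ 4 = (x * x) * (x * x) := by simp only [pow_succ, pow_zero, one_mul, mul_assoc]
      _ = 1 := this
  have hnd : ¬ Monoid.exponent P ∣ 2 := by
    intro h
    rw [Monoid.exponent_dvd_iff_forall_pow_eq_one] at h
    obtain ⟨x, y, hxy⟩ := hH.na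
    have hy : y ∈ center P := by
      rw [hH.cent, ← pow_two]; exact h y
    exact hxy (Subgroup.mem_center_iff.1 hy x)
  refine ⟨hsq, hcomm, ?_, ?_⟩
  · have h := suz_count_sub hH ⊤ (fun k g _ => Subgroup.mem_top _) le_top (fun g _ => hsq g)
    rw [Subgroup.card_top] at h
    rcases h with h | h | h
    · exfalso
      have htop : center P = ⊤ := Subgroup.eq_top_of_card_eq _ h.symm
      obtain ⟨x, y, hxy⟩ := hH.na
      have hy : y ∈ center P := by rw [htop]; exact Subgroup.mem_top y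
      exact hxy (Subgroup.mem_center_iff.1 hy x)
    · left; exact h
    · right; exact h
  · obtain ⟨i, hi, he⟩ := (Nat.dvd_prime_pow Nat.prime_two).1 (show Monoid.exponent P ∣ 2 ^ 2 from hd)
    interval_cases i
    · exfalso; apply hnd; rw [he]; norm_num
    · exfalso; apply hnd; rw [he]; norm_num
    · rw [he]; norm_num

end final

end Cfsg.Agent.Helper29
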